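import Cfsg.Agent.Lib.Spor.JankoFour.ThreeLocal
import Cfsg.Agent.Lib.Spor.LargeJ4.Fused

/-!
The centraliser of the distinguished subgroup of order three in the involution centraliser of a group
of Janko-four type is the perfect sixfold cover of `M22`.
-/

set_option autoImplicit false
set_option maxRecDepth 100000

namespace CfsgLib.Spor.JankoFour.ThreeLocal

open Cfsg CfsgLib.Spor
open CfsgLib.Spor.LargeFi.J4 (center_M22 conj_injective)

/-- an automorphism of `M22` commuting with every inner one is trivial -/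
theorem eq_one_of_commute_inn {α : MulAut ↥Cfsg.Spor.M22}
    (h : ∀ g, Commute α (MulAut.conj g)) : α = 1 := by
  refine MulEquiv.ext fun g => conj_injective (MulEquiv.ext fun x => ?_)
  have h1 := DFunLike.congr_fun (h g).eq (α⁻¹ x)
  simp only [MulAut.mul_apply, MulAut.conj_apply, MulAut.apply_inv_self, map_mul, map_inv] at h1
  simp only [MulAut.one_apply, MulAut.conj_apply]
  rw [h1]

/-- a small normal subgroup of the automorphism group of `M22` is trivial -/
theorem eq_bot_of_normal_aut {S : Subgroup (MulAut ↥Cfsg.Spor.M22)} [S.Normal]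
    (hc : Nat.card ↥S ∣ 24576) : S = ⊥ := by
  haveI := LargeFi.J4.isSimpleGroup_M22
  set T := S.comap (MulAut.conj : ↥Cfsg.Spor.M22 →* MulAut ↥Cfsg.Spor.M22) with hT
  haveI : T.Normal := Subgroup.Normal.comap inferInstance _
  rcases (inferInstance : T.Normal).eq_bot_or_eq_top with h | h
  · refine (Subgroup.eq_bot_iff_forall _).2 fun α hα => eq_one_of_commute_inn fun g => ?_
    have h1 : α * MulAut.conj g * α⁻¹ = MulAut.conj (α g) := MulEquiv.ext fun x => by
      simp [MulAut.mul_apply, map_mul, map_inv, MulAut.apply_inv_self]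
    have h2 : α g * g⁻¹ ∈ T := by
      show MulAut.conj (α g * g⁻¹) ∈ S
      rw [map_mul, map_inv, ← h1, show α * MulAut.conj g * α⁻¹ * (MulAut.conj g)⁻¹ =
        α * (MulAut.conj g * α⁻¹ * (MulAut.conj g)⁻¹) by group]
      exact mul_mem hα ((inferInstance : S.Normal).conj_mem _ (inv_mem hα) _)
    rw [h, Subgroup.mem_bot, mul_inv_eq_one] at h2
    rw [h2] at h1
    exact mul_inv_eq_iff_eq_mul.1 h1
  · exfalso
    have hle : Cfsg.Inn ↥Cfsg.Spor.M22 ≤ S := by
      rintro _ ⟨g, rfl⟩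
      exact (h ▸ Subgroup.mem_top g : g ∈ T)
    have h1 := (Subgroup.card_dvd_of_le hle).trans hc
    rw [LargeFi.J4.card_inn] at h1
    norm_num at h1

variable {G : Type*} [Group G] [Finite G] {z : G} {P : Subgroup G}

/-- three involutions centralised by `P`, with their products on both sides of the fusion -/
theorem exists_fixed_triple [IsSimpleGroup G] (hG : ¬ IsMulCommutative G)
    (hJ : Cfsg.IsOfJankoFourTypeWith z P) :
    ∃ a b c : G,
      (∀ w ∈ ({a, b, c, a * b, a * c} : Set G),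
        w ∈ Subgroup.centralizer ({z} : Set G) ⊓ Subgroup.centralizer (P : Set G) ∧
          w * w = 1 ∧ w ≠ 1 ∧ w ≠ z) ∧
      ¬ IsConj z a ∧ ¬ IsConj z b ∧ ¬ IsConj z c ∧ ¬ IsConj z (a * b) ∧ IsConj z (a * c) := by
  classical
  haveI : Fact (Nat.Prime 3) := ⟨Nat.prime_three⟩
  have hP : Nat.card ↥P = 3 := hJ.2.2.2.2.2.1
  obtain ⟨N, φ, hφ, hker, hNc, hHc, hPH, hφP, hkc⟩ := exists_kernel_frame hJ
  obtain ⟨D, hE, B, hN⟩ := LargeFi.J4.exists_coordinates hG hJ
  -- the scalar lies in the kernel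
  have hQ1 : ∀ q ∈ LargeFi.J4.coreH z, φ q = 1 := by
    intro q hq
    haveI : ((LargeFi.J4.coreH z).map φ).Normal := Subgroup.Normal.map inferInstance φ hφ
    have h1 : (LargeFi.J4.coreH z).map φ = ⊥ := eq_bot_of_normal_aut (by
      refine (Subgroup.card_map_dvd _ _).trans ?_
      rw [D.card_Q]; norm_num)
    exact Subgroup.mem_bot.1 (h1 ▸ Subgroup.mem_map_of_mem φ hq)
  have hMI : Cfsg.Inn ↥Cfsg.Spor.M22 ≤ D.M.map φ := by
    have h1 := D.M.index_map_dvd hφ
    rw [D.M_index] at h1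
    rcases (Nat.dvd_prime Nat.prime_two).1 h1 with h | h
    · rw [Subgroup.index_eq_one.1 h]; exact le_top
    · exact (LargeFi.J4.inn_le_of_index_two h).ge
  have hx1 : φ B.x = 1 := eq_one_of_commute_inn fun g => by
    obtain ⟨m, hm, hmg⟩ := hMI ⟨g, rfl⟩
    have hq : m * B.x * m⁻¹ * B.x⁻¹ ∈ LargeFi.J4.coreH z := by
      refine (D.ker_act _).1 ?_
      obtain ⟨l, -, hl⟩ := D.M_lin m hm
      have e : D.act (m * B.x) = D.act (B.x * m) := AddMonoidHom.ext fun v => by
        rw [map_mul, map_mul]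
        show D.act m (D.act B.x v) = D.act B.x (D.act m v)
        rw [B.x_act, B.x_act, hl, hl, Matrix.mulVec_smul]
      rw [show m * B.x * m⁻¹ * B.x⁻¹ = (m * B.x) * (B.x * m)⁻¹ by group, map_mul, e, ← map_mul,
        mul_inv_cancel, map_one]
    have h := hQ1 _ hq
    rw [map_mul, map_mul, map_mul, map_inv, map_inv, hmg, mul_inv_eq_one, mul_inv_eq_iff_eq_mul] at h
    exact h.symm
  have hxN : B.x ∈ N := hker ▸ MonoidHom.mem_ker.2 hx1
  have hxone : B.x ≠ 1 := B.x_ne_one
  have hxo : orderOf B.x = 3 := orderOf_eq_prime B.x_three hxone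
  -- move it into `P`
  have hPN : P.subgroupOf (Subgroup.centralizer ({z} : Set G)) ≤ N := fun x hx =>
    hker ▸ MonoidHom.mem_ker.2 (hφP x hx)
  set PN := (P.subgroupOf (Subgroup.centralizer ({z} : Set G))).subgroupOf N with hPNdef
  have hPNc : Nat.card ↥PN = 3 := by
    rw [hPNdef, Nat.card_congr (Subgroup.subgroupOfEquivOfLe hPN).toEquiv,
      Nat.card_congr (Subgroup.subgroupOfEquivOfLe hPH).toEquiv, hP]
  have hPNi : PN.index = 8192 := by
    have h1 := PN.card_mul_index
    rw [hPNc, hNc] at h1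
    omega
  let SP : Sylow 3 ↥N := (IsPGroup.of_card (n := 1) (by rw [hPNc, pow_one])).toSylow
    (by rw [hPNi]; norm_num)
  have hup : IsPGroup 3 ↥(Subgroup.zpowers (⟨B.x, hxN⟩ : ↥N)) :=
    IsPGroup.of_card (n := 1) (by rw [Nat.card_zpowers, Subgroup.orderOf_mk, hxo, pow_one])
  obtain ⟨U, hU3⟩ := hup.exists_le_sylow
  obtain ⟨n, hn⟩ := MulAction.exists_smul_eq ↥N U SP
  have hnu : MulAut.conj n • (⟨B.x, hxN⟩ : ↥N) ∈ (n • U : Sylow 3 ↥N) :=
    Subgroup.smul_mem_pointwise_smul _ _ _ (hU3 (Subgroup.mem_zpowers _))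
  rw [hn] at hnu
  set g : G := ((n : ↥(Subgroup.centralizer ({z} : Set G))) : G) with hg
  have hgz : g ∈ Subgroup.centralizer ({z} : Set G) := (n : ↥(Subgroup.centralizer ({z} : Set G))).2
  have hpP : g * (B.x : G) * g⁻¹ ∈ P := hnu
  have hp1 : g * (B.x : G) * g⁻¹ ≠ 1 := fun e => hxone (Subtype.ext (conj_eq_one_iff.1 e))
  set f : ℕ → G := fun k => g * B.elG k * g⁻¹ with hf
  have hfix : ∀ k < 2048, LargeFi.J4.xC k = k →
      f k ∈ Subgroup.centralizer ({z} : Set G) ⊓ Subgroup.centralizer (P : Set G) := by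
    intro k hk hxk
    have hH : B.elG k ∈ Subgroup.centralizer ({z} : Set G) := SetLike.coe_mem _
    refine ⟨Subgroup.mul_mem _ (Subgroup.mul_mem _ hgz hH) (Subgroup.inv_mem _ hgz),
      Subgroup.mem_centralizer_iff.2 fun q hq => ?_⟩
    have h1 : Commute (B.x : G) (B.elG k) := by
      have h2 := B.x_conj hk
      rw [hxk, mul_inv_eq_iff_eq_mul] at h2
      exact congrArg Subtype.val h2
    have h3 : Commute (g * (B.x : G) * g⁻¹) (f k) := h1.conj g
    rcases ThreeClass.eq_pow_of_mem hP hpP hp1 hq with rfl | rfl | rfl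
    · simp
    · exact h3.eq
    · exact (h3.pow_left 2).eq
  have hfmul : ∀ i j, f i * f j = f (Nat.xor i j) := fun i j => by
    show g * B.elG i * g⁻¹ * (g * B.elG j * g⁻¹) = g * B.elG (Nat.xor i j) * g⁻¹
    rw [B.elG_xor]; group
  have hgzc : g * z * g⁻¹ = z := by
    rw [Subgroup.mem_centralizer_singleton_iff.1 hgz, mul_inv_cancel_right]
  have hall : ∀ k < 2048, 2 ≤ k → LargeFi.J4.xC k = k →
      f k ∈ Subgroup.centralizer ({z} : Set G) ⊓ Subgroup.centralizer (P : Set G) ∧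
        f k * f k = 1 ∧ f k ≠ 1 ∧ f k ≠ z := by
    intro k hk hk2 hxk
    refine ⟨hfix k hk hxk, ?_, ?_, ?_⟩
    · rw [hfmul, show Nat.xor k k = 0 from Nat.xor_self k]
      show g * B.elG 0 * g⁻¹ = 1
      rw [B.elG_zero, mul_one, mul_inv_cancel]
    · intro e
      have := B.elG_injOn hk (by norm_num) ((conj_eq_one_iff.1 e).trans B.elG_zero.symm)
      omega
    · intro e
      have e' : B.elG k = B.elG 1 := by
        rw [B.elG_one]
        exact mul_right_injective g (mul_left_injective g⁻¹ (e.trans hgzc.symm))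
      have := B.elG_injOn hk (by norm_num) e'
      omega
  have hPC : ∀ k, IsConj z (f k) ↔ B.PC k := fun k =>
    ⟨fun h => h.trans (isConj_iff.2 ⟨g, rfl⟩).symm, fun h => h.trans (isConj_iff.2 ⟨g, rfl⟩)⟩
  have hd := B.signs hE hN
  have hnot : ∀ k, k ∈ LargeFi.J4.dL 0 1 → ¬ B.PC k := fun k hk =>
    ((B.mem_dSet).1 (hd ▸ List.mem_toFinset.2 hk)).2.2
  have h128 : (128 ∈ LargeFi.J4.dL 0 1) ∧ (256 ∈ LargeFi.J4.dL 0 1) ∧ (512 ∈ LargeFi.J4.dL 0 1) ∧
      (384 ∈ LargeFi.J4.dL 0 1) ∧ (640 ∉ LargeFi.J4.dL 0 1) := by decide +kernel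
  have hxc : LargeFi.J4.xC 128 = 128 ∧ LargeFi.J4.xC 256 = 256 ∧ LargeFi.J4.xC 512 = 512 ∧
      LargeFi.J4.xC 384 = 384 ∧ LargeFi.J4.xC 640 = 640 := by decide +kernel
  obtain ⟨x1, x2, x3, x4, x5⟩ := hxc
  obtain ⟨d1, d2, d3, d4, d5⟩ := h128
  have e3 : f 128 * f 256 = f 384 := hfmul 128 256
  have e5 : f 128 * f 512 = f 640 := hfmul 128 512
  refine ⟨f 128, f 256, f 512, ?_, (hPC _).not.2 (hnot _ d1), (hPC _).not.2 (hnot _ d2),
    (hPC _).not.2 (hnot _ d3), e3 ▸ (hPC _).not.2 (hnot _ d4), e5 ▸ (hPC _).2 ?_⟩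
  · intro w hw
    simp only [Set.mem_insert_iff, Set.mem_singleton_iff] at hw
    rcases hw with rfl | rfl | rfl | rfl | rfl
    · exact hall _ (by norm_num) (by norm_num) x1
    · exact hall _ (by norm_num) (by norm_num) x2
    · exact hall _ (by norm_num) (by norm_num) x3
    · rw [e3]; exact hall _ (by norm_num) (by norm_num) x4
    · rw [e5]; exact hall _ (by norm_num) (by norm_num) x5
  · by_contra hc
    exact d5 (List.mem_toFinset.1 (hd ▸ B.mem_dSet.2 ⟨by norm_num, by norm_num, hc⟩))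

/-- the sixfold cover -/
theorem cover [IsSimpleGroup G] (hG : ¬ IsMulCommutative G) (hJ : Cfsg.IsOfJankoFourTypeWith z P) :
    ⁅(Subgroup.centralizer ({z} : Set G) ⊓ Subgroup.centralizer (P : Set G)),
      (Subgroup.centralizer ({z} : Set G) ⊓ Subgroup.centralizer (P : Set G))⁆ =
        (Subgroup.centralizer ({z} : Set G) ⊓ Subgroup.centralizer (P : Set G)) ∧
    IsCyclic ↥(Subgroup.center ↥(Subgroup.centralizer ({z} : Set G) ⊓ Subgroup.centralizer (P : Set G))) ∧
    Nat.card ↥(Subgroup.center ↥(Subgroup.centralizer ({z} : Set G) ⊓ Subgroup.centralizer (P : Set G))) = 6 ∧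
    Cfsg.Spor.IsoM22 (↥(Subgroup.centralizer ({z} : Set G) ⊓ Subgroup.centralizer (P : Set G)) ⧸
      Subgroup.center ↥(Subgroup.centralizer ({z} : Set G) ⊓ Subgroup.centralizer (P : Set G))) := by
  classical
  haveI : Fact (Nat.Prime 3) := ⟨Nat.prime_three⟩
  haveI := LargeFi.J4.isSimpleGroup_M22
  have hz : orderOf z = 2 := hJ.1
  have hzz : z * z = 1 := by rw [← pow_two, ← hz, pow_orderOf_eq_one]
  have hP : Nat.card ↥P = 3 := hJ.2.2.2.2.2.1
  obtain ⟨p0, hp0, hp01⟩ : ∃ p ∈ P, p ≠ (1 : G) := by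
    rcases P.bot_or_exists_ne_one with h | h
    · rw [h, Subgroup.card_bot] at hP; omega
    · exact h
  obtain ⟨N, φ, hφ, hker, hNc, hHc, hPH, hφP, hkc⟩ := exists_kernel_frame hJ
  have himg := image_centralizer hJ hφ hker hNc hφP hkc
  have hPC := hJ.2.2.2.2.2.2.2.2
  obtain ⟨ta, tb, tc, htriple, hna, hnb, hnc, hnab, hac⟩ := exists_fixed_triple hG hJ
  have hpz : ∀ p ∈ P, Commute p z := fun p hp => Subgroup.mem_centralizer_singleton_iff.1 (hPH hp)
  have hp0c : ∀ q ∈ P, ∀ p ∈ P, Commute q p := by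
    have key : ∀ p ∈ P, ∃ k : ℕ, p = p0 ^ k := by
      intro p hp
      rcases ThreeClass.eq_pow_of_mem hP hp0 hp01 hp with h | h | h
      exacts [⟨0, by rw [h, pow_zero]⟩, ⟨1, by rw [h, pow_one]⟩, ⟨2, h⟩]
    intro q hq p hp
    obtain ⟨i, rfl⟩ := key q hq
    obtain ⟨j, rfl⟩ := key p hp
    exact Commute.pow_pow_self p0 i j
  have hzC : z ∈ ((Subgroup.centralizer ({z} : Set G)) ⊓ Subgroup.centralizer (P : Set G) : Subgroup G) := ⟨Subgroup.mem_centralizer_singleton_iff.2 rfl,
    Subgroup.mem_centralizer_iff.2 fun p hp => (hpz p hp).eq⟩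
  have hpC : ∀ p ∈ P, p ∈ ((Subgroup.centralizer ({z} : Set G)) ⊓ Subgroup.centralizer (P : Set G) : Subgroup G) := fun p hp => ⟨hPH hp, Subgroup.mem_centralizer_iff.2 fun q hq =>
    (hp0c q hq p hp).eq⟩
  set ι := Subgroup.inclusion (inf_le_left : ((Subgroup.centralizer ({z} : Set G)) ⊓ Subgroup.centralizer (P : Set G) : Subgroup G) ≤ (Subgroup.centralizer ({z} : Set G))) with hι
  let eI := MonoidHom.ofInjective conj_injective
  let ψ : ↥((Subgroup.centralizer ({z} : Set G)) ⊓ Subgroup.centralizer (P : Set G) : Subgroup G) →* ↥(Cfsg.Inn ↥Cfsg.Spor.M22) := (φ.comp ι).codRestrict _ fun u => by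
    rw [← himg]; exact ⟨ι u, u.2.2, rfl⟩
  let f : ↥((Subgroup.centralizer ({z} : Set G)) ⊓ Subgroup.centralizer (P : Set G) : Subgroup G) →* ↥Cfsg.Spor.M22 := eI.symm.toMonoidHom.comp ψ
  have hf1 : ∀ u, f u = 1 ↔ φ (ι u) = 1 := fun u => by
    show eI.symm (ψ u) = 1 ↔ _
    rw [MulEquiv.map_eq_one_iff]
    exact Subtype.ext_iff
  have hfs : Function.Surjective f := by
    intro g
    obtain ⟨h, hh, hhg⟩ : MulAut.conj g ∈ ((Subgroup.centralizer (P : Set G)).subgroupOf (Subgroup.centralizer ({z} : Set G))).map φ :=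
      himg.symm ▸ ⟨g, rfl⟩
    refine ⟨⟨h, h.2, hh⟩, eI.injective ?_⟩
    show eI (eI.symm (ψ _)) = eI g
    rw [MulEquiv.apply_symm_apply]
    exact Subtype.ext hhg
  have hkerd : ∀ u : ↥((Subgroup.centralizer ({z} : Set G)) ⊓ Subgroup.centralizer (P : Set G) : Subgroup G), f u = 1 → ∃ p ∈ P, ∃ e : G, (e = 1 ∨ e = z) ∧ (u : G) = p * e := fun u hu =>
    hkc (ι u) ((hf1 u).1 hu) (Subgroup.centralizer_le_normalizer _ u.2.2)
  have hfp : ∀ p, (hp : p ∈ P) → f ⟨p, hpC p hp⟩ = 1 := fun p hp => (hf1 _).2 (hφP _ hp)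
  have hfz : f ⟨z, hzC⟩ = 1 := by
    refine Subgroup.mem_bot.1 (center_M22 ▸ Subgroup.mem_center_iff.2 fun v => ?_)
    obtain ⟨u, rfl⟩ := hfs v
    rw [← map_mul, ← map_mul]
    exact congrArg f (Subtype.ext (Subgroup.mem_centralizer_singleton_iff.1 u.2.1))
  -- the kernel
  set w0 : ↥((Subgroup.centralizer ({z} : Set G)) ⊓ Subgroup.centralizer (P : Set G) : Subgroup G) := ⟨p0 * z, mul_mem (hpC p0 hp0) hzC⟩ with hw0
  have hp3 : p0 ^ 3 = 1 := ThreeClass.pow_three_eq_one_of_mem hP hp0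
  have hw0o : orderOf w0 = 6 := by
    rw [hw0, Subgroup.orderOf_mk, (hpz p0 hp0).orderOf_mul_eq_mul_orderOf_of_coprime
      (by rw [hz, orderOf_eq_prime hp3 hp01]; norm_num), hz, orderOf_eq_prime hp3 hp01]
  have hfw0 : f w0 = 1 := by
    rw [show w0 = ⟨p0, hpC p0 hp0⟩ * ⟨z, hzC⟩ from rfl, map_mul, hfp p0 hp0, hfz, one_mul]
  have hkz : f.ker = Subgroup.zpowers w0 := by
    refine le_antisymm (fun u hu => ?_) (Subgroup.zpowers_le.2 hfw0)
    obtain ⟨p, hp, e, he, hpe⟩ := hkerd u hu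
    have h4 : ((w0 ^ 4 : ↥((Subgroup.centralizer ({z} : Set G)) ⊓ Subgroup.centralizer (P : Set G) : Subgroup G)) : G) = p0 := by
      rw [SubmonoidClass.coe_pow, hw0, (hpz p0 hp0).mul_pow,
        show z ^ 4 = 1 by rw [show (4 : ℕ) = 2 * 2 from rfl, pow_mul, pow_two z, hzz, one_pow],
        mul_one, pow_succ, hp3, one_mul]
    have h3 : ((w0 ^ 3 : ↥((Subgroup.centralizer ({z} : Set G)) ⊓ Subgroup.centralizer (P : Set G) : Subgroup G)) : G) = z := by
      rw [SubmonoidClass.coe_pow, hw0, (hpz p0 hp0).mul_pow, hp3, one_mul, pow_succ, pow_two, hzz,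
        one_mul]
    have h4m : (⟨p0, hpC p0 hp0⟩ : ↥((Subgroup.centralizer ({z} : Set G)) ⊓ Subgroup.centralizer (P : Set G) : Subgroup G)) ∈ Subgroup.zpowers w0 :=
      (Subtype.ext h4 : w0 ^ 4 = ⟨p0, hpC p0 hp0⟩) ▸ pow_mem (Subgroup.mem_zpowers w0) 4
    have h3m : (⟨z, hzC⟩ : ↥((Subgroup.centralizer ({z} : Set G)) ⊓ Subgroup.centralizer (P : Set G) : Subgroup G)) ∈ Subgroup.zpowers w0 :=
      (Subtype.ext h3 : w0 ^ 3 = ⟨z, hzC⟩) ▸ pow_mem (Subgroup.mem_zpowers w0) 3
    have hpm : (⟨p, hpC p hp⟩ : ↥((Subgroup.centralizer ({z} : Set G)) ⊓ Subgroup.centralizer (P : Set G) : Subgroup G)) ∈ Subgroup.zpowers w0 := by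
      rcases ThreeClass.eq_pow_of_mem hP hp0 hp01 hp with rfl | rfl | rfl
      · exact one_mem _
      · exact h4m
      · exact pow_mem h4m 2
    rcases he with rfl | rfl
    · rw [show u = ⟨p, hpC p hp⟩ from Subtype.ext (by rw [hpe, mul_one])]
      exact hpm
    · rw [show u = ⟨p, hpC p hp⟩ * ⟨e, hzC⟩ from Subtype.ext hpe]
      exact mul_mem hpm h3m
  have hcen : Subgroup.center ↥((Subgroup.centralizer ({z} : Set G)) ⊓ Subgroup.centralizer (P : Set G) : Subgroup G) = f.ker := by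
    refine le_antisymm (fun u hu => ?_) (fun u hu => ?_)
    · refine MonoidHom.mem_ker.2 (Subgroup.mem_bot.1 (center_M22 ▸ Subgroup.mem_center_iff.2 fun v => ?_))
      obtain ⟨w, rfl⟩ := hfs v
      rw [← map_mul, ← map_mul, Subgroup.mem_center_iff.1 hu w]
    · obtain ⟨p, hp, e, he, hpe⟩ := hkerd u hu
      refine Subgroup.mem_center_iff.2 fun w => Subtype.ext ?_
      have h1 : Commute (w : G) p := (Subgroup.mem_centralizer_iff.1 w.2.2 p hp).symm
      have h2 : Commute (w : G) e := by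
        rcases he with rfl | rfl
        · exact Commute.one_right _
        · exact Subgroup.mem_centralizer_singleton_iff.1 w.2.1
      show (w : G) * u = u * w
      rw [hpe]
      exact (h1.mul_right h2).eq
  refine ⟨?_, ?_, ?_, ?_⟩
  rotate_left
  · rw [hcen, hkz]; infer_instance
  · rw [hcen, hkz, Nat.card_zpowers, hw0o]
  · exact ⟨(QuotientGroup.quotientMulEquivOfEq hcen).trans
      (QuotientGroup.quotientKerEquivOfSurjective f hfs)⟩
  -- perfectness
  have hM' : commutator ↥Cfsg.Spor.M22 = ⊤ := by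
    refine (inferInstance : (commutator ↥Cfsg.Spor.M22).Normal).eq_bot_or_eq_top.resolve_left fun h => ?_
    refine LargeFi.J4.not_comm_M22 fun a b => ?_
    exact commutatorElement_eq_one_iff_mul_comm.1 (Subgroup.mem_bot.1
      (h ▸ Subgroup.commutator_mem_commutator (Subgroup.mem_top a) (Subgroup.mem_top b)))
  have hlift : ∀ g, ∃ d ∈ commutator ↥((Subgroup.centralizer ({z} : Set G)) ⊓ Subgroup.centralizer (P : Set G) : Subgroup G), f d = g := by
    intro g
    have h1 : (commutator ↥((Subgroup.centralizer ({z} : Set G)) ⊓ Subgroup.centralizer (P : Set G) : Subgroup G)).map f = ⊤ := by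
      rw [commutator_def, Subgroup.map_commutator, Subgroup.map_top_of_surjective f hfs,
        ← commutator_def, hM']
    exact Subgroup.mem_map.1 (h1 ▸ Subgroup.mem_top g)
  have hPD : ∀ p, (hp : p ∈ P) → (⟨p, hpC p hp⟩ : ↥((Subgroup.centralizer ({z} : Set G)) ⊓ Subgroup.centralizer (P : Set G) : Subgroup G)) ∈ commutator ↥((Subgroup.centralizer ({z} : Set G)) ⊓ Subgroup.centralizer (P : Set G) : Subgroup G) := by
    intro p hp
    have h' : p ∈ ⁅((Subgroup.centralizer ({z} : Set G)) ⊓ Subgroup.centralizer (P : Set G) : Subgroup G), ((Subgroup.centralizer ({z} : Set G)) ⊓ Subgroup.centralizer (P : Set G) : Subgroup G)⁆ := hPC hp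
    rw [← Subgroup.map_subtype_commutator] at h'
    obtain ⟨w, hw, hwe⟩ := h'
    rwa [show (⟨p, hpC p hp⟩ : ↥((Subgroup.centralizer ({z} : Set G)) ⊓ Subgroup.centralizer (P : Set G) : Subgroup G)) = w from Subtype.ext hwe.symm]
  set zC : ↥((Subgroup.centralizer ({z} : Set G)) ⊓ Subgroup.centralizer (P : Set G) : Subgroup G) := ⟨z, hzC⟩ with hzCdef
  have hzc : ∀ u : ↥((Subgroup.centralizer ({z} : Set G)) ⊓ Subgroup.centralizer (P : Set G) : Subgroup G), u * zC = zC * u := fun u =>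
    Subtype.ext (Subgroup.mem_centralizer_singleton_iff.1 u.2.1)
  have hzC2 : zC * zC = 1 := Subtype.ext hzz
  have hcover : ∀ u : ↥((Subgroup.centralizer ({z} : Set G)) ⊓ Subgroup.centralizer (P : Set G) : Subgroup G), u ∈ commutator ↥((Subgroup.centralizer ({z} : Set G)) ⊓ Subgroup.centralizer (P : Set G) : Subgroup G) ∨ u * zC ∈ commutator ↥((Subgroup.centralizer ({z} : Set G)) ⊓ Subgroup.centralizer (P : Set G) : Subgroup G) := by
    intro u
    obtain ⟨d, hd, hdu⟩ := hlift (f u)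
    obtain ⟨p, hp, e, he, hpe⟩ := hkerd (d⁻¹ * u) (by rw [map_mul, map_inv, hdu, inv_mul_cancel])
    rcases he with rfl | rfl
    · left
      rw [show u = d * ⟨p, hpC p hp⟩ from by
        rw [← mul_inv_cancel_left d u]
        exact congrArg (d * ·) (Subtype.ext (hpe.trans (mul_one p)))]
      exact mul_mem hd (hPD p hp)
    · right
      have h1 : d⁻¹ * u = ⟨p, hpC p hp⟩ * zC := Subtype.ext hpe
      rw [show u * zC = d * ⟨p, hpC p hp⟩ from by
        rw [← mul_inv_cancel_left d u, h1, mul_assoc, mul_assoc, hzC2, mul_one]]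
      exact mul_mem hd (hPD p hp)
  have hmain : zC ∈ commutator ↥((Subgroup.centralizer ({z} : Set G)) ⊓ Subgroup.centralizer (P : Set G) : Subgroup G) := by
    by_contra hzD
    have hinv : ∀ u v : ↥((Subgroup.centralizer ({z} : Set G)) ⊓ Subgroup.centralizer (P : Set G) : Subgroup G), u * u = 1 → (u : G) ≠ 1 → (u : G) ≠ z → v * v = 1 → (v : G) ≠ 1 →
        (v : G) ≠ z → (u ∈ commutator ↥((Subgroup.centralizer ({z} : Set G)) ⊓ Subgroup.centralizer (P : Set G) : Subgroup G) ↔ v ∈ commutator ↥((Subgroup.centralizer ({z} : Set G)) ⊓ Subgroup.centralizer (P : Set G) : Subgroup G)) → IsConj (u : G) (v : G) := by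
      intro u v hu hu1 huz hv hv1 hvz huv
      have hne : ∀ w : ↥((Subgroup.centralizer ({z} : Set G)) ⊓ Subgroup.centralizer (P : Set G) : Subgroup G), w * w = 1 → (w : G) ≠ 1 → (w : G) ≠ z → f w ≠ 1 := by
        intro w hw hw1 hwz hfw
        obtain ⟨p, hp, e, he, hpe⟩ := hkerd w hfw
        have hpc : Commute p e := by
          rcases he with rfl | rfl
          · exact Commute.one_right p
          · exact hpz p hp
        have he2 : e * e = 1 := by
          rcases he with rfl | rfl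
          · exact one_mul 1
          · exact hzz
        have h2 : (w : G) * w = 1 := congrArg Subtype.val hw
        rw [hpe, hpc.symm.mul_mul_mul_comm, he2, mul_one] at h2
        have h3 := ThreeClass.pow_three_eq_one_of_mem hP hp
        rw [pow_succ, pow_two, h2, one_mul] at h3
        rw [hpe, h3, one_mul] at hw1 hwz
        rcases he with h | h
        exacts [hw1 h, hwz h]
      obtain ⟨κ, hκ⟩ := isConj_iff.1 (ThreeLocalCert.M22_invol_conj
        (by rw [← map_mul, hu, map_one]) (hne u hu hu1 huz)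
        (by rw [← map_mul, hv, map_one]) (hne v hv hv1 hvz))
      obtain ⟨k, rfl⟩ := hfs κ
      set d : ↥((Subgroup.centralizer ({z} : Set G)) ⊓ Subgroup.centralizer (P : Set G) : Subgroup G) := k * u * k⁻¹ with hd
      obtain ⟨p, hp, e, he, hpe⟩ := hkerd (v⁻¹ * d) (by
        rw [map_mul, map_inv, hd, map_mul, map_mul, map_inv, hκ, inv_mul_cancel])
      have hdv : (d : G) = v * (p * e) := by
        rw [← hpe, ← Subgroup.coe_mul, mul_inv_cancel_left]
      have hd2 : (d : G) * d = 1 := by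
        have : d * d = 1 := by
          rw [hd, show k * u * k⁻¹ * (k * u * k⁻¹) = k * (u * u) * k⁻¹ by group, hu, mul_one,
            mul_inv_cancel]
        exact congrArg Subtype.val this
      have hvp : Commute (v : G) p := (Subgroup.mem_centralizer_iff.1 v.2.2 p hp).symm
      have hep : Commute p e := by
        rcases he with rfl | rfl
        · exact Commute.one_right p
        · exact hpz p hp
      have hve : Commute (v : G) e := by
        rcases he with rfl | rfl
        · exact Commute.one_right _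
        · exact Subgroup.mem_centralizer_singleton_iff.1 v.2.1
      have he2 : e * e = 1 := by
        rcases he with rfl | rfl
        · exact one_mul 1
        · exact hzz
      have hv2 : (v : G) * v = 1 := congrArg Subtype.val hv
      rw [hdv, (hvp.mul_right hve).symm.mul_mul_mul_comm, hv2, one_mul,
        hep.symm.mul_mul_mul_comm, he2, mul_one] at hd2
      have h3 := ThreeClass.pow_three_eq_one_of_mem hP hp
      rw [pow_succ, pow_two, hd2, one_mul] at h3
      rw [h3, one_mul] at hdv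
      have hdD : d ∈ commutator ↥((Subgroup.centralizer ({z} : Set G)) ⊓ Subgroup.centralizer (P : Set G) : Subgroup G) ↔ v ∈ commutator ↥((Subgroup.centralizer ({z} : Set G)) ⊓ Subgroup.centralizer (P : Set G) : Subgroup G) := by
        rw [← huv]
        exact ⟨fun h => by
            have := (inferInstance : (commutator ↥((Subgroup.centralizer ({z} : Set G)) ⊓ Subgroup.centralizer (P : Set G) : Subgroup G)).Normal).conj_mem _ h k⁻¹
            simpa [hd, mul_assoc] using this,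
          fun h => (inferInstance : (commutator ↥((Subgroup.centralizer ({z} : Set G)) ⊓ Subgroup.centralizer (P : Set G) : Subgroup G)).Normal).conj_mem _ h k⟩
      rcases he with rfl | rfl
      · rw [mul_one] at hdv
        exact hdv ▸ isConj_iff.2 ⟨(k : G), rfl⟩
      · exfalso
        have e1 : d = v * zC := Subtype.ext hdv
        rw [e1] at hdD
        rcases hcover v with h | h
        · exact hzD ((Subgroup.mul_mem_cancel_left _ h).1 (hdD.2 h))
        · exact hzD ((Subgroup.mul_mem_cancel_left _ (hdD.1 h)).1 h)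
    have mk : ∀ w ∈ ({ta, tb, tc, ta * tb, ta * tc} : Set G), ∃ u : ↥((Subgroup.centralizer ({z} : Set G)) ⊓ Subgroup.centralizer (P : Set G) : Subgroup G),
        (u : G) = w ∧ u * u = 1 ∧ (u : G) ≠ 1 ∧ (u : G) ≠ z := fun w hw =>
      ⟨⟨w, (htriple w hw).1⟩, rfl, Subtype.ext (htriple w hw).2.1, (htriple w hw).2.2.1,
        (htriple w hw).2.2.2⟩
    obtain ⟨a, ea, a2, a1, az⟩ := mk ta (by simp)
    obtain ⟨b, eb, b2, b1, bz⟩ := mk tb (by simp)
    obtain ⟨c, ec, c2, c1, cz⟩ := mk tc (by simp)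
    obtain ⟨ab, eab, ab2, ab1, abz⟩ := mk (ta * tb) (by simp)
    obtain ⟨ac, eac, ac2, ac1, acz⟩ := mk (ta * tc) (by simp)
    have eab' : ab = a * b := Subtype.ext (by rw [eab, Subgroup.coe_mul, ea, eb])
    have eac' : ac = a * c := Subtype.ext (by rw [eac, Subgroup.coe_mul, ea, ec])
    have hsame : ∀ u : ↥((Subgroup.centralizer ({z} : Set G)) ⊓ Subgroup.centralizer (P : Set G) : Subgroup G), u * u = 1 → (u : G) ≠ 1 → (u : G) ≠ z → ¬ IsConj z (u : G) →
        ¬ (u ∈ commutator ↥((Subgroup.centralizer ({z} : Set G)) ⊓ Subgroup.centralizer (P : Set G) : Subgroup G) ↔ ac ∈ commutator ↥((Subgroup.centralizer ({z} : Set G)) ⊓ Subgroup.centralizer (P : Set G) : Subgroup G)) := fun u h1 h2 h3 h4 h5 =>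
      h4 (hac.trans (eac ▸ (hinv u ac h1 h2 h3 ac2 ac1 acz h5).symm))
    have hA := hsame a a2 a1 az (ea ▸ hna)
    have hB := hsame b b2 b1 bz (eb ▸ hnb)
    have hCc := hsame c c2 c1 cz (ec ▸ hnc)
    have hAB := hsame ab ab2 ab1 abz (eab ▸ hnab)
    by_cases hD : ac ∈ commutator ↥((Subgroup.centralizer ({z} : Set G)) ⊓ Subgroup.centralizer (P : Set G) : Subgroup G)
    · simp only [hD, iff_true] at hA hB hAB
      refine hAB ?_
      have h1 := mul_mem ((hcover a).resolve_left hA) ((hcover b).resolve_left hB)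
      rwa [mul_assoc, ← mul_assoc zC b zC, ← hzc b, mul_assoc b zC zC, hzC2, mul_one, ← eab'] at h1
    · simp only [hD, iff_false, not_not] at hA hCc
      exact hD (eac' ▸ mul_mem hA hCc)
  refine le_antisymm (Subgroup.commutator_le_self ((Subgroup.centralizer ({z} : Set G)) ⊓ Subgroup.centralizer (P : Set G) : Subgroup G)) fun x hx => ?_
  rw [← Subgroup.map_subtype_commutator]
  refine ⟨⟨x, hx⟩, ?_, rfl⟩
  rcases hcover ⟨x, hx⟩ with h | h
  · exact h
  · exact (Subgroup.mul_mem_cancel_right _ hmain).1 h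

end CfsgLib.Spor.JankoFour.ThreeLocal
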