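import Cfsg.Agent.Lib.Spor.JankoFour.ThreeLocal

/-!
In a group of Janko-four type the normaliser of the distinguished subgroup of order three lies in
the involution centraliser.
-/

set_option autoImplicit false

namespace CfsgLib.Spor.JankoFour.ThreeLocal

open Cfsg CfsgLib.Spor

variable {G : Type*} [Group G] [Finite G] {z : G} {P : Subgroup G}

omit [Finite G] in
theorem eq_or_commute {x q : G} (hP : Nat.card ↥P = 3) (hq : q ∈ P) (hq1 : q ≠ 1)
    (h : Commute x q) : x ∈ Subgroup.centralizer (P : Set G) := by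
  refine Subgroup.mem_centralizer_iff.2 fun r hr => ?_
  haveI : Finite ↥P := Nat.finite_of_card_ne_zero (by omega)
  haveI : Fact (Nat.Prime 3) := ⟨Nat.prime_three⟩
  obtain ⟨n, hn⟩ := Submonoid.mem_powers_iff _ _ |>.1 (mem_powers_of_prime_card (p := 3) hP
    (fun e => hq1 (congrArg Subtype.val e)) (g := (⟨q, hq⟩ : ↥P)) (g' := ⟨r, hr⟩))
  have hn' : q ^ n = r := congrArg Subtype.val hn
  rw [← hn']
  exact (h.pow_right n).eq.symm

/-- Frattini argument inside a subgroup of the kernel -/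
theorem exists_mul_mem_normalizer (hP : Nat.card ↥P = 3) {L : Subgroup G} (hPL : P ≤ L)
    (hL : Nat.card ↥L ∣ 24576) {g : G} (hg : ∀ x ∈ L, g * x * g⁻¹ ∈ L) :
    ∃ n ∈ L, n * g ∈ Subgroup.normalizer (P : Set G) := by
  haveI : Fact (Nat.Prime 3) := ⟨Nat.prime_three⟩
  set PL := P.subgroupOf L with hPLdef
  have hPLc : Nat.card ↥PL = 3 := by
    rw [hPLdef, Nat.card_congr (Subgroup.subgroupOfEquivOfLe hPL).toEquiv, hP]
  have hidx : ¬ 3 ∣ PL.index := by
    intro h
    have h1 := PL.card_mul_index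
    rw [hPLc] at h1
    rw [← h1] at hL
    exact absurd ((mul_dvd_mul_left 3 h).trans hL) (by norm_num)
  let SP : Sylow 3 ↥L := (IsPGroup.of_card (n := 1) (by rw [hPLc, pow_one])).toSylow hidx
  obtain ⟨p, hp, hp1⟩ : ∃ p ∈ P, p ≠ (1 : G) := by
    rcases P.bot_or_exists_ne_one with h | h
    · rw [h, Subgroup.card_bot] at hP; omega
    · exact h
  have hqL : g * p * g⁻¹ ∈ L := hg p (hPL hp)
  have hqo : orderOf (⟨g * p * g⁻¹, hqL⟩ : ↥L) = 3 := by
    rw [Subgroup.orderOf_mk]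
    refine orderOf_eq_prime ?_ fun e => hp1 (conj_eq_one_iff.1 e)
    rw [conj_pow, ThreeClass.pow_three_eq_one_of_mem hP hp, mul_one, mul_inv_cancel]
  have hup : IsPGroup 3 ↥(Subgroup.zpowers (⟨g * p * g⁻¹, hqL⟩ : ↥L)) :=
    IsPGroup.of_card (n := 1) (by rw [Nat.card_zpowers, hqo, pow_one])
  obtain ⟨U, hU⟩ := hup.exists_le_sylow
  obtain ⟨n, hn⟩ := MulAction.exists_smul_eq ↥L U SP
  have hnu : MulAut.conj n • (⟨g * p * g⁻¹, hqL⟩ : ↥L) ∈ (n • U : Sylow 3 ↥L) :=
    Subgroup.smul_mem_pointwise_smul _ _ _ (hU (Subgroup.mem_zpowers _))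
  rw [hn] at hnu
  refine ⟨n, n.2, ?_⟩
  have hkp : ((n : G) * g) * p * ((n : G) * g)⁻¹ ∈ P := by
    have h : (n : G) * (g * p * g⁻¹) * (n : G)⁻¹ ∈ P := hnu
    simpa [mul_assoc] using h
  refine mem_normalizer_of_map_eq (Subgroup.eq_of_le_of_card_ge ?_
    (by rw [Subgroup.card_map_of_injective (MulAut.conj ((n : G) * g)).injective]))
  rintro _ ⟨r, hr, rfl⟩
  show ((n : G) * g) * r * ((n : G) * g)⁻¹ ∈ P
  rcases ThreeClass.eq_pow_of_mem hP hp hp1 hr with rfl | rfl | rfl
  · simp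
  · exact hkp
  · rw [← conj_pow]; exact pow_mem hkp 2

/-- the normaliser of `P` lies in the centraliser of `z` -/
theorem normalizer_le_centralizer (hJ : Cfsg.IsOfJankoFourTypeWith z P) (hU : UniqueHyp G)
    (hS : SplitHyp G) (hO : OrbitHyp z) :
    Subgroup.normalizer (P : Set G) ≤ Subgroup.centralizer ({z} : Set G) := by
  classical
  haveI : Fact (Nat.Prime 3) := ⟨Nat.prime_three⟩
  haveI : Fact (Nat.Prime 2) := ⟨Nat.prime_two⟩
  haveI := Fintype.ofFinite G
  have hz : orderOf z = 2 := hJ.1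
  have hz1 : z ≠ 1 := fun e => by rw [e, orderOf_one] at hz; omega
  have hzz : z * z = 1 := by rw [← pow_two, ← hz, pow_orderOf_eq_one]
  have hP : Nat.card ↥P = 3 := hJ.2.2.2.2.2.1
  obtain ⟨p0, hp0, hp01⟩ : ∃ p ∈ P, p ≠ (1 : G) := by
    rcases P.bot_or_exists_ne_one with h | h
    · rw [h, Subgroup.card_bot] at hP; omega
    · exact h
  obtain ⟨N, φ, hφ, hker, hNc, hHc, hPH, hφP, hkc⟩ := exists_kernel_frame hJ
  have himg := image_centralizer hJ hφ hker hNc hφP hkc
  have hInn : ∀ c : ↥(Subgroup.centralizer ({z} : Set G)), (c : G) ∈ Subgroup.centralizer (P : Set G) →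
      φ c ∈ Cfsg.Inn ↥Cfsg.Spor.M22 := fun c hc => himg ▸ ⟨c, hc, rfl⟩
  have hzP : z ∈ Subgroup.centralizer (P : Set G) := Subgroup.mem_centralizer_iff.2 fun p hp =>
    Subgroup.mem_centralizer_singleton_iff.1 (hPH hp)
  have hzH : z ∈ Subgroup.centralizer ({z} : Set G) := Subgroup.mem_centralizer_singleton_iff.2 rfl
  obtain ⟨V, hV, hVc, hzV, hPM, hMH⟩ := exists_good hJ hU hS hO
  set M := Subgroup.normalizer (V : Set G) with hM
  obtain ⟨hA, hB, htrA, htrB, hCT⟩ := orbit_facts hO hV hVc hz1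
  obtain ⟨hMc, ψ, hψ⟩ : Nat.card ↥M = 501397585920 ∧
      ∃ ψ : ↥M →* ↥Cfsg.M24, ∀ m, ψ m = 1 → (m : G) ∈ V := exists_hom hS hV hVc
  have hVH := le_centralizer_of_mem hV hzV
  have hVsq : ∀ a ∈ V, a * a = 1 := fun a ha => by rw [← pow_two]; exact hV.2 a ha
  have hVcomm : ∀ a ∈ V, ∀ b ∈ V, Commute a b := fun a ha b hb =>
    congrArg Subtype.val (hV.1.is_comm.comm (⟨a, ha⟩ : ↥V) ⟨b, hb⟩)
  have hVM : V ≤ M := Subgroup.le_normalizer
  -- the fixed part of `V`
  set W := V ⊓ Subgroup.centralizer (P : Set G) with hWdef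
  have hW : Cfsg.IsElementaryAbelian 2 W :=
    ⟨⟨⟨fun a b => Subtype.ext (hVcomm _ a.2.1 _ b.2.1)⟩⟩, fun a ha => hV.2 a ha.1⟩
  have hWH : W ≤ Subgroup.centralizer ({z} : Set G) := inf_le_left.trans hVH
  obtain ⟨hW1, hW32⟩ := card_fixed_le hJ hW hWH inf_le_right hInn hker hkc
  -- the kernel part of the normaliser
  set NG := N.map (Subgroup.centralizer ({z} : Set G)).subtype with hNG
  have hNGmem : ∀ x : ↥(Subgroup.centralizer ({z} : Set G)), φ x = 1 → (x : G) ∈ NG := fun x hx =>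
    ⟨x, hker ▸ MonoidHom.mem_ker.2 hx, rfl⟩
  set L := M ⊓ NG with hLdef
  have hPL : P ≤ L := le_inf hPM fun p hp => hNGmem ⟨p, hPH hp⟩ (hφP _ hp)
  have hLc : Nat.card ↥L ∣ 24576 := by
    refine (Subgroup.card_dvd_of_le inf_le_right).trans ?_
    rw [hNG, Subgroup.card_map_of_injective (Subgroup.subtype_injective _), hNc]
  have hLn : ∀ g ∈ M, g ∈ Subgroup.centralizer ({z} : Set G) → ∀ x ∈ L, g * x * g⁻¹ ∈ L := by
    rintro g hg hgH x ⟨hx, ⟨y, hy, rfl⟩⟩
    refine ⟨Subgroup.mul_mem M (Subgroup.mul_mem M hg hx) (Subgroup.inv_mem M hg), ⟨⟨g, hgH⟩ * y * (⟨g, hgH⟩ : ↥(Subgroup.centralizer ({z} : Set G)))⁻¹, ?_, rfl⟩⟩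
    rw [← hker] at hy ⊢
    exact φ.normal_ker.conj_mem _ hy _
  -- elements of the local subgroup normalising `P` lie in the centraliser
  set B := M ⊓ Subgroup.normalizer (P : Set G) with hBdef
  have hBH : B ≤ Subgroup.centralizer ({z} : Set G) := by
    set A := B ⊓ Subgroup.centralizer ({z} : Set G) with hAdef
    set J := M.subgroupOf (Subgroup.centralizer ({z} : Set G)) with hJdef
    set JA := A.subgroupOf (Subgroup.centralizer ({z} : Set G)) with hJAdef
    have hJc : Nat.card ↥J = 283115520 := by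
      rw [hJdef, ← hMH, ← Subgroup.inf_subgroupOf_right M,
        Nat.card_congr (Subgroup.subgroupOfEquivOfLe inf_le_right).toEquiv]
    have hJAc : Nat.card ↥JA = Nat.card ↥A := by
      rw [hJAdef, Nat.card_congr (Subgroup.subgroupOfEquivOfLe inf_le_right).toEquiv]
    have himgeq : (φ.comp J.subtype).range = (φ.comp JA.subtype).range := by
      refine le_antisymm ?_ ?_
      · rintro _ ⟨⟨j, hj⟩, rfl⟩
        obtain ⟨n, hn, hnj⟩ := exists_mul_mem_normalizer hP hPL hLc (hLn (j : G) hj j.2)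
        obtain ⟨hnM, y, hy, rfl⟩ := hn
        refine ⟨⟨y * j, ⟨⟨mul_mem hnM hj, hnj⟩, (y * j).2⟩⟩, ?_⟩
        show φ (y * j) = φ j
        rw [map_mul, show φ y = 1 from MonoidHom.mem_ker.1 (hker ▸ hy), one_mul]
      · rintro _ ⟨⟨j, hj⟩, rfl⟩
        exact ⟨⟨j, hj.1.1⟩, rfl⟩
    set I := (φ.comp J.subtype).range with hI
    have hk1 := (φ.comp J.subtype).ker.card_mul_index
    rw [Subgroup.index_ker, hJc, ← hI] at hk1
    have hk2 := (φ.comp JA.subtype).ker.card_mul_index
    rw [Subgroup.index_ker, hJAc, ← himgeq] at hk2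
    have hkJ : Nat.card ↥(φ.comp J.subtype).ker ∣ 24576 := by
      rw [← hNc]
      refine Subgroup.card_dvd_of_injective
        ((J.subtype.comp (φ.comp J.subtype).ker.subtype).codRestrict N
          fun x => hker ▸ MonoidHom.mem_ker.2 x.2) ?_
      intro a b e
      apply Subtype.ext
      apply Subtype.ext
      simpa using congrArg Subtype.val e
    have hkA : 6 ≤ Nat.card ↥(φ.comp JA.subtype).ker := by
      have hp0A : (⟨p0, hPH hp0⟩ : ↥(Subgroup.centralizer ({z} : Set G))) ∈ JA :=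
        ⟨⟨hPM hp0, Subgroup.le_normalizer hp0⟩, hPH hp0⟩
      have hzA : (⟨z, hzH⟩ : ↥(Subgroup.centralizer ({z} : Set G))) ∈ JA :=
        ⟨⟨hVM hzV, Subgroup.centralizer_le_normalizer _ hzP⟩, hzH⟩
      have h3 : 3 ∣ Nat.card ↥(φ.comp JA.subtype).ker := by
        have h := Subgroup.orderOf_dvd_natCard (φ.comp JA.subtype).ker
          (x := ⟨_, hp0A⟩) (MonoidHom.mem_ker.2 (hφP _ hp0))
        rwa [Subgroup.orderOf_mk, Subgroup.orderOf_mk,
          orderOf_eq_prime (ThreeClass.pow_three_eq_one_of_mem hP hp0) hp01] at h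
      have hφz : φ ⟨z, hzH⟩ = 1 := by
        have hc : φ ⟨z, hzH⟩ ∈ Subgroup.center (MulAut ↥Cfsg.Spor.M22) := by
          refine Subgroup.mem_center_iff.2 fun α => ?_
          obtain ⟨h, rfl⟩ := hφ α
          rw [← map_mul, ← map_mul]
          exact congrArg φ (Subtype.ext (Subgroup.mem_centralizer_singleton_iff.1 h.2))
        obtain ⟨u, hu⟩ := hInn ⟨z, hzH⟩ hzP
        have hu1 : u ∈ Subgroup.center ↥Cfsg.Spor.M22 := Subgroup.mem_center_iff.2 fun v =>
          LargeFi.J4.conj_injective (by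
            rw [map_mul, map_mul, hu]
            exact Subgroup.mem_center_iff.1 hc _)
        rw [LargeFi.J4.center_M22, Subgroup.mem_bot] at hu1
        rw [← hu, hu1, map_one]
      have h2 : 2 ∣ Nat.card ↥(φ.comp JA.subtype).ker := by
        have h := Subgroup.orderOf_dvd_natCard (φ.comp JA.subtype).ker
          (x := ⟨_, hzA⟩) (MonoidHom.mem_ker.2 hφz)
        rwa [Subgroup.orderOf_mk, Subgroup.orderOf_mk, hz] at h
      exact Nat.le_of_dvd Nat.card_pos (Nat.Coprime.mul_dvd_of_dvd_of_dvd (by norm_num) h2 h3)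
    have h5 : 5 ∣ Nat.card ↥A := by
      have hI5 : 5 ∣ Nat.card ↥I := by
        have h5' : 5 ∣ Nat.card ↥(φ.comp J.subtype).ker * Nat.card ↥I := by rw [hk1]; norm_num
        refine (Nat.Coprime.dvd_of_dvd_mul_left ?_ h5')
        exact Nat.Coprime.coprime_dvd_right hkJ (by norm_num)
      rw [← hk2]
      exact Dvd.dvd.mul_left hI5 _
    have hlow : 69120 ≤ Nat.card ↥A := by
      have hJle : Nat.card ↥(φ.comp J.subtype).ker ≤ 24576 := Nat.le_of_dvd (by norm_num) hkJ
      nlinarith [Nat.mul_le_mul_right (Nat.card ↥I) hkA, Nat.mul_le_mul_right (Nat.card ↥I) hJle]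
    -- the bound from `M24`
    have hinj : Function.Injective (ψ.comp (Subgroup.inclusion hPM)) := by
      rw [injective_iff_map_eq_one]
      intro p hp
      have h1 : (p : G) ∈ V := hψ _ hp
      have h2 := hV.2 _ h1
      have h3 := ThreeClass.pow_three_eq_one_of_mem hP p.2
      rw [pow_succ, h2, one_mul] at h3
      exact Subtype.ext h3
    set Γ := (ψ.comp (Subgroup.inclusion hPM)).range with hΓ
    have hΓc : Nat.card ↥Γ = 3 := by
      rw [hΓ, ← Nat.card_congr (MonoidHom.ofInjective hinj).toEquiv, hP]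
    set χ := ψ.comp (Subgroup.inclusion (inf_le_left : B ≤ M)) with hχ
    have hrange : χ.range ≤ Subgroup.normalizer (Γ : Set ↥Cfsg.M24) := by
      rintro _ ⟨b, rfl⟩
      refine mem_normalizer_of_map_eq (Subgroup.eq_of_le_of_card_ge ?_
        (by rw [Subgroup.card_map_of_injective (MulAut.conj _).injective]))
      rintro _ ⟨_, ⟨p, rfl⟩, rfl⟩
      refine ⟨⟨(b : G) * p * (b : G)⁻¹, (Subgroup.mem_normalizer_iff.1 b.2.2 p).1 p.2⟩, ?_⟩
      show ψ (Subgroup.inclusion hPM _) = ψ _ * ψ _ * (ψ _)⁻¹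
      rw [← map_mul, ← map_inv, ← map_mul]
      rfl
    have hkχ : Nat.card ↥χ.ker ∣ 32 := by
      refine dvd_trans ?_ hW32
      refine Subgroup.card_dvd_of_injective ((B.subtype.comp χ.ker.subtype).codRestrict W
        fun x => ?_) fun a b e => Subtype.ext (Subtype.ext (by simpa using congrArg Subtype.val e))
      have hv : ((x : ↥B) : G) ∈ V := hψ _ x.2
      refine ⟨hv, Subgroup.mem_centralizer_iff.2 fun p hp => ?_⟩
      set v : G := ((x : ↥B) : G) with hvdef
      have h1 : v * p * v⁻¹ * p⁻¹ ∈ P :=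
        mul_mem ((Subgroup.mem_normalizer_iff.1 (x : ↥B).2.2 p).1 hp) (inv_mem hp)
      have h2 : v * p * v⁻¹ * p⁻¹ ∈ V := by
        rw [show v * p * v⁻¹ * p⁻¹ = v * (p * v⁻¹ * p⁻¹) by group]
        exact mul_mem hv ((Subgroup.mem_normalizer_iff.1 (hPM hp) _).1 (inv_mem hv))
      have h3 := Nat.dvd_gcd (Subgroup.orderOf_dvd_natCard P h1) (Subgroup.orderOf_dvd_natCard V h2)
      rw [hP, hVc] at h3
      have h4 : v * p * v⁻¹ * p⁻¹ = 1 := orderOf_eq_one_iff.1 (by simpa using h3)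
      rw [mul_inv_eq_one, mul_inv_eq_iff_eq_mul] at h4
      exact h4.symm
    have hcardB := χ.ker.card_mul_index
    rw [Subgroup.index_ker] at hcardB
    have hN5 : 5 ∣ Nat.card ↥(Subgroup.normalizer (Γ : Set ↥Cfsg.M24)) := by
      refine dvd_trans ?_ (Subgroup.card_dvd_of_le hrange)
      refine (Nat.Coprime.dvd_of_dvd_mul_left ?_ (hcardB.symm ▸
        h5.trans (Subgroup.card_dvd_of_le inf_le_left)))
      exact Nat.Coprime.coprime_dvd_right hkχ (by norm_num)
    have hup : Nat.card ↥B ≤ 69120 := by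
      rw [← hcardB]
      exact (Nat.mul_le_mul (Nat.le_of_dvd (by norm_num) hkχ)
        ((Subgroup.card_le_of_le hrange).trans
          (ThreeLocalCert.card_normalizer_three_le hΓc hN5))).trans (by norm_num)
    exact (Subgroup.eq_of_le_of_card_ge (inf_le_left : A ≤ B) (hup.trans hlow)).symm.le.trans
      inf_le_right
  -- fusion into `z`
  have hfus : ∀ g ∈ Subgroup.normalizer (P : Set G), ∀ w ∈ W, g * w * g⁻¹ = z → w = z := by
    intro g hg w hw he
    obtain ⟨hV', hV'c⟩ := elementary_map_conj hV hVc g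
    set V' := V.map (MulAut.conj g).toMonoidHom with hV'def
    have hzV' : z ∈ V' := ⟨w, hw.1, he⟩
    have hV'H := le_centralizer_of_mem hV' hzV'
    obtain ⟨h, hh, hhV⟩ := exists_conj_eq hJ hU hV hVc hV' hV'c hVH hV'H
    have hgh : h⁻¹ * g ∈ M := by
      refine mem_normalizer_of_map_eq (Subgroup.eq_of_le_of_card_ge ?_
        (by rw [Subgroup.card_map_of_injective (MulAut.conj (h⁻¹ * g)).injective]))
      rintro _ ⟨v, hv, rfl⟩
      have h1 : g * v * g⁻¹ ∈ V.map (MulAut.conj h).toMonoidHom := hhV.symm ▸ ⟨v, hv, rfl⟩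
      rw [mem_map_conj_iff] at h1
      show h⁻¹ * g * v * (h⁻¹ * g)⁻¹ ∈ V
      simpa [mul_assoc] using h1
    have hn : ∀ x ∈ L, h⁻¹ * x * h ∈ NG := by
      rintro x ⟨-, y, hy, rfl⟩
      refine ⟨(⟨h, hh⟩ : ↥(Subgroup.centralizer ({z} : Set G)))⁻¹ * y * ⟨h, hh⟩, ?_, rfl⟩
      rw [← hker] at hy ⊢
      have := φ.normal_ker.conj_mem _ hy (⟨h, hh⟩ : ↥(Subgroup.centralizer ({z} : Set G)))⁻¹
      rwa [inv_inv] at this
    -- `P` conjugated back
    have hq : h⁻¹ * p0 * h ∈ L := by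
      refine ⟨?_, hn p0 (hPL hp0)⟩
      have e : h⁻¹ * p0 * h = (h⁻¹ * g) * (g⁻¹ * p0 * g) * (h⁻¹ * g)⁻¹ := by group
      rw [e]
      exact Subgroup.mul_mem _ (Subgroup.mul_mem _ hgh (hPM (by
        simpa using (Subgroup.mem_normalizer_iff.1 (inv_mem hg) p0).1 hp0))) (Subgroup.inv_mem _ hgh)
    -- Frattini in `L`
    obtain ⟨n, hn', hnorm⟩ : ∃ n ∈ L, n * h⁻¹ ∈ Subgroup.normalizer (P : Set G) := by
      obtain ⟨n, hn', hN⟩ : ∃ n ∈ L, n * (h⁻¹ * p0 * h) * n⁻¹ ∈ P := by
        set PL := P.subgroupOf L with hPLdef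
        have hPLc : Nat.card ↥PL = 3 := by
          rw [hPLdef, Nat.card_congr (Subgroup.subgroupOfEquivOfLe hPL).toEquiv, hP]
        have hidx : ¬ 3 ∣ PL.index := by
          intro h3
          have h1 := PL.card_mul_index
          rw [hPLc] at h1
          exact absurd ((mul_dvd_mul_left 3 h3).trans (h1.symm ▸ hLc)) (by norm_num)
        let SP : Sylow 3 ↥L := (IsPGroup.of_card (n := 1) (by rw [hPLc, pow_one])).toSylow hidx
        have hqo : orderOf (⟨_, hq⟩ : ↥L) = 3 := by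
          rw [Subgroup.orderOf_mk, show h⁻¹ * p0 * h = h⁻¹ * p0 * h⁻¹⁻¹ by rw [inv_inv]]
          refine orderOf_eq_prime ?_ fun e => hp01 (conj_eq_one_iff.1 e)
          rw [conj_pow, ThreeClass.pow_three_eq_one_of_mem hP hp0, mul_one, mul_inv_cancel]
        have hup : IsPGroup 3 ↥(Subgroup.zpowers (⟨_, hq⟩ : ↥L)) :=
          IsPGroup.of_card (n := 1) (by rw [Nat.card_zpowers, hqo, pow_one])
        obtain ⟨U, hU3⟩ := hup.exists_le_sylow
        obtain ⟨m, hm⟩ := MulAction.exists_smul_eq ↥L U SP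
        have hmu : MulAut.conj m • (⟨_, hq⟩ : ↥L) ∈ (m • U : Sylow 3 ↥L) :=
          Subgroup.smul_mem_pointwise_smul _ _ _ (hU3 (Subgroup.mem_zpowers _))
        rw [hm] at hmu
        exact ⟨m, m.2, hmu⟩
      refine ⟨n, hn', mem_normalizer_of_map_eq (Subgroup.eq_of_le_of_card_ge ?_
        (by rw [Subgroup.card_map_of_injective (MulAut.conj (n * h⁻¹)).injective]))⟩
      rintro _ ⟨r, hr, rfl⟩
      show n * h⁻¹ * r * (n * h⁻¹)⁻¹ ∈ P
      have hk : n * h⁻¹ * p0 * (n * h⁻¹)⁻¹ ∈ P := by simpa [mul_assoc] using hN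
      rcases ThreeClass.eq_pow_of_mem hP hp0 hp01 hr with rfl | rfl | rfl
      · simp
      · exact hk
      · rw [← conj_pow]; exact pow_mem hk 2
    have hnH : n ∈ Subgroup.centralizer ({z} : Set G) := by
      obtain ⟨-, y, -, rfl⟩ := hn'
      exact y.2
    have hb : n * h⁻¹ * g ∈ B := by
      refine ⟨?_, mul_mem hnorm hg⟩
      rw [mul_assoc]
      exact mul_mem hn'.1 hgh
    have hbz := Subgroup.mem_centralizer_singleton_iff.1 (hBH hb)
    have hhz := Subgroup.mem_centralizer_singleton_iff.1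
      (mul_mem hnH (inv_mem hh) : n * h⁻¹ ∈ Subgroup.centralizer ({z} : Set G))
    calc w = (n * h⁻¹ * g)⁻¹ * (n * h⁻¹ * (g * w * g⁻¹) * (n * h⁻¹)⁻¹) * (n * h⁻¹ * g) := by group
      _ = (n * h⁻¹ * g)⁻¹ * z * (n * h⁻¹ * g) := by rw [he, hhz, mul_inv_cancel_right]
      _ = z := by rw [mul_assoc, ← hbz, inv_mul_cancel_left]
  -- an element of `W` not fused to `z`
  set SB : Finset G := Finset.univ.filter fun v => v ∈ V ∧ v ≠ 1 ∧ ¬ IsConj z v with hSB
  have hSBmem : ∀ v, v ∈ SB ↔ v ∈ V ∧ v ≠ 1 ∧ ¬ IsConj z v := fun v => by simp [hSB]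
  have hSBc : SB.card = 276 := by
    rw [← hB, ← Set.ncard_coe_finset]
    congr 1
    ext v
    simp [hSB]
  set S : Finset G := SB.filter fun v => v ∈ Subgroup.centralizer (P : Set G) with hSdef
  have hSW : ∀ a ∈ S, a ∈ W := fun a ha => by
    rw [hSdef, Finset.mem_filter, hSBmem] at ha
    exact ⟨ha.1.1, ha.2⟩
  have hSmem : ∀ v, v ∈ S ↔ v ∈ SB ∧ v ∈ Subgroup.centralizer (P : Set G) := fun v => by
    rw [hSdef]; exact Finset.mem_filter
  have hne : S.Nonempty := by
    obtain ⟨t, ht⟩ : SB.Nonempty := Finset.card_pos.1 (by omega)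
    rw [hSBmem] at ht
    have hSt : Nat.card ↥(M ⊓ Subgroup.centralizer ({t} : Set G)) = 1816657920 := by
      have h := ncard_conjOrbit_mul M t
      have e : {v : G | ∃ n ∈ M, n * t * n⁻¹ = v} = {v : G | v ∈ V ∧ v ≠ 1 ∧ ¬ IsConj z v} := by
        ext v
        constructor
        · rintro ⟨n, hn, rfl⟩
          exact ⟨(Subgroup.mem_normalizer_iff.1 hn t).1 ht.1, fun e => ht.2.1 (conj_eq_one_iff.1 e),
            fun e => ht.2.2 (e.trans (isConj_iff.2 ⟨n, rfl⟩).symm)⟩
        · rintro ⟨hv, hv1, hzv⟩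
          exact htrB t v ht.1 ht.2.1 ht.2.2 hv hv1 hzv
      rw [e, hB, hMc] at h
      omega
    -- a Sylow subgroup
    have hPT : IsPGroup 3 ↥(P.subgroupOf (M ⊓ Subgroup.centralizer ({z} : Set G))) :=
      IsPGroup.of_card (n := 1) (by
        rw [Nat.card_congr (Subgroup.subgroupOfEquivOfLe (le_inf hPM hPH)).toEquiv, hP, pow_one])
    obtain ⟨R0, hR0⟩ := hPT.exists_le_sylow
    have hR0c : Nat.card ↥(R0 : Subgroup ↥(M ⊓ Subgroup.centralizer ({z} : Set G))) = 27 := by
      rw [R0.card_eq_multiplicity, hMH, show (283115520 : ℕ) = 3 ^ 3 * 10485760 by norm_num,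
        Nat.factorization_mul (by norm_num) (by norm_num), Finsupp.add_apply,
        Nat.Prime.factorization_pow Nat.prime_three, Finsupp.single_eq_same,
        Nat.factorization_eq_zero_of_not_dvd (by norm_num)]
      norm_num
    set R := (R0 : Subgroup ↥(M ⊓ Subgroup.centralizer ({z} : Set G))).map
      (M ⊓ Subgroup.centralizer ({z} : Set G)).subtype with hR
    have hRc : Nat.card ↥R = 27 := by
      rw [hR, Subgroup.card_map_of_injective (Subgroup.subtype_injective _), hR0c]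
    have hRM : R ≤ M ⊓ Subgroup.centralizer ({z} : Set G) := Subgroup.map_subtype_le _
    have hPR : P ≤ R := fun p hp =>
      ⟨⟨p, ⟨hPM hp, hPH hp⟩⟩, hR0 (show (⟨p, ⟨hPM hp, hPH hp⟩⟩ : ↥(M ⊓ Subgroup.centralizer ({z} : Set G))) ∈ _ from hp), rfl⟩
    have hRC : R ≤ Subgroup.centralizer (P : Set G) := by
      intro r hr
      refine eq_or_commute hP hp0 hp01 (ThreeClass.commute_of_odd hP ?_ hp0 ?_)
      · have h := Subgroup.orderOf_dvd_natCard R hr
        rw [hRc] at h
        exact Odd.of_dvd_nat (by decide) h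
      · have h1 : r * p0 * r⁻¹ ∈ R ⊓ L :=
          ⟨Subgroup.mul_mem R (Subgroup.mul_mem R hr (hPR hp0)) (Subgroup.inv_mem R hr), hLn r (hRM hr).1 (hRM hr).2 p0 (hPL hp0)⟩
        have h2 : P = R ⊓ L := by
          refine Subgroup.eq_of_le_of_card_ge (le_inf hPR hPL) ?_
          rw [hP]
          have h3 := Nat.dvd_gcd (Subgroup.card_dvd_of_le (inf_le_left : R ⊓ L ≤ R))
            ((Subgroup.card_dvd_of_le (inf_le_right : R ⊓ L ≤ L)).trans hLc)
          rw [hRc] at h3
          exact Nat.le_of_dvd (by norm_num) (h3.trans (by norm_num))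
        rw [h2]
        exact h1
    have hRnc := not_comm_of_card hJ hRc (hRM.trans inf_le_right) hPR hRC
    -- a subgroup of order nine fixing a conjugate of `t`
    obtain ⟨A9, hA9⟩ := Sylow.exists_subgroup_card_pow_prime 3 (n := 2)
      (G := ↥(M ⊓ Subgroup.centralizer ({t} : Set G))) (by rw [hSt]; norm_num)
    set A := A9.map (M ⊓ Subgroup.centralizer ({t} : Set G)).subtype with hAdef
    have hAc : Nat.card ↥A = 9 := by
      rw [hAdef, Subgroup.card_map_of_injective (Subgroup.subtype_injective _), hA9]; rfl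
    have hAM : A ≤ M ⊓ Subgroup.centralizer ({t} : Set G) := Subgroup.map_subtype_le _
    have hRMle : R ≤ M := hRM.trans inf_le_left
    have hRMc : Nat.card ↥(R.subgroupOf M) = 27 := by
      rw [Nat.card_congr (Subgroup.subgroupOfEquivOfLe hRMle).toEquiv, hRc]
    have hRMi : (R.subgroupOf M).index = 18570280960 := by
      have h1 := (R.subgroupOf M).card_mul_index
      rw [hRMc, hMc] at h1
      omega
    let SR : Sylow 3 ↥M := (IsPGroup.of_card (n := 3) (by rw [hRMc]; norm_num)).toSylow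
      (by rw [hRMi]; norm_num)
    have hAp : IsPGroup 3 ↥(A.subgroupOf M) := IsPGroup.of_card (n := 2) (by
      rw [Nat.card_congr (Subgroup.subgroupOfEquivOfLe (hAM.trans inf_le_left)).toEquiv, hAc]; norm_num)
    obtain ⟨U, hU3⟩ := hAp.exists_le_sylow
    obtain ⟨m, hm⟩ := MulAction.exists_smul_eq ↥M U SR
    have hmA : A.map (MulAut.conj (m : G)).toMonoidHom ≤ R := by
      rintro _ ⟨a, ha, rfl⟩
      have h1 : MulAut.conj m • (⟨a, (hAM ha).1⟩ : ↥M) ∈ (m • U : Sylow 3 ↥M) :=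
        Subgroup.smul_mem_pointwise_smul _ _ _ (hU3 (show (⟨a, (hAM ha).1⟩ : ↥M) ∈ A.subgroupOf M from ha))
      rw [hm] at h1
      exact h1
    set A' := A.map (MulAut.conj (m : G)).toMonoidHom with hA'
    have hA'c : Nat.card ↥A' = 9 := by
      rw [hA', Subgroup.card_map_of_injective (MulAut.conj (m : G)).injective, hAc]
    have hA'fix : ∀ a ∈ A', Commute a ((m : G) * t * (m : G)⁻¹) := by
      rintro _ ⟨a, ha, rfl⟩
      exact (show Commute a t from Subgroup.mem_centralizer_singleton_iff.1 (hAM ha).2).conj (m : G)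
    have hp0A : p0 ∈ A' := by
      by_contra hp0A
      refine hRnc ?_
      have hsup : A' ⊔ P = R := by
        refine Subgroup.eq_of_le_of_card_ge (sup_le hmA hPR) ?_
        have h1 : Nat.card ↥(A' ⊔ P) ∣ 3 ^ 3 := by
          have := Subgroup.card_dvd_of_le (sup_le hmA hPR); rwa [hRc] at this
        obtain ⟨k, hk, hkc'⟩ := (Nat.dvd_prime_pow Nat.prime_three).1 h1
        have h2 : Nat.card ↥A' < Nat.card ↥(A' ⊔ P) := by
          refine lt_of_le_of_ne (Subgroup.card_le_of_le le_sup_left) fun e => hp0A ?_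
          rw [Subgroup.eq_of_le_of_card_ge le_sup_left e.ge]
          exact Subgroup.mem_sup_right hp0
        rw [hA'c, hkc'] at h2
        rw [hRc, hkc']
        interval_cases k <;> omega
      have hA'comm : IsMulCommutative ↥A' :=
        IsPGroup.isMulCommutative_of_card_eq_prime_sq (p := 3) (by rw [hA'c]; norm_num)
      have hle : A' ≤ Subgroup.normalizer (P : Set G) :=
        (hmA.trans hRC).trans (Subgroup.centralizer_le_normalizer _)
      refine ⟨⟨fun x y => Subtype.ext ?_⟩⟩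
      have hmem : ∀ r : ↥R, ∃ a ∈ A', ∃ p ∈ P, (r : G) = a * p := fun r => by
        have h : (r : G) ∈ ((A' ⊔ P : Subgroup G) : Set G) := by rw [SetLike.mem_coe, hsup]; exact r.2
        rw [Subgroup.coe_mul_of_left_le_normalizer_right A' P hle] at h
        obtain ⟨a, ha, p, hp, hap⟩ := h
        exact ⟨a, ha, p, hp, hap.symm⟩
      obtain ⟨a, ha, p, hp, hx⟩ := hmem x
      obtain ⟨b, hb, q, hq, hy⟩ := hmem y
      have hab : Commute a b := congrArg Subtype.val (hA'comm.is_comm.comm ⟨a, ha⟩ ⟨b, hb⟩)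
      have haq : Commute a q := (Subgroup.mem_centralizer_iff.1 (hRC (hmA ha)) q hq).symm
      have hpb : Commute p b := Subgroup.mem_centralizer_iff.1 (hRC (hmA hb)) p hp
      have hpq : Commute p q := (Subgroup.mem_centralizer_iff.1 (hRC (hPR hp)) q hq).symm
      show (x : G) * y = y * x
      rw [hx, hy]
      exact ((hab.mul_right haq).mul_left (hpb.mul_right hpq)).eq
    have hmM : (m : G) ∈ M := m.2
    refine ⟨(m : G) * t * (m : G)⁻¹, ?_⟩
    rw [hSdef, Finset.mem_filter, hSBmem]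
    exact ⟨⟨(Subgroup.mem_normalizer_iff.1 hmM t).1 ht.1, fun e => ht.2.1 (conj_eq_one_iff.1 e),
      fun e => ht.2.2 (e.trans (isConj_iff.2 ⟨(m : G), rfl⟩).symm)⟩,
      eq_or_commute hP hp0 hp01 (hA'fix p0 hp0A).symm⟩
  -- a triangle
  have hconjSB : ∀ g ∈ M, ∀ v, g * v * g⁻¹ ∈ SB ↔ v ∈ SB := by
    intro g hg v
    rw [hSBmem, hSBmem, ← Subgroup.mem_normalizer_iff.1 hg v, Ne, conj_eq_one_iff]
    exact and_congr_right fun _ => and_congr_right fun _ =>
      ⟨fun h h' => h (h'.trans (isConj_iff.2 ⟨g, rfl⟩)),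
        fun h h' => h (h'.trans (isConj_iff.2 ⟨g, rfl⟩).symm)⟩
  let pc : G → ℕ := fun u => (SB.filter fun a => a * u ∈ SB).card
  have hpconj : ∀ g ∈ M, ∀ u, pc (g * u * g⁻¹) = pc u := by
    intro g hg u
    refine (Finset.card_nbij' (fun a => g * a * g⁻¹) (fun a => g⁻¹ * a * g) ?_ ?_ ?_ ?_).symm
    · intro a ha
      simp only [Finset.coe_filter, Finset.mem_filter, Set.mem_ofPred_eq] at ha ⊢
      refine ⟨(hconjSB g hg a).2 ha.1, ?_⟩
      rw [show g * a * g⁻¹ * (g * u * g⁻¹) = g * (a * u) * g⁻¹ by group]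
      exact (hconjSB g hg _).2 ha.2
    · intro a ha
      simp only [Finset.coe_filter, Finset.mem_filter, Set.mem_ofPred_eq] at ha ⊢
      refine ⟨(hconjSB g hg _).1 (by simpa [mul_assoc] using ha.1), (hconjSB g hg _).1 ?_⟩
      rw [show g * (g⁻¹ * a * g * u) * g⁻¹ = a * (g * u * g⁻¹) by group]
      exact ha.2
    · intro a _; show g⁻¹ * (g * a * g⁻¹) * g = a; group
    · intro a _; show g * (g⁻¹ * a * g) * g⁻¹ = a; group
  have hpZ : ∀ u ∈ V, u ∉ SB → pc u % 3 = 0 := by
    intro u hu huS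
    rcases eq_or_ne u 1 with rfl | hu1
    · have e : pc 1 = 276 := by
        show (SB.filter fun a => a * 1 ∈ SB).card = 276
        rw [← hSBc]
        congr 1
        exact Finset.filter_true_of_mem fun a ha => by rwa [mul_one]
      rw [e]
    set SA : Finset G := Finset.univ.filter fun v => v ∈ V ∧ v ≠ 1 ∧ IsConj z v with hSA
    have hSAc : SA.card = 1771 := by
      rw [← hA, ← Set.ncard_coe_finset]
      congr 1
      ext v
      simp [hSA]
    set VS : Finset G := Finset.univ.filter fun v => v ∈ V with hVS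
    have hsum : ∑ v ∈ VS, pc v = 276 * 276 := by
      show ∑ v ∈ VS, (SB.filter fun a => a * v ∈ SB).card = 276 * 276
      rw [Finset.sum_congr rfl fun v _ => Finset.card_filter (fun a => a * v ∈ SB) SB,
        Finset.sum_comm, Finset.sum_congr rfl (g := fun _ => 276) fun a ha => ?_, Finset.sum_const,
        hSBc, smul_eq_mul]
      rw [← Finset.card_filter, ← hSBc]
      refine Finset.card_nbij' (fun v => a * v) (fun b => a * b) ?_ ?_ ?_ ?_
      · intro v hv
        simp only [Finset.coe_filter, Finset.mem_filter, Set.mem_ofPred_eq] at hv ⊢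
        exact hv.2
      · intro b hb
        simp only [Finset.coe_filter, Finset.mem_filter, Set.mem_ofPred_eq, hVS, Finset.mem_univ,
          true_and]
        have haV := ((hSBmem a).1 ha).1
        exact ⟨mul_mem haV ((hSBmem b).1 hb).1, by rwa [← mul_assoc, hVsq a haV, one_mul]⟩
      · intro v _
        show a * (a * v) = v
        rw [← mul_assoc, hVsq a ((hSBmem a).1 ha).1, one_mul]
      · intro b _
        show a * (a * b) = b
        rw [← mul_assoc, hVsq a ((hSBmem a).1 ha).1, one_mul]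
    have hsplit : VS = insert 1 (SA ∪ SB) := by
      ext v
      simp only [hVS, hSA, hSB, Finset.mem_insert, Finset.mem_union, Finset.mem_filter,
        Finset.mem_univ, true_and]
      constructor
      · intro hv
        rcases eq_or_ne v 1 with rfl | h1
        · exact Or.inl rfl
        · rcases em (IsConj z v) with h | h
          · exact Or.inr (Or.inl ⟨hv, h1, h⟩)
          · exact Or.inr (Or.inr ⟨hv, h1, h⟩)
      · rintro (rfl | h | h)
        exacts [V.one_mem, h.1, h.1]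
    have hdis : Disjoint SA SB := Finset.disjoint_left.2 fun v h h' =>
      ((hSBmem v).1 h').2.2 (Finset.mem_filter.1 h).2.2.2
    have h1n : (1 : G) ∉ SA ∪ SB := by
      simp [hSA, hSB]
    have huA : u ∈ SA := by
      refine Finset.mem_filter.2 ⟨Finset.mem_univ _, hu, hu1, ?_⟩
      by_contra h
      exact huS ((hSBmem u).2 ⟨hu, hu1, h⟩)
    have hA' : ∀ v ∈ SA, pc v = pc u := by
      intro v hv
      obtain ⟨-, hv1, hv2, hv3⟩ := Finset.mem_filter.1 hv
      obtain ⟨-, hu2, hu3, hu4⟩ := Finset.mem_filter.1 huA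
      obtain ⟨n, hn, rfl⟩ := htrA u v hu2 hu3 hu4 hv1 hv2 hv3
      exact hpconj n hn u
    obtain ⟨t, ht⟩ : SB.Nonempty := Finset.card_pos.1 (by omega)
    have hB' : ∀ v ∈ SB, pc v = pc t := by
      intro v hv
      obtain ⟨hv1, hv2, hv3⟩ := (hSBmem v).1 hv
      obtain ⟨ht1, ht2, ht3⟩ := (hSBmem t).1 ht
      obtain ⟨n, hn, rfl⟩ := htrB t v ht1 ht2 ht3 hv1 hv2 hv3
      exact hpconj n hn t
    rw [hsplit, Finset.sum_insert h1n, Finset.sum_union hdis, Finset.sum_congr rfl hA',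
      Finset.sum_congr rfl hB', Finset.sum_const, Finset.sum_const, hSAc, hSBc, smul_eq_mul,
      smul_eq_mul] at hsum
    have e : pc 1 = 276 := by
      show (SB.filter fun a => a * 1 ∈ SB).card = 276
      rw [← hSBc]
      congr 1
      exact Finset.filter_true_of_mem fun a ha => by rwa [mul_one]
    rw [e] at hsum
    omega
  obtain ⟨a, ha, b, hb, hab⟩ := exists_product_mem hW hSW hne fun u hu huS => by
    have huSB : u ∉ SB := fun h => huS (by rw [hSdef, Finset.mem_filter]; exact ⟨h, hu.2⟩)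
    have h0 := hpZ u hu.1 huSB
    set X := SB.filter fun a => a * u ∈ SB with hX
    have hc : Commute p0 u := Subgroup.mem_centralizer_iff.1 hu.2 p0 hp0
    have hconj : ∀ a ∈ X, p0 * a * p0⁻¹ ∈ X := by
      intro a ha
      rw [hX, Finset.mem_filter] at ha ⊢
      refine ⟨(hconjSB p0 (hPM hp0) a).2 ha.1, ?_⟩
      have e : p0 * a * p0⁻¹ * u = p0 * (a * u) * p0⁻¹ := by
        calc p0 * a * p0⁻¹ * u = p0 * a * (p0⁻¹ * u) := by group
          _ = p0 * a * (u * p0⁻¹) := by rw [hc.inv_left.eq]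
          _ = _ := by group
      rw [e]
      exact (hconjSB p0 (hPM hp0) _).2 ha.2
    let f : Function.End ↥X := fun a => ⟨p0 * a * p0⁻¹, hconj a a.2⟩
    have h1 := Equiv.Perm.card_fixedPoints_modEq (p := 3) (n := 1) (f := f) (by
      rw [pow_one, pow_succ, pow_succ, pow_one]
      funext a
      refine Subtype.ext ?_
      show p0 * (p0 * (p0 * (a : G) * p0⁻¹) * p0⁻¹) * p0⁻¹ = a
      calc p0 * (p0 * (p0 * (a : G) * p0⁻¹) * p0⁻¹) * p0⁻¹ = p0 ^ 3 * (a : G) * (p0 ^ 3)⁻¹ := by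
            simp [pow_succ, mul_assoc]
        _ = a := by simp [ThreeClass.pow_three_eq_one_of_mem hP hp0])
    have h2 : Fintype.card (Function.fixedPoints f) = (S.filter fun a => a * u ∈ S).card := by
      rw [← Fintype.card_coe]
      refine Fintype.card_congr ⟨fun a => ⟨a.1.1, ?_⟩, fun a => ⟨⟨a.1, ?_⟩, ?_⟩, fun _ => rfl,
        fun _ => rfl⟩
      · have ha := Finset.mem_filter.1 a.1.2
        have hfix : (a.1.1 : G) ∈ Subgroup.centralizer (P : Set G) :=
          eq_or_commute hP hp0 hp01 (mul_inv_eq_iff_eq_mul.1 (congrArg Subtype.val a.2) :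
            p0 * (a.1.1 : G) = a.1.1 * p0).symm
        exact Finset.mem_filter.2 ⟨(hSmem _).2 ⟨ha.1, hfix⟩, (hSmem _).2 ⟨ha.2, mul_mem hfix hu.2⟩⟩
      · have ha := Finset.mem_filter.1 a.2
        exact Finset.mem_filter.2 ⟨((hSmem _).1 ha.1).1, ((hSmem _).1 ha.2).1⟩
      · have ha' := Finset.mem_filter.1 a.2
        have ha : _ ∧ True := ⟨(hSmem _).1 ha'.1, trivial⟩
        refine Subtype.ext ?_
        show p0 * (a : G) * p0⁻¹ = a
        rw [Subgroup.mem_centralizer_iff.1 ha.1.2 p0 hp0, mul_inv_cancel_right]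
    rw [h2, Fintype.card_coe] at h1
    have h3 : pc u % 3 = (S.filter fun a => a * u ∈ S).card % 3 := h1
    omega
  have hT : ∀ s ∈ S, Subgroup.centralizer ({s} : Set G) ≤ M := fun s hs => by
    rw [hSdef, Finset.mem_filter, hSBmem] at hs
    exact hCT s hs.1.1 hs.1.2.1 hs.1.2.2
  -- `z` is isolated in the centraliser of `P`
  set CP := Subgroup.centralizer (P : Set G) with hCP
  have haV : a ∈ V := (hSW a ha).1
  have haH : a ∈ Subgroup.centralizer ({z} : Set G) := hVH haV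
  have haN : φ ⟨a, haH⟩ ≠ 1 := by
    intro e
    rw [hSdef, Finset.mem_filter, hSBmem] at ha
    rcases hW1 ⟨a, haH⟩ ⟨haV, ha.2⟩ e with h | h
    · exact ha.1.2.1 h
    · exact ha.1.2.2 ((show a = z from h).symm ▸ IsConj.refl z)
  have hkeyW : ∀ x : ↥(Subgroup.centralizer ({z} : Set G)), (x : G) ∈ CP → (x : G) * x = 1 →
      φ x = 1 → (x : G) = 1 ∨ (x : G) = z := by
    intro x hxP hx2 hx1
    obtain ⟨p, hp, e, he, hpe⟩ := hkc x hx1 (Subgroup.centralizer_le_normalizer _ hxP)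
    have hpec : Commute p e := by
      rcases he with rfl | rfl
      · exact Commute.one_right p
      · exact Subgroup.mem_centralizer_singleton_iff.1 (hPH hp)
    have he2 : e * e = 1 := by
      rcases he with rfl | rfl
      · exact one_mul 1
      · exact hzz
    rw [hpe, hpec.symm.mul_mul_mul_comm, he2, mul_one] at hx2
    have hp3 := ThreeClass.pow_three_eq_one_of_mem hP hp
    rw [pow_succ, pow_two, hx2, one_mul] at hp3
    rw [hpe, hp3, one_mul]
    exact he
  have hiso : ∀ g ∈ CP, Commute z (g * z * g⁻¹) → g * z * g⁻¹ = z := by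
    intro g hg hcz
    have hxH : g * z * g⁻¹ ∈ Subgroup.centralizer ({z} : Set G) :=
      Subgroup.mem_centralizer_singleton_iff.2 hcz.eq.symm
    have hxP : g * z * g⁻¹ ∈ CP := mul_mem (mul_mem hg hzP) (inv_mem hg)
    have hx2 : g * z * g⁻¹ * (g * z * g⁻¹) = 1 := by
      rw [show g * z * g⁻¹ * (g * z * g⁻¹) = g * (z * z) * g⁻¹ by group, hzz]; group
    by_cases hx1 : φ ⟨_, hxH⟩ = 1
    · rcases hkeyW ⟨_, hxH⟩ hxP hx2 hx1 with h | h
      · exact absurd (conj_eq_one_iff.1 h) hz1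
      · exact h
    exfalso
    obtain ⟨u, hu⟩ := hInn ⟨_, hxH⟩ hxP
    obtain ⟨v, hv⟩ := hInn ⟨a, haH⟩ (hSW a ha).2
    have hsqM : ∀ (y : ↥(Subgroup.centralizer ({z} : Set G))) (w : ↥Cfsg.Spor.M22),
        (y : G) * y = 1 → φ y ≠ 1 → MulAut.conj w = φ y → w * w = 1 ∧ w ≠ 1 := by
      intro y w hy hy1 hw
      refine ⟨LargeFi.J4.conj_injective ?_, fun e => hy1 (by rw [← hw, e, map_one])⟩
      rw [map_mul, map_one, hw, ← map_mul, show y * y = 1 from Subtype.ext hy, map_one]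
    obtain ⟨hu2, hu1⟩ := hsqM _ u hx2 hx1 hu
    obtain ⟨hv2, hv1⟩ := hsqM ⟨a, haH⟩ v (hVsq a haV) haN hv
    obtain ⟨κ, hκ⟩ := isConj_iff.1 (ThreeLocalCert.M22_invol_conj hu2 hu1 hv2 hv1)
    obtain ⟨c, hcP, hc⟩ := (himg.symm ▸ ⟨κ, rfl⟩ :
      MulAut.conj κ ∈ (CP.subgroupOf (Subgroup.centralizer ({z} : Set G))).map φ)
    set y : ↥(Subgroup.centralizer ({z} : Set G)) := c * ⟨_, hxH⟩ * c⁻¹ with hy
    have hφy : φ y = φ ⟨a, haH⟩ := by
      rw [hy, map_mul, map_mul, map_inv, hc, ← hu, ← map_mul, ← map_inv, ← map_mul, hκ, hv]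
    set d : ↥(Subgroup.centralizer ({z} : Set G)) := y * ⟨a, haH⟩ with hd
    have hd1 : φ d = 1 := by
      rw [hd, map_mul, hφy, ← map_mul, show (⟨a, haH⟩ : ↥(Subgroup.centralizer ({z} : Set G))) *
        ⟨a, haH⟩ = 1 from Subtype.ext (hVsq a haV), map_one]
    have hyP : (y : G) ∈ CP := mul_mem (mul_mem hcP hxP) (inv_mem hcP)
    obtain ⟨p, hp, e, he, hpe⟩ := hkc d hd1
      (Subgroup.centralizer_le_normalizer _ (mul_mem hyP (hSW a ha).2))
    -- `y` lies in `W`
    have hpd : (y : G) = p * e * a := by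
      have hdG : (d : G) = (y : G) * a := rfl
      rw [← hpe, hdG, mul_assoc, hVsq a haV, mul_one]
    have heV : e ∈ V := by rcases he with rfl | rfl; exacts [one_mem _, hzV]
    have heaV : e * a ∈ V := mul_mem heV haV
    have heaP : e * a ∈ CP := by
      refine mul_mem ?_ (hSW a ha).2
      rcases he with rfl | rfl; exacts [one_mem _, hzP]
    have hpc : Commute p (e * a) := Subgroup.mem_centralizer_iff.1 heaP p hp
    have hy2 : (y : G) * y = 1 := by
      rw [hy, Subgroup.coe_mul, Subgroup.coe_mul, Subgroup.coe_inv,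
        show ((c : G) * (g * z * g⁻¹) * (c : G)⁻¹) * ((c : G) * (g * z * g⁻¹) * (c : G)⁻¹) =
          (c : G) * (g * z * g⁻¹ * (g * z * g⁻¹)) * (c : G)⁻¹ by group, hx2]
      group
    rw [hpd, mul_assoc p e a, hpc.symm.mul_mul_mul_comm, hVsq _ heaV, mul_one] at hy2
    have hp3 := ThreeClass.pow_three_eq_one_of_mem hP hp
    rw [pow_succ, pow_two, hy2, one_mul] at hp3
    rw [hp3, one_mul] at hpd
    have hyW : (y : G) ∈ W := ⟨hpd ▸ heaV, hyP⟩
    have hyz : (y : G) = z := by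
      refine hfus ((c : G) * g)⁻¹
        (inv_mem (Subgroup.centralizer_le_normalizer _ (mul_mem hcP hg))) _ hyW ?_
      rw [hy]
      simp only [Subgroup.coe_mul, Subgroup.coe_inv]
      group
    have hone : φ y = 1 := by
      have hz' : y = ⟨z, hzH⟩ := Subtype.ext hyz
      exact (by
        rw [hz']
        have hc : φ ⟨z, hzH⟩ ∈ Subgroup.center (MulAut ↥Cfsg.Spor.M22) := by
          refine Subgroup.mem_center_iff.2 fun α => ?_
          obtain ⟨k, rfl⟩ := hφ α
          rw [← map_mul, ← map_mul]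
          exact congrArg φ (Subtype.ext (Subgroup.mem_centralizer_singleton_iff.1 k.2))
        obtain ⟨w, hw⟩ := hInn ⟨z, hzH⟩ hzP
        have hw1 : w ∈ Subgroup.center ↥Cfsg.Spor.M22 := Subgroup.mem_center_iff.2 fun v =>
          LargeFi.J4.conj_injective (by
            rw [map_mul, map_mul, hw]
            exact Subgroup.mem_center_iff.1 hc _)
        rw [LargeFi.J4.center_M22, Subgroup.mem_bot] at hw1
        rw [← hw, hw1, map_one])
    exact haN (hφy ▸ hone)
  -- the odd core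
  have hisoC : Cfsg.IsIsolatedInvolution (⟨z, hzP⟩ : ↥CP) := by
    refine ⟨by rw [Subgroup.orderOf_mk]; exact hz, fun g hg => Subtype.ext ?_⟩
    exact hiso g g.2 (congrArg Subtype.val hg)
  set O := (Cfsg.oddCore ↥CP).map CP.subtype with hO'
  have hOodd : Odd (Nat.card ↥O) := by
    rw [hO', Subgroup.card_map_of_injective CP.subtype_injective]
    exact CfsgLib.Base.odd_card_oddCore _
  have hOn : CP ≤ Subgroup.normalizer (O : Set G) := by
    intro c hc
    refine mem_normalizer_of_map_eq (Subgroup.eq_of_le_of_card_ge ?_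
      (by rw [Subgroup.card_map_of_injective (K := O) (f := (MulAut.conj c).toMonoidHom) (MulAut.conj c).injective]))
    rintro _ ⟨_, ⟨x, hx, rfl⟩, rfl⟩
    exact ⟨⟨c, hc⟩ * x * (⟨c, hc⟩ : ↥CP)⁻¹, (Cfsg.pPrimeCore_normal 2 ↥CP).conj_mem x hx _, rfl⟩
  have hOM : O ≤ M := by
    have hbV : b ∈ V := (hSW b hb).1
    set A4 := Subgroup.zpowers a ⊔ Subgroup.zpowers b with hA4
    have hA4V : A4 ≤ W := sup_le (Subgroup.zpowers_le.2 (hSW a ha)) (Subgroup.zpowers_le.2 (hSW b hb))
    haveI : IsMulCommutative ↥A4 :=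
      ⟨⟨fun x y => Subtype.ext (hVcomm _ (hA4V x.2).1 _ (hA4V y.2).1)⟩⟩
    refine CfsgLib.Coprime.le_of_centralizer_le (q := 2) Nat.prime_two (A := A4)
      (fun x hx => hOn (hA4V hx).2) ?_ (Nat.coprime_two_right.2 hOodd)
      (Subgroup.mem_sup_left (Subgroup.mem_zpowers a)) (Subgroup.mem_sup_right (Subgroup.mem_zpowers b))
      (by rw [hV.2 a haV]; exact one_mem _) (by rw [hV.2 b hbV]; exact one_mem _)
      (inf_le_right.trans (hT b hb)) fun i hi => ?_
    · refine Nat.Coprime.coprime_dvd_left ((Subgroup.card_dvd_of_le hA4V).trans hW32) ?_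
      exact (Nat.Coprime.pow_left 5 (Nat.coprime_two_left.2 hOodd) : Nat.Coprime (2 ^ 5) _)
    · interval_cases i
      · rw [pow_zero, mul_one]; exact inf_le_right.trans (hT a ha)
      · rw [pow_one]; exact inf_le_right.trans (hT _ hab)
  have hOz : O ≤ Subgroup.centralizer ({z} : Set G) := by
    intro o ho
    have h1 : o * z * o⁻¹ * z⁻¹ ∈ O := by
      rw [show o * z * o⁻¹ * z⁻¹ = o * (z * o⁻¹ * z⁻¹) by group]
      exact mul_mem ho ((Subgroup.mem_normalizer_iff.1 (hOn hzP) _).1 (inv_mem ho))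
    have h2 : o * z * o⁻¹ * z⁻¹ ∈ V :=
      mul_mem ((Subgroup.mem_normalizer_iff.1 (hOM ho) z).1 hzV) (inv_mem hzV)
    have h3 := Nat.dvd_gcd (Subgroup.orderOf_dvd_natCard O h1) (Subgroup.orderOf_dvd_natCard V h2)
    rw [hVc, Nat.Coprime.gcd_eq_one (Nat.Coprime.pow_right 11 (Nat.coprime_two_right.2 hOodd)),
      Nat.dvd_one, orderOf_eq_one_iff, mul_inv_eq_one, mul_inv_eq_iff_eq_mul] at h3
    exact Subgroup.mem_centralizer_singleton_iff.2 h3
  have hCPH : CP ≤ Subgroup.centralizer ({z} : Set G) := by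
    intro g hg
    obtain ⟨o, ho, c, hc, hgoc⟩ :=
      CfsgLib.Involutions.ZStar.exists_mul_centralizer hisoC (⟨g, hg⟩ : ↥CP)
    have e : g = (o : G) * (c : G) := congrArg Subtype.val hgoc
    rw [e]
    refine mul_mem (hOz ⟨o, ho, rfl⟩) (Subgroup.mem_centralizer_singleton_iff.2 ?_)
    exact congrArg Subtype.val (Subgroup.mem_centralizer_singleton_iff.1 hc)
  -- the normaliser
  intro g hg
  have hyP : g * z * g⁻¹ ∈ CP := by
    refine Subgroup.mem_centralizer_iff.2 fun p hp => ?_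
    have h1 : g⁻¹ * p * g ∈ P := by simpa using (Subgroup.mem_normalizer_iff.1 (inv_mem hg) p).1 hp
    have h2 : Commute (g⁻¹ * p * g) z := Subgroup.mem_centralizer_iff.1 hzP _ h1
    calc p * (g * z * g⁻¹) = g * ((g⁻¹ * p * g) * z) * g⁻¹ := by group
      _ = _ := by rw [h2.eq]; group
  set y : ↥(Subgroup.centralizer ({z} : Set G)) := ⟨g * z * g⁻¹, hCPH hyP⟩ with hy
  have hy1 : φ y = 1 := by
    obtain ⟨u, hu⟩ := hInn y hyP
    have hu1 : u ∈ Subgroup.center ↥Cfsg.Spor.M22 := Subgroup.mem_center_iff.2 fun v => by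
      obtain ⟨c, hcP, hc⟩ := (himg.symm ▸ ⟨v, rfl⟩ :
        MulAut.conj v ∈ (CP.subgroupOf (Subgroup.centralizer ({z} : Set G))).map φ)
      refine LargeFi.J4.conj_injective ?_
      rw [map_mul, map_mul, hu, ← hc, ← map_mul, ← map_mul]
      refine congrArg φ (Subtype.ext ?_)
      -- elements of the centraliser of `P` commute with the conjugate of `z`
      have hc' : g⁻¹ * (c : G) * g ∈ CP := by
        refine Subgroup.mem_centralizer_iff.2 fun p hp => ?_
        have h1 : g * p * g⁻¹ ∈ P := (Subgroup.mem_normalizer_iff.1 hg p).1 hp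
        have h2 : Commute (g * p * g⁻¹) (c : G) := Subgroup.mem_centralizer_iff.1 hcP _ h1
        calc p * (g⁻¹ * (c : G) * g) = g⁻¹ * ((g * p * g⁻¹) * (c : G)) * g := by group
          _ = _ := by rw [h2.eq]; group
      have h3 : Commute (g⁻¹ * (c : G) * g) z :=
        Subgroup.mem_centralizer_singleton_iff.1 (hCPH hc')
      show (c : G) * (g * z * g⁻¹) = g * z * g⁻¹ * (c : G)
      calc (c : G) * (g * z * g⁻¹) = g * ((g⁻¹ * (c : G) * g) * z) * g⁻¹ := by group
        _ = _ := by rw [h3.eq]; group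
    rw [LargeFi.J4.center_M22, Subgroup.mem_bot] at hu1
    rw [← hu, hu1, map_one]
  have hy2 : (y : G) * y = 1 := by
    show g * z * g⁻¹ * (g * z * g⁻¹) = 1
    rw [show g * z * g⁻¹ * (g * z * g⁻¹) = g * (z * z) * g⁻¹ by group, hzz]; group
  rcases hkeyW y hyP hy2 hy1 with h | h
  · exact absurd (conj_eq_one_iff.1 (h : g * z * g⁻¹ = 1)) hz1
  · exact Subgroup.mem_centralizer_singleton_iff.2 (mul_inv_eq_iff_eq_mul.1 (h : g * z * g⁻¹ = z))

/-- one class of elements of order three -/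
theorem isConj_three (hJ : Cfsg.IsOfJankoFourTypeWith z P) (hU : UniqueHyp G) (hS : SplitHyp G)
    (hO : OrbitHyp z) {x y : G} (hx : orderOf x = 3) (hy : orderOf y = 3) : IsConj x y := by
  obtain ⟨V, ⟨-, hV, hc⟩, -⟩ := hU (default : Sylow 2 G)
  obtain ⟨-, K, -, -, -, hK⟩ := hS V hV hc
  exact ThreeClass.isConj_of_orderOf_eq_three hJ (normalizer_le_centralizer hJ hU hS hO) ⟨K, hK⟩ hx hy

end CfsgLib.Spor.JankoFour.ThreeLocal
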