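import Cfsg.Agent.Lib.Spor.JankoFour.ThreeLocalBase
import Cfsg.Agent.Lib.Spor.LargeJ4.M22Facts
import Cfsg.Agent.Lib.Involutions.ZStar.Main
import Cfsg.Agent.Lib.Coprime.Action2

/-!
In a group of Janko-four type the normaliser of the distinguished subgroup of order three lies in the
involution centraliser, given the elementary abelian subgroups of order `2^11`: their uniqueness in a
Sylow subgroup, the split normaliser with quotient `M24`, and the two orbits.
-/

set_option autoImplicit false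

namespace CfsgLib.Spor.JankoFour.ThreeLocal

open Cfsg CfsgLib.Spor

variable {G : Type*} [Group G] [Finite G]

/-- uniqueness in each Sylow subgroup -/
def UniqueHyp (G : Type*) [Group G] : Prop :=
  ∀ T : Sylow 2 G, ∃! V : Subgroup G,
    V ≤ (T : Subgroup G) ∧ Cfsg.IsElementaryAbelian 2 V ∧ Nat.card ↥V = 2 ^ 11

/-- self-centralising with split normaliser and quotient `M24` -/
def SplitHyp (G : Type*) [Group G] : Prop :=
  ∀ V : Subgroup G, Cfsg.IsElementaryAbelian 2 V → Nat.card ↥V = 2 ^ 11 →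
    Subgroup.centralizer (V : Set G) ≤ V ∧ ∃ K : Subgroup G, K ≤ Subgroup.normalizer (V : Set G) ∧
      K ⊓ V = ⊥ ∧ K ⊔ V = Subgroup.normalizer (V : Set G) ∧ Cfsg.Spor.IsoM24 ↥K

/-- the two orbits -/
def OrbitHyp {G : Type*} [Group G] (z : G) : Prop :=
  ∀ V : Subgroup G, Cfsg.IsElementaryAbelian 2 V → Nat.card ↥V = 2 ^ 11 →
    ∃ z' t : G, z' ∈ V ∧ t ∈ V ∧ t ≠ 1 ∧ IsConj z z' ∧ ¬ IsConj z t ∧
    Set.ncard {v : G | ∃ n ∈ Subgroup.normalizer (V : Set G), n * z' * n⁻¹ = v} = 1771 ∧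
    Set.ncard {v : G | ∃ n ∈ Subgroup.normalizer (V : Set G), n * t * n⁻¹ = v} = 276 ∧
    Subgroup.centralizer ({t} : Set G) ≤ Subgroup.normalizer (V : Set G)

variable {z : G} {P : Subgroup G}

theorem le_centralizer_of_mem {V : Subgroup G} (hV : Cfsg.IsElementaryAbelian 2 V) (hz : z ∈ V) :
    V ≤ Subgroup.centralizer ({z} : Set G) := fun v hv =>
  Subgroup.mem_centralizer_singleton_iff.2
    (congrArg Subtype.val (hV.1.is_comm.comm (⟨v, hv⟩ : ↥V) ⟨z, hz⟩))

/-- two such subgroups inside the centraliser are conjugate there -/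
theorem exists_conj_eq (hJ : Cfsg.IsOfJankoFourTypeWith z P) (hU : UniqueHyp G) {V W : Subgroup G}
    (hV : Cfsg.IsElementaryAbelian 2 V) (hVc : Nat.card ↥V = 2 ^ 11)
    (hW : Cfsg.IsElementaryAbelian 2 W) (hWc : Nat.card ↥W = 2 ^ 11)
    (hVH : V ≤ Subgroup.centralizer ({z} : Set G)) (hWH : W ≤ Subgroup.centralizer ({z} : Set G)) :
    ∃ h ∈ Subgroup.centralizer ({z} : Set G), V.map (MulAut.conj h).toMonoidHom = W := by
  haveI : Fact (Nat.Prime 2) := ⟨Nat.prime_two⟩
  have key : ∀ X : Subgroup G, Cfsg.IsElementaryAbelian 2 X → Nat.card ↥X = 2 ^ 11 →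
      X ≤ Subgroup.centralizer ({z} : Set G) →
      ∃ S : Sylow 2 ↥(Subgroup.centralizer ({z} : Set G)),
        X.subgroupOf (Subgroup.centralizer ({z} : Set G)) ≤
          (S : Subgroup ↥(Subgroup.centralizer ({z} : Set G))) := fun X _ hc hle =>
    (IsPGroup.of_card (n := 11) (by
      rw [Nat.card_congr (Subgroup.subgroupOfEquivOfLe hle).toEquiv, hc])).exists_le_sylow
  obtain ⟨S1, h1⟩ := key V hV hVc hVH
  obtain ⟨S2, h2⟩ := key W hW hWc hWH
  obtain ⟨h, hh⟩ := MulAction.exists_smul_eq ↥(Subgroup.centralizer ({z} : Set G)) S1 S2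
  obtain ⟨T, hT⟩ := exists_sylow_le hJ S2
  refine ⟨h, h.2, (hU T).unique ⟨?_, elementary_map_conj hV hVc h⟩ ⟨?_, hW, hWc⟩⟩
  · rintro _ ⟨v, hv, rfl⟩
    rw [hT]
    refine ⟨h * ⟨v, hVH hv⟩ * h⁻¹, ?_, rfl⟩
    have h3 : MulAut.conj h • (⟨v, hVH hv⟩ : ↥(Subgroup.centralizer ({z} : Set G))) ∈
        (h • S1 : Sylow 2 ↥(Subgroup.centralizer ({z} : Set G))) :=
      Subgroup.smul_mem_pointwise_smul _ _ _ (h1 hv)
    rw [hh] at h3
    exact h3
  · intro w hw
    rw [hT]
    exact ⟨⟨w, hWH hw⟩, h2 hw, rfl⟩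

/-- the map of the normaliser onto `M24` -/
theorem exists_hom (hS : SplitHyp G) {V : Subgroup G} (hV : Cfsg.IsElementaryAbelian 2 V)
    (hVc : Nat.card ↥V = 2 ^ 11) :
    Nat.card ↥(Subgroup.normalizer (V : Set G)) = 501397585920 ∧
    ∃ ψ : ↥(Subgroup.normalizer (V : Set G)) →* ↥Cfsg.M24,
      ∀ m, ψ m = 1 → (m : G) ∈ V := by
  obtain ⟨-, K, hKM, hKV, hsup, ⟨e⟩⟩ := hS V hV hVc
  haveI : (V.subgroupOf (Subgroup.normalizer (V : Set G))).Normal := Subgroup.normal_in_normalizer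
  set M := Subgroup.normalizer (V : Set G) with hM
  let π : ↥K →* ↥M ⧸ V.subgroupOf M :=
    (QuotientGroup.mk' (V.subgroupOf M)).comp (Subgroup.inclusion hKM)
  have hπ : Function.Bijective π := by
    constructor
    · rw [injective_iff_map_eq_one]
      intro k hk
      rw [MonoidHom.comp_apply, QuotientGroup.mk'_apply, QuotientGroup.eq_one_iff] at hk
      have hk' : (k : G) ∈ K ⊓ V := ⟨k.2, hk⟩
      rw [hKV] at hk'
      exact Subtype.ext hk'
    · intro q
      induction q using QuotientGroup.induction_on with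
      | H m =>
        have hm : (m : G) ∈ ((K ⊔ V : Subgroup G) : Set G) := by rw [SetLike.mem_coe, hsup]; exact m.2
        rw [Subgroup.coe_mul_of_left_le_normalizer_right K V hKM] at hm
        obtain ⟨k, hk, v, hv, hkv⟩ := hm
        refine ⟨⟨k, hk⟩, ?_⟩
        rw [MonoidHom.comp_apply, QuotientGroup.mk'_apply, QuotientGroup.eq]
        show (k : G)⁻¹ * (m : G) ∈ V
        rw [← hkv]
        simpa using hv
  let eK : ↥M ⧸ V.subgroupOf M ≃* ↥Cfsg.M24 := (MulEquiv.ofBijective π hπ).symm.trans e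
  refine ⟨?_, eK.toMonoidHom.comp (QuotientGroup.mk' _), fun m hm => ?_⟩
  · rw [Subgroup.card_eq_card_quotient_mul_card_subgroup (V.subgroupOf M),
      Nat.card_congr eK.toEquiv, natCard_M24,
      Nat.card_congr (Subgroup.subgroupOfEquivOfLe (Subgroup.le_normalizer : V ≤ M)).toEquiv, hVc]
    norm_num
  · rw [MonoidHom.comp_apply, MulEquiv.coe_toMonoidHom, map_eq_one_iff eK eK.injective,
      QuotientGroup.mk'_apply, QuotientGroup.eq_one_iff] at hm
    exact hm

/-- the two orbits are described by fusion with `z` -/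
theorem orbit_facts (hO : OrbitHyp z) {V : Subgroup G} (hV : Cfsg.IsElementaryAbelian 2 V)
    (hVc : Nat.card ↥V = 2 ^ 11) (hz1 : z ≠ 1) :
    Set.ncard {v : G | v ∈ V ∧ v ≠ 1 ∧ IsConj z v} = 1771 ∧
    Set.ncard {v : G | v ∈ V ∧ v ≠ 1 ∧ ¬ IsConj z v} = 276 ∧
    (∀ a b : G, a ∈ V → a ≠ 1 → IsConj z a → b ∈ V → b ≠ 1 → IsConj z b →
      ∃ n ∈ Subgroup.normalizer (V : Set G), n * a * n⁻¹ = b) ∧
    (∀ a b : G, a ∈ V → a ≠ 1 → ¬ IsConj z a → b ∈ V → b ≠ 1 → ¬ IsConj z b →
      ∃ n ∈ Subgroup.normalizer (V : Set G), n * a * n⁻¹ = b) ∧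
    ∀ a : G, a ∈ V → a ≠ 1 → ¬ IsConj z a →
      Subgroup.centralizer ({a} : Set G) ≤ Subgroup.normalizer (V : Set G) := by
  obtain ⟨z', t, hz', ht, ht1, hzz', hzt, hA, hB, hCt⟩ := hO V hV hVc
  set M := Subgroup.normalizer (V : Set G) with hM
  set SA := {v : G | v ∈ V ∧ v ≠ 1 ∧ IsConj z v}
  set SB := {v : G | v ∈ V ∧ v ≠ 1 ∧ ¬ IsConj z v}
  set OA := {v : G | ∃ n ∈ M, n * z' * n⁻¹ = v}
  set OB := {v : G | ∃ n ∈ M, n * t * n⁻¹ = v}
  have hz'1 : z' ≠ 1 := by
    rintro rfl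
    obtain ⟨c, hc⟩ := isConj_iff.1 hzz'
    exact hz1 (conj_eq_one_iff.1 hc)
  have hAs : OA ⊆ SA := by
    rintro _ ⟨n, hn, rfl⟩
    exact ⟨(Subgroup.mem_normalizer_iff.1 hn z').1 hz', fun e => hz'1 (conj_eq_one_iff.1 e),
      hzz'.trans (isConj_iff.2 ⟨n, rfl⟩)⟩
  have hBs : OB ⊆ SB := by
    rintro _ ⟨n, hn, rfl⟩
    exact ⟨(Subgroup.mem_normalizer_iff.1 hn t).1 ht, fun e => ht1 (conj_eq_one_iff.1 e),
      fun h => hzt (h.trans (isConj_iff.2 ⟨n, rfl⟩).symm)⟩
  have hd : Disjoint SA SB := Set.disjoint_left.2 fun v h h' => h'.2.2 h.2.2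
  have htot : SA.ncard + SB.ncard + 1 = 2048 := by
    have hu : (V : Set G) = insert 1 (SA ∪ SB) := by
      ext v
      simp only [SA, SB, SetLike.mem_coe, Set.mem_insert_iff, Set.mem_union, Set.mem_ofPred_eq]
      constructor
      · intro hv
        rcases eq_or_ne v 1 with rfl | h1
        · exact Or.inl rfl
        · rcases em (IsConj z v) with h | h
          · exact Or.inr (Or.inl ⟨hv, h1, h⟩)
          · exact Or.inr (Or.inr ⟨hv, h1, h⟩)
      · rintro (rfl | h | h)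
        exacts [V.one_mem, h.1, h.1]
    have h1 : (1 : G) ∉ SA ∪ SB := by rintro (h | h) <;> exact h.2.1 rfl
    have hn : (V : Set G).ncard = 2048 := by rw [← Nat.card_coe_set_eq]; exact hVc
    rw [hu, Set.ncard_insert_of_notMem h1 (Set.toFinite _),
      Set.ncard_union_eq hd (Set.toFinite _) (Set.toFinite _)] at hn
    exact hn
  have h1 := Set.ncard_le_ncard hAs (Set.toFinite _)
  have h2 := Set.ncard_le_ncard hBs (Set.toFinite _)
  rw [hA] at h1
  rw [hB] at h2
  have eA : OA = SA := Set.eq_of_subset_of_ncard_le hAs (by rw [hA]; omega) (Set.toFinite _)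
  have eB : OB = SB := Set.eq_of_subset_of_ncard_le hBs (by rw [hB]; omega) (Set.toFinite _)
  refine ⟨by omega, by omega, ?_, ?_, ?_⟩
  · intro a b ha ha1 hza hb hb1 hzb
    obtain ⟨n, hn, rfl⟩ := (eA.symm ▸ (⟨ha, ha1, hza⟩ : a ∈ SA) : a ∈ OA)
    obtain ⟨m, hm, rfl⟩ := (eA.symm ▸ (⟨hb, hb1, hzb⟩ : b ∈ SA) : b ∈ OA)
    exact ⟨m * n⁻¹, mul_mem hm (inv_mem hn), by group⟩
  · intro a b ha ha1 hza hb hb1 hzb
    obtain ⟨n, hn, rfl⟩ := (eB.symm ▸ (⟨ha, ha1, hza⟩ : a ∈ SB) : a ∈ OB)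
    obtain ⟨m, hm, rfl⟩ := (eB.symm ▸ (⟨hb, hb1, hzb⟩ : b ∈ SB) : b ∈ OB)
    exact ⟨m * n⁻¹, mul_mem hm (inv_mem hn), by group⟩
  · intro a ha ha1 hza g hg
    obtain ⟨n, hn, rfl⟩ := (eB.symm ▸ (⟨ha, ha1, hza⟩ : a ∈ SB) : a ∈ OB)
    have h : n⁻¹ * g * n ∈ Subgroup.centralizer ({t} : Set G) := by
      rw [Subgroup.mem_centralizer_singleton_iff] at hg ⊢
      calc n⁻¹ * g * n * t = n⁻¹ * (g * (n * t * n⁻¹)) * n := by group
        _ = _ := by rw [hg]; group
    have h' := mul_mem (mul_mem hn (hCt h)) (inv_mem hn)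
    simpa [mul_assoc] using h'

/-- a suitable subgroup of order `2^11` -/
theorem exists_good (hJ : Cfsg.IsOfJankoFourTypeWith z P) (hU : UniqueHyp G) (hS : SplitHyp G)
    (hO : OrbitHyp z) :
    ∃ V : Subgroup G, Cfsg.IsElementaryAbelian 2 V ∧ Nat.card ↥V = 2 ^ 11 ∧ z ∈ V ∧
      P ≤ Subgroup.normalizer (V : Set G) ∧
      Nat.card ↥(Subgroup.normalizer (V : Set G) ⊓ Subgroup.centralizer ({z} : Set G)) = 283115520 := by
  classical
  haveI : Fact (Nat.Prime 3) := ⟨Nat.prime_three⟩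
  have hz : orderOf z = 2 := hJ.1
  have hP : Nat.card ↥P = 3 := hJ.2.2.2.2.2.1
  have hz1 : z ≠ 1 := fun e => by rw [e, orderOf_one] at hz; omega
  obtain ⟨N, φ, hφ, hker, hNc, hHc, hPH, hφP, hkc⟩ := exists_kernel_frame hJ
  obtain ⟨V0, ⟨-, hV0, hV0c⟩, -⟩ := hU (default : Sylow 2 G)
  obtain ⟨z', -, hz'V, -, -, hzz', -⟩ := hO V0 hV0 hV0c
  obtain ⟨g, hg⟩ := isConj_iff.1 hzz'
  obtain ⟨hV1, hV1c⟩ := elementary_map_conj hV0 hV0c g⁻¹
  set V1 := V0.map (MulAut.conj g⁻¹).toMonoidHom with hV1def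
  have hzV1 : z ∈ V1 := mem_map_conj_iff.2 (by rw [inv_inv, hg]; exact hz'V)
  clear_value V1
  obtain ⟨hA, -, htrans, -, -⟩ := orbit_facts hO hV1 hV1c hz1
  obtain ⟨hMc, -⟩ := exists_hom hS hV1 hV1c
  set M1 := Subgroup.normalizer (V1 : Set G) with hM1
  have hH1 : Nat.card ↥(M1 ⊓ Subgroup.centralizer ({z} : Set G)) = 283115520 := by
    have h := ncard_conjOrbit_mul M1 z
    have e : {v : G | ∃ n ∈ M1, n * z * n⁻¹ = v} = {v : G | v ∈ V1 ∧ v ≠ 1 ∧ IsConj z v} := by
      ext v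
      constructor
      · rintro ⟨n, hn, rfl⟩
        exact ⟨(Subgroup.mem_normalizer_iff.1 hn z).1 hzV1, fun e => hz1 (conj_eq_one_iff.1 e),
          isConj_iff.2 ⟨n, rfl⟩⟩
      · rintro ⟨hv, hv1, hzv⟩
        exact htrans z v hzV1 hz1 (IsConj.refl z) hv hv1 hzv
    rw [e, hA, hMc] at h
    omega
  -- an element of order three in the kernel
  set J := (M1.subgroupOf (Subgroup.centralizer ({z} : Set G))) with hJdef
  have hJc : Nat.card ↥J = 283115520 := by
    rw [hJdef, ← hH1, ← Subgroup.inf_subgroupOf_right M1,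
      Nat.card_congr (Subgroup.subgroupOfEquivOfLe inf_le_right).toEquiv]
  have h3 : 3 ∣ Nat.card ↥(φ.comp J.subtype).ker := by
    have h1 := (φ.comp J.subtype).ker.card_mul_index
    rw [Subgroup.index_ker, hJc] at h1
    have h2 := Subgroup.card_subgroup_dvd_card (φ.comp J.subtype).range
    rw [ThreeClass.natCard_mulAut_M22] at h2
    by_contra h3
    have h4 : (27 : ℕ) ∣ Nat.card ↥(φ.comp J.subtype).ker * Nat.card ↥(φ.comp J.subtype).range :=
      h1.symm ▸ (by norm_num)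
    have h5 := Nat.Coprime.dvd_of_dvd_mul_left
      ((Nat.prime_three.coprime_iff_not_dvd.2 h3).pow_left 3) (show 3 ^ 3 ∣ _ from h4)
    exact absurd (h5.trans h2) (by norm_num)
  obtain ⟨w, hw⟩ := exists_prime_orderOf_dvd_card' 3 h3
  set u : ↥(Subgroup.centralizer ({z} : Set G)) := ((w : ↥J) : ↥(Subgroup.centralizer ({z} : Set G))) with hu
  have huo : orderOf u = 3 := by rw [hu, Subgroup.orderOf_coe, Subgroup.orderOf_coe]; exact hw
  have huN : u ∈ N := hker ▸ MonoidHom.mem_ker.2 (show φ u = 1 from w.2)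
  -- Sylow subgroups of the kernel
  have hPN : P.subgroupOf (Subgroup.centralizer ({z} : Set G)) ≤ N := fun x hx =>
    hker ▸ MonoidHom.mem_ker.2 (hφP x hx)
  set PN := (P.subgroupOf (Subgroup.centralizer ({z} : Set G))).subgroupOf N with hPNdef
  have hPNc : Nat.card ↥PN = 3 := by
    rw [hPNdef, Nat.card_congr (Subgroup.subgroupOfEquivOfLe hPN).toEquiv,
      Nat.card_congr (Subgroup.subgroupOfEquivOfLe hPH).toEquiv, hP]
  have hPNi : PN.index = 8192 := by
    have h1 := PN.card_mul_index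
    rw [hPNc, hNc] at h1
    omega
  let SP : Sylow 3 ↥N := (IsPGroup.of_card (n := 1) (by rw [hPNc, pow_one])).toSylow
    (by rw [hPNi]; norm_num)
  have hup : IsPGroup 3 ↥(Subgroup.zpowers (⟨u, huN⟩ : ↥N)) :=
    IsPGroup.of_card (n := 1) (by rw [Nat.card_zpowers, Subgroup.orderOf_mk, huo, pow_one])
  obtain ⟨U, hU3⟩ := hup.exists_le_sylow
  obtain ⟨n, hn⟩ := MulAction.exists_smul_eq ↥N U SP
  have hnu : MulAut.conj n • (⟨u, huN⟩ : ↥N) ∈ (n • U : Sylow 3 ↥N) :=
    Subgroup.smul_mem_pointwise_smul _ _ _ (hU3 (Subgroup.mem_zpowers _))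
  rw [hn] at hnu
  set nG : G := ((n : ↥(Subgroup.centralizer ({z} : Set G))) : G) with hnG
  have hnz : nG ∈ Subgroup.centralizer ({z} : Set G) := (n : ↥(Subgroup.centralizer ({z} : Set G))).2
  have hpP : nG * (u : G) * nG⁻¹ ∈ P := hnu
  have hp1 : nG * (u : G) * nG⁻¹ ≠ 1 := fun e => by
    have : (u : G) = 1 := conj_eq_one_iff.1 e
    rw [show u = 1 from Subtype.ext this, orderOf_one] at huo
    omega
  obtain ⟨hV, hVc⟩ := elementary_map_conj hV1 hV1c nG
  refine ⟨V1.map (MulAut.conj nG).toMonoidHom, hV, hVc, ?_, ?_, ?_⟩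
  · refine mem_map_conj_iff.2 ?_
    have e := Subgroup.mem_centralizer_singleton_iff.1 (inv_mem hnz)
    rw [e, inv_mul_cancel_right]
    exact hzV1
  · -- `P` normalises it
    have huM : (u : G) ∈ M1 := (w : ↥J).2
    have hpM : nG * (u : G) * nG⁻¹ ∈
        Subgroup.normalizer ((V1.map (MulAut.conj nG).toMonoidHom : Subgroup G) : Set G) := by
      refine Subgroup.mem_normalizer_iff.2 fun x => ?_
      rw [mem_map_conj_iff, mem_map_conj_iff, Subgroup.mem_normalizer_iff.1 huM (nG⁻¹ * x * nG)]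
      simp [mul_assoc]
    intro p hp
    rcases ThreeClass.eq_pow_of_mem hP hpP hp1 hp with rfl | rfl | rfl
    · exact one_mem _
    · exact hpM
    · exact pow_mem hpM 2
  · rw [← hH1]
    have hf : ∀ x : G, x ∈ M1 ⊓ Subgroup.centralizer ({z} : Set G) →
        nG * x * nG⁻¹ ∈ Subgroup.normalizer ((V1.map (MulAut.conj nG).toMonoidHom : Subgroup G) : Set G) ⊓
          Subgroup.centralizer ({z} : Set G) := fun x hx => by
      refine ⟨Subgroup.mem_normalizer_iff.2 fun v => ?_,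
        Subgroup.mul_mem _ (Subgroup.mul_mem _ hnz hx.2) (Subgroup.inv_mem _ hnz)⟩
      rw [mem_map_conj_iff, mem_map_conj_iff, Subgroup.mem_normalizer_iff.1 hx.1 (nG⁻¹ * v * nG)]
      simp [mul_assoc]
    have hg : ∀ y : G, y ∈ Subgroup.normalizer ((V1.map (MulAut.conj nG).toMonoidHom : Subgroup G) : Set G) ⊓
          Subgroup.centralizer ({z} : Set G) →
        nG⁻¹ * y * nG ∈ M1 ⊓ Subgroup.centralizer ({z} : Set G) := fun y hy => by
      refine ⟨Subgroup.mem_normalizer_iff.2 fun v => ?_,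
        Subgroup.mul_mem _ (Subgroup.mul_mem _ (Subgroup.inv_mem _ hnz) hy.2) hnz⟩
      have h := Subgroup.mem_normalizer_iff.1 hy.1 (nG * v * nG⁻¹)
      rw [mem_map_conj_iff, mem_map_conj_iff] at h
      simpa [mul_assoc] using h
    exact (Nat.card_congr ⟨fun x => ⟨_, hf x.1 x.2⟩, fun y => ⟨_, hg y.1 y.2⟩,
      fun x => Subtype.ext (show nG⁻¹ * (nG * (x : G) * nG⁻¹) * nG = (x : G) by group),
      fun y => Subtype.ext (show nG * (nG⁻¹ * (y : G) * nG) * nG⁻¹ = (y : G) by group)⟩).symm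

/-- the part of `V` centralised by `P` fixes at most 32 elements -/
theorem card_fixed_le (hJ : Cfsg.IsOfJankoFourTypeWith z P) {W : Subgroup G}
    (hW : Cfsg.IsElementaryAbelian 2 W) (hWH : W ≤ Subgroup.centralizer ({z} : Set G))
    (hWC : W ≤ Subgroup.centralizer (P : Set G)) {N : Subgroup ↥(Subgroup.centralizer ({z} : Set G))}
    {φ : ↥(Subgroup.centralizer ({z} : Set G)) →* MulAut ↥Cfsg.Spor.M22}
    (hInn : ∀ c : ↥(Subgroup.centralizer ({z} : Set G)), (c : G) ∈ Subgroup.centralizer (P : Set G) →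
      φ c ∈ Cfsg.Inn ↥Cfsg.Spor.M22) (hker : φ.ker = N)
    (hkc : ∀ u : ↥(Subgroup.centralizer ({z} : Set G)), φ u = 1 →
        (u : G) ∈ Subgroup.normalizer (P : Set G) →
        ∃ p ∈ P, ∃ e : G, (e = 1 ∨ e = z) ∧ (u : G) = p * e) :
    (∀ w : ↥(Subgroup.centralizer ({z} : Set G)), (w : G) ∈ W → φ w = 1 → (w : G) = 1 ∨ (w : G) = z) ∧
      Nat.card ↥W ∣ 32 := by
  classical
  haveI : Fact (Nat.Prime 2) := ⟨Nat.prime_two⟩
  have hP : Nat.card ↥P = 3 := hJ.2.2.2.2.2.1
  have hzz : z * z = 1 := by rw [← pow_two, ← hJ.1, pow_orderOf_eq_one]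
  have hk : ∀ w : ↥(Subgroup.centralizer ({z} : Set G)), (w : G) ∈ W → φ w = 1 →
      (w : G) = 1 ∨ (w : G) = z := by
    intro w hw hw1
    obtain ⟨p, hp, e, he, hpe⟩ := hkc w hw1 (Subgroup.centralizer_le_normalizer _ (hWC hw))
    have h2 : (w : G) ^ 2 = 1 := hW.2 _ hw
    have hpe2 : Commute p e := by
      rcases he with rfl | rfl
      · exact Commute.one_right p
      · exact Subgroup.mem_centralizer_singleton_iff.1 ((hJ.2.2.2.2.1.choose_spec.2.1)
          (hJ.2.2.2.2.1.choose_spec.2.2.2.2.2 hp))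
    have he2 : e ^ 2 = 1 := by
      rcases he with rfl | rfl
      · exact one_pow 2
      · rw [pow_two, hzz]
    rw [hpe, hpe2.mul_pow, he2, mul_one] at h2
    have hp1 : p = 1 := by
      have := ThreeClass.pow_three_eq_one_of_mem hP hp
      rw [pow_succ, h2, one_mul] at this
      exact this
    rw [hp1, one_mul] at hpe
    rw [hpe]
    exact he
  refine ⟨hk, ?_⟩
  set W' := W.subgroupOf (Subgroup.centralizer ({z} : Set G)) with hW'
  let ψ : ↥W' →* MulAut ↥Cfsg.Spor.M22 := φ.comp W'.subtype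
  have h1 := ψ.ker.card_mul_index
  rw [Subgroup.index_ker, Nat.card_congr (Subgroup.subgroupOfEquivOfLe hWH).toEquiv] at h1
  rw [← h1, show (32 : ℕ) = 2 * 16 by norm_num]
  refine mul_dvd_mul ?_ ?_
  · have hle : Nat.card ↥ψ.ker ≤ 2 := by
      refine le_trans (Nat.card_le_card_of_injective (β := Fin 2)
        (fun w => if ((w : ↥W') : ↥(Subgroup.centralizer ({z} : Set G))).1 = 1 then 0 else 1) ?_)
        (by simp)
      intro a b e
      have ha := hk _ (a : ↥W').2 a.2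
      have hb := hk _ (b : ↥W').2 b.2
      apply Subtype.ext; apply Subtype.ext; apply Subtype.ext
      by_cases ha1 : ((a : ↥W') : ↥(Subgroup.centralizer ({z} : Set G))).1 = 1 <;>
        by_cases hb1 : ((b : ↥W') : ↥(Subgroup.centralizer ({z} : Set G))).1 = 1 <;>
        simp_all
    have hpos : 0 < Nat.card ↥ψ.ker := Nat.card_pos
    generalize Nat.card ↥ψ.ker = k at hle hpos ⊢
    interval_cases k <;> norm_num
  · have hr : ψ.range ≤ Cfsg.Inn ↥Cfsg.Spor.M22 := by
      rintro _ ⟨w, rfl⟩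
      exact hInn _ (hWC w.2)
    set A := ψ.range.comap (MulAut.conj : ↥Cfsg.Spor.M22 →* MulAut ↥Cfsg.Spor.M22) with hA
    have hA2 : ∀ a ∈ A, a * a = 1 := by
      intro a ha
      obtain ⟨w, hw⟩ := ha
      refine LargeFi.J4.conj_injective ?_
      rw [map_mul, map_one, ← hw, ← map_mul,
        show w * w = 1 from Subtype.ext (Subtype.ext (by
          have := hW.2 _ w.2
          rw [pow_two] at this
          simpa using this)), map_one]
    have e : Nat.card ↥A = Nat.card ↥ψ.range := by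
      rw [← Subgroup.card_map_of_injective (K := A) (f := (MulAut.conj : ↥Cfsg.Spor.M22 →* MulAut ↥Cfsg.Spor.M22)) LargeFi.J4.conj_injective, hA,
        Subgroup.map_comap_eq_self hr]
    rw [← e]
    exact ThreeLocalCert.card_dvd_sixteen hA2

/-- the image of the centraliser of `P` consists of the inner automorphisms -/
theorem image_centralizer (hJ : Cfsg.IsOfJankoFourTypeWith z P)
    {N : Subgroup ↥(Subgroup.centralizer ({z} : Set G))}
    {φ : ↥(Subgroup.centralizer ({z} : Set G)) →* MulAut ↥Cfsg.Spor.M22}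
    (hφ : Function.Surjective φ) (hker : φ.ker = N) (hNc : Nat.card ↥N = 24576)
    (hφP : ∀ u : ↥(Subgroup.centralizer ({z} : Set G)), (u : G) ∈ P → φ u = 1)
    (hkc : ∀ u : ↥(Subgroup.centralizer ({z} : Set G)), φ u = 1 →
        (u : G) ∈ Subgroup.normalizer (P : Set G) →
        ∃ p ∈ P, ∃ e : G, (e = 1 ∨ e = z) ∧ (u : G) = p * e) :
    ((Subgroup.centralizer (P : Set G)).subgroupOf (Subgroup.centralizer ({z} : Set G))).map φ =
      Cfsg.Inn ↥Cfsg.Spor.M22 := by
  haveI : Fact (Nat.Prime 3) := ⟨Nat.prime_three⟩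
  obtain ⟨-, -, -, -, ⟨N', -, hN'H, -, -, -, hPN'⟩, hP, -, hNC, -⟩ := hJ
  have hPH : P ≤ Subgroup.centralizer ({z} : Set G) := hPN'.trans hN'H
  set C := (Subgroup.centralizer (P : Set G)).subgroupOf (Subgroup.centralizer ({z} : Set G)) with hC
  have hpz : ∀ p ∈ P, Commute p z := fun p hp => Subgroup.mem_centralizer_singleton_iff.1 (hPH hp)
  -- the normaliser maps onto everything
  have hfr : ∀ α, ∃ h : ↥(Subgroup.centralizer ({z} : Set G)),
      (h : G) ∈ Subgroup.normalizer (P : Set G) ∧ φ h = α := by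
    intro α
    obtain ⟨g, rfl⟩ := hφ α
    have hPN : P.subgroupOf (Subgroup.centralizer ({z} : Set G)) ≤ N := fun x hx =>
      hker ▸ MonoidHom.mem_ker.2 (hφP x hx)
    haveI : N.Normal := hker ▸ φ.normal_ker
    set PN := (P.subgroupOf (Subgroup.centralizer ({z} : Set G))).subgroupOf N with hPNdef
    have hPNc : Nat.card ↥PN = 3 := by
      rw [hPNdef, Nat.card_congr (Subgroup.subgroupOfEquivOfLe hPN).toEquiv,
        Nat.card_congr (Subgroup.subgroupOfEquivOfLe hPH).toEquiv, hP]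
    have hPNi : PN.index = 8192 := by
      have h1 := PN.card_mul_index
      rw [hPNc, hNc] at h1
      omega
    let SP : Sylow 3 ↥N := (IsPGroup.of_card (n := 1) (by rw [hPNc, pow_one])).toSylow
      (by rw [hPNi]; norm_num)
    obtain ⟨p, hp, hp1⟩ : ∃ p ∈ P, p ≠ (1 : G) := by
      rcases P.bot_or_exists_ne_one with h | h
      · rw [h, Subgroup.card_bot] at hP; omega
      · exact h
    set q : ↥(Subgroup.centralizer ({z} : Set G)) := g * ⟨p, hPH hp⟩ * g⁻¹ with hq
    have hqN : q ∈ N := ‹N.Normal›.conj_mem _ (hPN hp) g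
    have hqo : orderOf (⟨q, hqN⟩ : ↥N) = 3 := by
      refine orderOf_eq_prime (Subtype.ext (Subtype.ext ?_)) fun e => hp1 ?_
      · simp only [SubmonoidClass.coe_pow, hq, Subgroup.coe_mul, Subgroup.coe_inv, OneMemClass.coe_one,
          conj_pow, ThreeClass.pow_three_eq_one_of_mem hP hp, mul_one, mul_inv_cancel]
      · exact conj_eq_one_iff.1 (congrArg (fun x : ↥N => ((x : ↥(Subgroup.centralizer ({z} : Set G))) : G)) e)
    have hup : IsPGroup 3 ↥(Subgroup.zpowers (⟨q, hqN⟩ : ↥N)) :=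
      IsPGroup.of_card (n := 1) (by rw [Nat.card_zpowers, hqo, pow_one])
    obtain ⟨U, hU3⟩ := hup.exists_le_sylow
    obtain ⟨n, hn⟩ := MulAction.exists_smul_eq ↥N U SP
    have hnu : MulAut.conj n • (⟨q, hqN⟩ : ↥N) ∈ (n • U : Sylow 3 ↥N) :=
      Subgroup.smul_mem_pointwise_smul _ _ _ (hU3 (Subgroup.mem_zpowers _))
    rw [hn] at hnu
    refine ⟨n * g, ?_, by rw [map_mul, show φ n = 1 from MonoidHom.mem_ker.1 (hker ▸ n.2), one_mul]⟩
    set k : G := (((n : ↥(Subgroup.centralizer ({z} : Set G))) * g : ↥(Subgroup.centralizer ({z} : Set G))) : G) with hk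
    have hkp : k * p * k⁻¹ ∈ P := by
      have h : (((n : ↥(Subgroup.centralizer ({z} : Set G))) * q * (n : ↥(Subgroup.centralizer ({z} : Set G)))⁻¹ :
          ↥(Subgroup.centralizer ({z} : Set G))) : G) ∈ P := hnu
      simpa [hk, hq, mul_assoc] using h
    refine mem_normalizer_of_map_eq (Subgroup.eq_of_le_of_card_ge ?_
      (by rw [Subgroup.card_map_of_injective (MulAut.conj k).injective]))
    rintro _ ⟨r, hr, rfl⟩
    show k * r * k⁻¹ ∈ P
    rcases ThreeClass.eq_pow_of_mem hP hp hp1 hr with rfl | rfl | rfl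
    · simp
    · exact hkp
    · rw [← conj_pow]; exact pow_mem hkp 2
  -- an element not centralising
  obtain ⟨n0, hn0, q, hq, hnq⟩ : ∃ n ∈ Subgroup.centralizer ({z} : Set G) ⊓ Subgroup.normalizer (P : Set G),
      ∃ q ∈ P, ¬ Commute n q := by
    by_contra hcon
    push Not at hcon
    refine hNC (le_antisymm (fun n hn => ⟨hn.1, Subgroup.mem_centralizer_iff.2 fun q hq => ?_⟩)
      (inf_le_inf_left _ (Subgroup.centralizer_le_normalizer _)))
    exact (hcon n hn q hq).eq.symm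
  have hq1 : q ≠ 1 := fun e => hnq (e ▸ Commute.one_right n0)
  have hinv : ∀ n : G, n ∈ Subgroup.normalizer (P : Set G) →
      n ∈ Subgroup.centralizer (P : Set G) ∨ n * q * n⁻¹ = q ^ 2 := by
    intro n hn
    rcases ThreeClass.eq_pow_of_mem hP hq hq1 ((Subgroup.mem_normalizer_iff.1 hn q).1 hq) with h | h | h
    · exact absurd (conj_eq_one_iff.1 h) hq1
    · left
      refine Subgroup.mem_centralizer_iff.2 fun r hr => ?_
      have hc : Commute n q := mul_inv_eq_iff_eq_mul.1 h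
      rcases ThreeClass.eq_pow_of_mem hP hq hq1 hr with rfl | rfl | rfl
      · simp
      · exact hc.eq.symm
      · exact (hc.pow_right 2).eq.symm
    · exact Or.inr h
  have hn0q : n0 * q * n0⁻¹ = q ^ 2 := by
    rcases hinv n0 hn0.2 with h | h
    · exact absurd ((Subgroup.mem_centralizer_iff.1 h q hq).symm : Commute n0 q) hnq
    · exact h
  have hout : φ ⟨n0, hn0.1⟩ ∉ C.map φ := by
    rintro ⟨c, hc, hce⟩
    have h1 : φ (c⁻¹ * ⟨n0, hn0.1⟩) = 1 := by rw [map_mul, map_inv, hce, inv_mul_cancel]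
    have hcC : (c : G) ∈ Subgroup.centralizer (P : Set G) := hc
    have hcn : ((c⁻¹ * ⟨n0, hn0.1⟩ : ↥(Subgroup.centralizer ({z} : Set G))) : G) ∈
        Subgroup.normalizer (P : Set G) :=
      mul_mem (inv_mem (Subgroup.centralizer_le_normalizer _ hcC)) hn0.2
    obtain ⟨p, hp, e, he, hpe⟩ := hkc _ h1 hcn
    refine hnq ?_
    have hpq : Commute p q := by
      rcases ThreeClass.eq_pow_of_mem hP hq hq1 hp with rfl | rfl | rfl
      · exact Commute.one_left q
      · exact Commute.refl _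
      · exact (Commute.refl q).pow_left 2
    have heq : Commute e q := by
      rcases he with rfl | rfl
      · exact Commute.one_left q
      · exact (hpz q hq).symm
    have hn : n0 = (c : G) * (p * e) := by
      rw [← hpe, Subgroup.coe_mul, Subgroup.coe_inv, mul_inv_cancel_left]
    rw [hn]
    have hcq : Commute (c : G) q := (Subgroup.mem_centralizer_iff.1 hcC q hq).symm
    exact hcq.mul_left (hpq.mul_left heq)
  refine LargeFi.J4.inn_le_of_index_two (Subgroup.index_eq_two_iff.2 ⟨φ ⟨n0, hn0.1⟩, fun b => ?_⟩)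
  obtain ⟨h, hh, rfl⟩ := hfr b
  rcases hinv _ hh with hc | hc
  · refine Or.inr ⟨⟨h, hc, rfl⟩, fun hmem => hout ?_⟩
    have hb : φ h ∈ C.map φ := ⟨h, hc, rfl⟩
    have := mul_mem (inv_mem hb) hmem
    rwa [inv_mul_cancel_left] at this
  · refine Or.inl ⟨?_, fun hmem => ?_⟩
    · refine ⟨h * ⟨n0, hn0.1⟩, ?_, by rw [map_mul]⟩
      have hm : ((h : G) * n0) ∈ Subgroup.normalizer (P : Set G) := mul_mem hh hn0.2
      rcases hinv _ hm with h' | h'
      · exact h'
      · exfalso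
        have e : (h : G) * n0 * q * ((h : G) * n0)⁻¹ = (q ^ 2) ^ 2 := by
          calc _ = (h : G) * (n0 * q * n0⁻¹) * (h : G)⁻¹ := by group
            _ = _ := by rw [hn0q, ← conj_pow, hc]
        have h3 := ThreeClass.pow_three_eq_one_of_mem hP hq
        rw [h', ← pow_mul] at e
        have : q ^ 2 = q := by rw [e, show 2 * 2 = 3 + 1 by norm_num, pow_succ, h3, one_mul]
        rw [pow_two, mul_eq_left] at this
        exact hq1 this
    · obtain ⟨c, hc', hce⟩ := hmem
      have h1 : φ (c⁻¹ * h) = 1 := by rw [map_mul, map_inv, hce, inv_mul_cancel]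
      have hcC : (c : G) ∈ Subgroup.centralizer (P : Set G) := hc'
      obtain ⟨p, hp, e, he, hpe⟩ := hkc _ h1
        (mul_mem (inv_mem (Subgroup.centralizer_le_normalizer _ hcC)) hh)
      have hn : (h : G) = (c : G) * (p * e) := by
        rw [← hpe, Subgroup.coe_mul, Subgroup.coe_inv, mul_inv_cancel_left]
      have hpq : Commute p q := by
        rcases ThreeClass.eq_pow_of_mem hP hq hq1 hp with rfl | rfl | rfl
        · exact Commute.one_left q
        · exact Commute.refl _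
        · exact (Commute.refl q).pow_left 2
      have heq : Commute e q := by
        rcases he with rfl | rfl
        · exact Commute.one_left q
        · exact (hpz q hq).symm
      have hcq : Commute (c : G) q := (Subgroup.mem_centralizer_iff.1 hcC q hq).symm
      have hcm : Commute (h : G) q := hn ▸ hcq.mul_left (hpq.mul_left heq)
      rw [hcm.eq, mul_inv_cancel_right, pow_two, eq_comm, mul_eq_left] at hc
      exact hq1 hc

end CfsgLib.Spor.JankoFour.ThreeLocal
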