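import Cfsg.Agent.Lib.Spor.JankoFour.ThreeSylowCert
import Cfsg.Agent.Lib.Spor.JankoFour.ThreeLocal
import Cfsg.Agent.Lib.PGroups.SmallCharSeries
import Cfsg.Agent.Lib.ThreeTransp.TwistF2

/-!
The Sylow 3-subgroup of a group of Janko-four type and its normaliser.
-/

set_option autoImplicit false

namespace CfsgLib.Spor.JankoFour.ThreeSylow

open Cfsg CfsgLib.Spor ThreeLocal

variable {G : Type*} [Group G] [Finite G] {z : G} {P : Subgroup G}

/-- the normaliser in the automorphisms of the image of a Sylow 3-subgroup -/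
theorem card_normalizer_aut {Rb : Subgroup (MulAut ↥Cfsg.Spor.M22)}
    (hle : Rb ≤ Cfsg.Inn ↥Cfsg.Spor.M22) (h9 : Nat.card ↥Rb = 9) :
    Nat.card ↥(Subgroup.normalizer (Rb : Set (MulAut ↥Cfsg.Spor.M22))) = 144 := by
  haveI : Fact (Nat.Prime 3) := ⟨Nat.prime_three⟩
  set c : ↥Cfsg.Spor.M22 →* MulAut ↥Cfsg.Spor.M22 := MulAut.conj with hc
  have hinj : Function.Injective c := LargeFi.J4.conj_injective
  set T := Rb.comap c with hT
  have hmap : T.map c = Rb := Subgroup.map_comap_eq_self hle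
  have hT9 : Nat.card ↥T = 9 := by
    rw [← Subgroup.card_map_of_injective (K := T) (f := c) hinj, hmap, h9]
  set N := Subgroup.normalizer (Rb : Set (MulAut ↥Cfsg.Spor.M22)) with hN
  set I := Cfsg.Inn ↥Cfsg.Spor.M22 with hI
  set π := (QuotientGroup.mk' I).comp N.subtype with hπ
  have hker : Nat.card ↥π.ker = 72 := by
    rw [← ThreeSylowCert.card_normalizer_sylow hT9,
      ← Subgroup.card_map_of_injective (K := Subgroup.normalizer (T : Set ↥Cfsg.Spor.M22)) (f := c) hinj]
    refine Nat.card_congr ⟨fun a => ⟨((a : ↥N) : MulAut ↥Cfsg.Spor.M22), ?_⟩, fun b => ⟨⟨b, ?_⟩, ?_⟩,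
      fun _ => rfl, fun _ => rfl⟩
    · obtain ⟨u, hu⟩ : ((a : ↥N) : MulAut ↥Cfsg.Spor.M22) ∈ I :=
        (QuotientGroup.eq_one_iff _).1 (MonoidHom.mem_ker.1 a.2)
      refine ⟨u, Subgroup.mem_normalizer_iff.2 fun t => ?_, hu⟩
      have h := Subgroup.mem_normalizer_iff.1 (a : ↥N).2 (c t)
      rw [hT, Subgroup.mem_comap, Subgroup.mem_comap, map_mul, map_mul, map_inv]
      show c t ∈ Rb ↔ c u * c t * (c u)⁻¹ ∈ Rb
      rw [show c u = ((a : ↥N) : MulAut ↥Cfsg.Spor.M22) from hu]
      exact h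
    · obtain ⟨u, hu, hub⟩ := b.2
      rw [← hub, hN]
      refine Subgroup.mem_normalizer_iff.2 fun r => ⟨fun hr => ?_, fun hr => ?_⟩
      · obtain ⟨t, rfl⟩ := hle hr
        have h := (Subgroup.mem_normalizer_iff.1 hu t).1 hr
        rw [hT, Subgroup.mem_comap, map_mul, map_mul, map_inv] at h
        exact h
      · obtain ⟨t, ht⟩ := hle hr
        have e : r = c (u⁻¹ * t * u) := by
          rw [map_mul, map_mul, map_inv, show c t = c u * r * (c u)⁻¹ from ht]; group
        rw [e]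
        show u⁻¹ * t * u ∈ T
        refine (Subgroup.mem_normalizer_iff.1 hu _).2 ?_
        rw [show u * (u⁻¹ * t * u) * u⁻¹ = t by group]
        show c t ∈ Rb
        rw [show c t = c u * r * (c u)⁻¹ from ht]
        exact hr
    · obtain ⟨u, -, hub⟩ := b.2
      exact MonoidHom.mem_ker.2 ((QuotientGroup.eq_one_iff _).2 ⟨u, hub⟩)
  have hrange : Nat.card ↥π.range = 2 := by
    rw [MonoidHom.range_eq_top.2, Subgroup.card_top]
    · rw [← Subgroup.index_eq_card]; exact LargeFi.J4.index_inn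
    · intro q
      induction q using QuotientGroup.induction_on with
      | H α =>
        have hidx : ¬ 3 ∣ (Rb.subgroupOf I).index := by
          have h1 := (Rb.subgroupOf I).card_mul_index
          rw [Nat.card_congr (Subgroup.subgroupOfEquivOfLe hle).toEquiv, h9, LargeFi.J4.card_inn] at h1
          omega
        let S2 : Sylow 3 ↥I := (IsPGroup.of_card (n := 2) (by
          rw [Nat.card_congr (Subgroup.subgroupOfEquivOfLe hle).toEquiv, h9]; norm_num)).toSylow hidx
        have hle' : Rb.map (MulAut.conj α).toMonoidHom ≤ I := by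
          rintro _ ⟨r, hr, rfl⟩
          exact (Cfsg.innNormal _).conj_mem r (hle hr) α
        have hc9 : Nat.card ↥((Rb.map (MulAut.conj α).toMonoidHom).subgroupOf I) = 9 := by
          rw [Nat.card_congr (Subgroup.subgroupOfEquivOfLe hle').toEquiv,
            Subgroup.card_map_of_injective (MulAut.conj α).injective, h9]
        let S1 : Sylow 3 ↥I := (IsPGroup.of_card (n := 2) (by rw [hc9]; norm_num)).toSylow (by
          have h1 := ((Rb.map (MulAut.conj α).toMonoidHom).subgroupOf I).card_mul_index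
          rw [hc9, LargeFi.J4.card_inn] at h1
          omega)
        obtain ⟨κ, hκ⟩ := MulAction.exists_smul_eq ↥I S1 S2
        refine ⟨⟨(κ : MulAut ↥Cfsg.Spor.M22) * α, ?_⟩, ?_⟩
        · refine mem_normalizer_of_map_eq (Subgroup.eq_of_le_of_card_ge ?_
            (by rw [Subgroup.card_map_of_injective (MulAut.conj ((κ : MulAut ↥Cfsg.Spor.M22) * α)).injective]))
          rintro _ ⟨r, hr, rfl⟩
          have hm : MulAut.conj κ • (⟨α * r * α⁻¹, hle' ⟨r, hr, rfl⟩⟩ : ↥I) ∈ (κ • S1 : Sylow 3 ↥I) :=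
            Subgroup.smul_mem_pointwise_smul _ _ _ (show α * r * α⁻¹ ∈ Rb.map (MulAut.conj α).toMonoidHom
              from ⟨r, hr, rfl⟩)
          rw [hκ] at hm
          have hm' : (κ : MulAut ↥Cfsg.Spor.M22) * (α * r * α⁻¹) * (κ : MulAut ↥Cfsg.Spor.M22)⁻¹ ∈ Rb := hm
          show (κ : MulAut ↥Cfsg.Spor.M22) * α * r * ((κ : MulAut ↥Cfsg.Spor.M22) * α)⁻¹ ∈ Rb
          simpa [mul_assoc] using hm'
        · show ((((κ : MulAut ↥Cfsg.Spor.M22) * α : MulAut ↥Cfsg.Spor.M22)) : MulAut ↥Cfsg.Spor.M22 ⧸ I) = _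
          rw [QuotientGroup.mk_mul, (QuotientGroup.eq_one_iff _).2 κ.2, one_mul]
  have h := π.ker.card_mul_index
  rw [Subgroup.index_ker, hker, hrange] at h
  exact h.symm

/-- the structure when the subgroup contains `P` -/
theorem structure_of_le (hJ : Cfsg.IsOfJankoFourTypeWith z P)
    (hNP : Subgroup.normalizer (P : Set G) ≤ Subgroup.centralizer ({z} : Set G))
    (hK : ∃ K : Subgroup G, Cfsg.Spor.IsoM24 ↥K) (R : Sylow 3 G)
    (hR : (R : Subgroup G) ≤ Subgroup.centralizer ({z} : Set G)) (hPR : P ≤ (R : Subgroup G)) :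
    Cfsg.IsExtraspecial 3 ↥(R : Subgroup G) ∧ Nat.card ↥(R : Subgroup G) = 27 ∧
    Monoid.exponent ↥(R : Subgroup G) = 3 ∧
    Subgroup.normalizer ((R : Subgroup G) : Set G) ≤ Subgroup.centralizer ({z} : Set G) ∧
    Nat.card ↥(Subgroup.normalizer ((R : Subgroup G) : Set G)) = 864 := by
  classical
  haveI : Fact (Nat.Prime 3) := ⟨Nat.prime_three⟩
  have hz : orderOf z = 2 := hJ.1
  have hP : Nat.card ↥P = 3 := hJ.2.2.2.2.2.1
  obtain ⟨p0, hp0, hp01⟩ : ∃ p ∈ P, p ≠ (1 : G) := by
    rcases P.bot_or_exists_ne_one with h | h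
    · rw [h, Subgroup.card_bot] at hP; omega
    · exact h
  obtain ⟨N, φ, hφ, hker, hNc, hHc, hPH, hφP, hkc⟩ := exists_kernel_frame hJ
  have himg := image_centralizer hJ hφ hker hNc hφP hkc
  have hRc : Nat.card ↥(R : Subgroup G) = 27 := by
    rw [← Nat.card_congr (Subgroup.subgroupOfEquivOfLe hR).toEquiv, ← Sylow.coe_subtype (h := hR)]
    rw [(R.subtype hR).card_eq_multiplicity, hHc, Nat.factorization_mul (by norm_num) (by norm_num),
      Finsupp.add_apply, show (27 : ℕ) = 3 ^ 3 by norm_num,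
      Nat.Prime.factorization_pow Nat.prime_three, Finsupp.single_eq_same,
      Nat.factorization_eq_zero_of_not_dvd (by norm_num)]
  have hRN : ∀ r : ↥(Subgroup.centralizer ({z} : Set G)), (r : G) ∈ (R : Subgroup G) → φ r = 1 →
      (r : G) ∈ P := by
    set RH := (R : Subgroup G).subgroupOf (Subgroup.centralizer ({z} : Set G)) with hRH
    have h1 : Nat.card ↥(RH ⊓ N) ∣ 3 := by
      have a := Subgroup.card_dvd_of_le (inf_le_left : RH ⊓ N ≤ _)
      have b := Subgroup.card_dvd_of_le (inf_le_right : RH ⊓ N ≤ _)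
      rw [hRH, Nat.card_congr (Subgroup.subgroupOfEquivOfLe hR).toEquiv, hRc] at a
      rw [hNc] at b
      exact (Nat.dvd_gcd a b).trans (by norm_num)
    have h2 : P.subgroupOf (Subgroup.centralizer ({z} : Set G)) = RH ⊓ N := by
      refine Subgroup.eq_of_le_of_card_ge (le_inf (fun p hp => hPR hp)
        fun p hp => hker ▸ MonoidHom.mem_ker.2 (hφP p hp)) ?_
      rw [Nat.card_congr (Subgroup.subgroupOfEquivOfLe hPH).toEquiv, hP]
      exact Nat.le_of_dvd (by norm_num) h1
    intro r hr hr1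
    have h3 : r ∈ P.subgroupOf (Subgroup.centralizer ({z} : Set G)) :=
      h2 ▸ ⟨hr, hker ▸ MonoidHom.mem_ker.2 hr1⟩
    exact h3
  have hRC : (R : Subgroup G) ≤ Subgroup.centralizer (P : Set G) := by
    intro r hr
    have hc : Commute r p0 := by
      refine ThreeClass.commute_of_odd hP ?_ hp0 ?_
      · have h := Subgroup.orderOf_dvd_natCard (R : Subgroup G) hr
        rw [hRc] at h
        exact Odd.of_dvd_nat (by decide) h
      · refine hRN (⟨r, hR hr⟩ * ⟨p0, hPH hp0⟩ * ⟨r, hR hr⟩⁻¹)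
          (mul_mem (mul_mem hr (hPR hp0)) (inv_mem hr)) ?_
        rw [map_mul, map_mul, map_inv, hφP _ (show ((⟨p0, hPH hp0⟩ : ↥(Subgroup.centralizer ({z} : Set G))) : G) ∈ P from hp0),
          mul_one, mul_inv_cancel]
    refine Subgroup.mem_centralizer_iff.2 fun q hq => ?_
    rcases ThreeClass.eq_pow_of_mem hP hp0 hp01 hq with rfl | rfl | rfl
    · simp
    · exact hc.eq.symm
    · exact (hc.pow_right 2).eq.symm
  have hnc := not_comm_of_card hJ hRc hR hPR hRC
  -- exponent three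
  have hexp : ∀ r ∈ (R : Subgroup G), r ^ 3 = 1 := by
    obtain ⟨K, ⟨e⟩⟩ := hK
    obtain ⟨S, hS, hS3⟩ := ThreeSylowCert.exists_subgroup_M24
    set ι : ↥Cfsg.M24 →* G := K.subtype.comp e.symm.toMonoidHom with hι
    have hιinj : Function.Injective ι := K.subtype_injective.comp e.symm.injective
    have hScard : Nat.card ↥(S.map ι) = 27 := by rw [Subgroup.card_map_of_injective hιinj, hS]
    obtain ⟨U, hU⟩ := (IsPGroup.of_card (n := 3) (show Nat.card ↥(S.map ι) = 3 ^ 3 from hScard)).exists_le_sylow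
    have hUc : Nat.card ↥(U : Subgroup G) = 27 := by
      rw [U.card_eq_multiplicity, ← R.card_eq_multiplicity, hRc]
    have hUeq : S.map ι = (U : Subgroup G) := Subgroup.eq_of_le_of_card_ge hU (by rw [hUc, hScard])
    obtain ⟨g, hg⟩ := MulAction.exists_smul_eq G U R
    intro r hr
    rw [← hg] at hr
    obtain ⟨u, hu, rfl⟩ := hr
    show (g * u * g⁻¹) ^ 3 = 1
    have hu' : u ∈ S.map ι := hUeq ▸ hu
    obtain ⟨s, hs, rfl⟩ := hu'
    rw [conj_pow, ← map_pow, hS3 s hs, map_one, mul_one, mul_inv_cancel]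
  have hex : Cfsg.IsExtraspecial 3 ↥(R : Subgroup G) := by
    have hna : ∃ a b : ↥(R : Subgroup G), a * b ≠ b * a := by
      by_contra h
      push Not at h
      exact hnc ⟨⟨h⟩⟩
    rcases CfsgLib.PGroups.SmallSeries.order_p3_nonab (p := 3) (by rw [hRc]; norm_num) hna with
      h | h | ⟨-, x, hx⟩
    · exact h.2.1
    · exact absurd h.1 (by norm_num)
    · exact absurd (Subtype.ext (hexp x x.2)) hx
  have hexp3 : Monoid.exponent ↥(R : Subgroup G) = 3 := by
    have h1 : Monoid.exponent ↥(R : Subgroup G) ∣ 3 :=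
      Monoid.exponent_dvd_of_forall_pow_eq_one fun x => Subtype.ext (hexp x x.2)
    rcases (Nat.dvd_prime Nat.prime_three).1 h1 with h | h
    · exfalso
      have h2 := Monoid.pow_exponent_eq_one (⟨p0, hPR hp0⟩ : ↥(R : Subgroup G))
      rw [h, pow_one] at h2
      exact hp01 (congrArg Subtype.val h2)
    · exact h
  -- the normaliser
  have hNNP : Subgroup.normalizer ((R : Subgroup G) : Set G) ≤ Subgroup.normalizer (P : Set G) := by
    intro n hn
    have hcen : P.subgroupOf (R : Subgroup G) = Subgroup.center ↥(R : Subgroup G) := by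
      refine Subgroup.eq_of_le_of_card_ge (fun p hp => Subgroup.mem_center_iff.2 fun r =>
        Subtype.ext (Subgroup.mem_centralizer_iff.1 (hRC r.2) p hp).symm) ?_
      rw [hex.2, Nat.card_congr (Subgroup.subgroupOfEquivOfLe hPR).toEquiv, hP]
    have key : ∀ q ∈ P, n * q * n⁻¹ ∈ P := by
      intro q hq
      have hqR : n * q * n⁻¹ ∈ (R : Subgroup G) := (Subgroup.mem_normalizer_iff.1 hn q).1 (hPR hq)
      have : (⟨_, hqR⟩ : ↥(R : Subgroup G)) ∈ Subgroup.center ↥(R : Subgroup G) := by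
        refine Subgroup.mem_center_iff.2 fun r => Subtype.ext ?_
        have hr' : n⁻¹ * (r : G) * n ∈ (R : Subgroup G) := by
          simpa using (Subgroup.mem_normalizer_iff.1 (inv_mem hn) r).1 r.2
        have h1 : Commute q (n⁻¹ * (r : G) * n) := (Subgroup.mem_centralizer_iff.1 (hRC hr') q hq)
        show (r : G) * (n * q * n⁻¹) = n * q * n⁻¹ * r
        calc (r : G) * (n * q * n⁻¹) = n * ((n⁻¹ * r * n) * q) * n⁻¹ := by group
          _ = _ := by rw [← h1.eq]; group
      rw [← hcen] at this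
      exact this
    refine mem_normalizer_of_map_eq (Subgroup.eq_of_le_of_card_ge ?_
      (by rw [Subgroup.card_map_of_injective (MulAut.conj n).injective]))
    rintro _ ⟨q, hq, rfl⟩
    exact key q hq
  have hNH := hNNP.trans hNP
  refine ⟨hex, hRc, hexp3, hNH, ?_⟩
  set NR := Subgroup.normalizer ((R : Subgroup G) : Set G) with hNR
  set ψ := φ.comp (Subgroup.inclusion hNH) with hψ
  set RH := (R : Subgroup G).subgroupOf (Subgroup.centralizer ({z} : Set G)) with hRH
  set Rb := RH.map φ with hRb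
  have hRb9 : Nat.card ↥Rb = 9 := by
    have h1 := (φ.comp RH.subtype).ker.card_mul_index
    have hk : Nat.card ↥(φ.comp RH.subtype).ker = 3 := by
      rw [← hP]
      refine Nat.card_congr ⟨fun a => ⟨((a : ↥RH) : ↥(Subgroup.centralizer ({z} : Set G))).1,
          hRN _ (a : ↥RH).2 a.2⟩,
        fun p => ⟨⟨⟨p, hPH p.2⟩, hPR p.2⟩, MonoidHom.mem_ker.2 (hφP _ p.2)⟩, fun _ => rfl, fun _ => rfl⟩
    rw [Subgroup.index_ker, hk, hRH, Nat.card_congr (Subgroup.subgroupOfEquivOfLe hR).toEquiv, hRc,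
      MonoidHom.range_comp, Subgroup.range_subtype] at h1
    rw [hRb, hRH]
    omega
  have hRbI : Rb ≤ Cfsg.Inn ↥Cfsg.Spor.M22 := by
    rintro _ ⟨r, hr, rfl⟩
    rw [← himg]
    exact ⟨r, hRC hr, rfl⟩
  have hrange : ψ.range = Subgroup.normalizer (Rb : Set (MulAut ↥Cfsg.Spor.M22)) := by
    refine le_antisymm ?_ fun α hα => ?_
    · rintro _ ⟨n, rfl⟩
      refine mem_normalizer_of_map_eq (Subgroup.eq_of_le_of_card_ge ?_
        (by rw [Subgroup.card_map_of_injective (K := Rb) (f := (MulAut.conj (ψ n)).toMonoidHom) (MulAut.conj (ψ n)).injective]))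
      rintro _ ⟨_, ⟨r, hr, rfl⟩, rfl⟩
      refine ⟨Subgroup.inclusion hNH n * r * (Subgroup.inclusion hNH n)⁻¹,
        (Subgroup.mem_normalizer_iff.1 n.2 (r : G)).1 hr, ?_⟩
      rw [map_mul, map_mul, map_inv]
      rfl
    · obtain ⟨g, rfl⟩ := hφ α
      -- Frattini in the preimage
      set Y := Rb.comap φ with hY
      have hRY : RH ≤ Y := Subgroup.le_comap_map _ _
      have hYc : Nat.card ↥Y = 9 * 24576 := by
        have hk : Nat.card ↥(φ.comp Y.subtype).ker = 24576 := by
          rw [← hNc, ← hker]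
          refine Nat.card_congr ⟨fun a => ⟨a.1.1, a.2⟩, fun a => ⟨⟨a.1, ?_⟩, a.2⟩, fun _ => rfl, fun _ => rfl⟩
          show φ a.1 ∈ Rb
          rw [MonoidHom.mem_ker.1 a.2]
          exact one_mem _
        have h1 := (φ.comp Y.subtype).ker.card_mul_index
        rw [Subgroup.index_ker, hk, MonoidHom.range_comp, Subgroup.range_subtype, hY,
          Subgroup.map_comap_eq_self_of_surjective hφ, hRb9] at h1
        rw [hY]
        omega
      have hRYc : Nat.card ↥(RH.subgroupOf Y) = 27 := by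
        rw [Nat.card_congr (Subgroup.subgroupOfEquivOfLe hRY).toEquiv, hRH,
          Nat.card_congr (Subgroup.subgroupOfEquivOfLe hR).toEquiv, hRc]
      let S2 : Sylow 3 ↥Y := (IsPGroup.of_card (n := 3) (by rw [hRYc]; norm_num)).toSylow (by
        have h1 := (RH.subgroupOf Y).card_mul_index
        rw [hRYc, hYc] at h1
        omega)
      have hgR : RH.map (MulAut.conj g).toMonoidHom ≤ Y := by
        rintro _ ⟨r, hr, rfl⟩
        show φ (g * r * g⁻¹) ∈ Rb
        rw [map_mul, map_mul, map_inv]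
        exact (Subgroup.mem_normalizer_iff.1 hα (φ r)).1 ⟨r, hr, rfl⟩
      have hgc : Nat.card ↥((RH.map (MulAut.conj g).toMonoidHom).subgroupOf Y) = 27 := by
        rw [Nat.card_congr (Subgroup.subgroupOfEquivOfLe hgR).toEquiv,
          Subgroup.card_map_of_injective (MulAut.conj g).injective, hRH,
          Nat.card_congr (Subgroup.subgroupOfEquivOfLe hR).toEquiv, hRc]
      let S1 : Sylow 3 ↥Y := (IsPGroup.of_card (n := 3) (by rw [hgc]; norm_num)).toSylow (by
        have h1 := ((RH.map (MulAut.conj g).toMonoidHom).subgroupOf Y).card_mul_index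
        rw [hgc, hYc] at h1
        omega)
      obtain ⟨y, hy⟩ := MulAction.exists_smul_eq ↥Y S1 S2
      obtain ⟨r0, hr0, hr0e⟩ : φ (y : ↥(Subgroup.centralizer ({z} : Set G))) ∈ RH.map φ := y.2
      set h : ↥(Subgroup.centralizer ({z} : Set G)) := r0⁻¹ * ((y : ↥(Subgroup.centralizer ({z} : Set G))) * g) with hh
      have hhN : (h : G) ∈ NR := by
        refine Subgroup.mul_mem NR (Subgroup.inv_mem NR (Subgroup.le_normalizer hr0)) ?_
        refine mem_normalizer_of_map_eq (Subgroup.eq_of_le_of_card_ge ?_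
          (by rw [Subgroup.card_map_of_injective (K := (R : Subgroup G)) (MulAut.conj _).injective]))
        rintro _ ⟨r, hr, rfl⟩
        have hm : MulAut.conj y • (⟨g * ⟨r, hR hr⟩ * g⁻¹, hgR ⟨_, hr, rfl⟩⟩ : ↥Y) ∈ (y • S1 : Sylow 3 ↥Y) :=
          Subgroup.smul_mem_pointwise_smul _ _ _
            (show g * ⟨r, hR hr⟩ * g⁻¹ ∈ RH.map (MulAut.conj g).toMonoidHom from ⟨_, hr, rfl⟩)
        rw [hy] at hm
        have hm' : ((y : ↥(Subgroup.centralizer ({z} : Set G))) : G) * ((g : G) * r * (g : G)⁻¹) *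
            ((y : ↥(Subgroup.centralizer ({z} : Set G))) : G)⁻¹ ∈ (R : Subgroup G) := hm
        show _ * _ * _⁻¹ ∈ (R : Subgroup G)
        simpa [mul_assoc] using hm'
      refine ⟨⟨h, hhN⟩, ?_⟩
      show φ h = φ g
      rw [hh, map_mul, map_inv, map_mul, hr0e, inv_mul_cancel_left]
  have hkψ : Nat.card ↥ψ.ker = 6 := by
    have hle : Nat.card ↥ψ.ker ≤ 6 := by
      have hmem : ∀ n : ↥ψ.ker, ((n : ↥NR) : G) ∈ Set.image2 (· * ·) (P : Set G) {1, z} := by
        intro n
        obtain ⟨p, hp, e, he, hpe⟩ := hkc (Subgroup.inclusion hNH n.1) n.2 (hNNP n.1.2)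
        exact ⟨p, hp, e, by simpa using he, hpe.symm⟩
      refine (Nat.card_le_card_of_injective
        (β := ↥(Set.image2 (· * ·) (P : Set G) {1, z})) (fun n => ⟨_, hmem n⟩)
        fun a b e => Subtype.ext (Subtype.ext (by simpa using congrArg Subtype.val e))).trans ?_
      rw [Nat.card_coe_set_eq]
      have h1 : Set.image2 (· * ·) (P : Set G) {1, z} = (fun q : G × G => q.1 * q.2) '' ((P : Set G) ×ˢ {1, z}) :=
        (Set.image_prod _).symm
      rw [h1]
      refine (Set.ncard_image_le (Set.toFinite _)).trans ?_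
      rw [Set.ncard_prod, ← Nat.card_coe_set_eq]
      have h2 : ({1, z} : Set G).ncard ≤ 2 := by
        refine (Set.ncard_insert_le _ _).trans ?_
        rw [Set.ncard_singleton]
      calc Nat.card ↥(P : Set G) * ({1, z} : Set G).ncard ≤ 3 * 2 := Nat.mul_le_mul (le_of_eq hP) h2
        _ = 6 := rfl
    have hp0N : p0 ∈ NR := Subgroup.le_normalizer (hPR hp0)
    have h3 : 3 ∣ Nat.card ↥ψ.ker := by
      have h := Subgroup.orderOf_dvd_natCard ψ.ker (x := ⟨p0, hp0N⟩)
        (MonoidHom.mem_ker.2 (hφP _ (show ((Subgroup.inclusion hNH ⟨p0, hp0N⟩ : ↥(Subgroup.centralizer ({z} : Set G))) : G) ∈ P from hp0)))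
      rwa [Subgroup.orderOf_mk, orderOf_eq_prime (ThreeClass.pow_three_eq_one_of_mem hP hp0) hp01] at h
    have hzN : z ∈ NR := Subgroup.centralizer_le_normalizer _ (Subgroup.mem_centralizer_iff.2 fun r hr =>
      Subgroup.mem_centralizer_singleton_iff.1 (hR hr))
    have hzk : φ (Subgroup.inclusion hNH ⟨z, hzN⟩) = 1 := by
      set zH := Subgroup.inclusion hNH ⟨z, hzN⟩ with hzH
      have hc : φ zH ∈ Subgroup.center (MulAut ↥Cfsg.Spor.M22) := by
        refine Subgroup.mem_center_iff.2 fun α => ?_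
        obtain ⟨k, rfl⟩ := hφ α
        rw [← map_mul, ← map_mul]
        exact congrArg φ (Subtype.ext (Subgroup.mem_centralizer_singleton_iff.1 k.2))
      obtain ⟨w, hw⟩ : φ zH ∈ Cfsg.Inn ↥Cfsg.Spor.M22 := himg ▸ ⟨zH,
        Subgroup.mem_centralizer_iff.2 fun p hp => Subgroup.mem_centralizer_singleton_iff.1 (hPH hp), rfl⟩
      have hw1 : w ∈ Subgroup.center ↥Cfsg.Spor.M22 := Subgroup.mem_center_iff.2 fun v =>
        LargeFi.J4.conj_injective (by
          rw [map_mul, map_mul, hw]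
          exact Subgroup.mem_center_iff.1 hc _)
      rw [LargeFi.J4.center_M22, Subgroup.mem_bot] at hw1
      rw [← hw, hw1, map_one]
    have h2 : 2 ∣ Nat.card ↥ψ.ker := by
      have h := Subgroup.orderOf_dvd_natCard ψ.ker (x := ⟨z, hzN⟩) (MonoidHom.mem_ker.2 hzk)
      rwa [Subgroup.orderOf_mk, hz] at h
    exact le_antisymm hle (Nat.le_of_dvd Nat.card_pos
      (Nat.Coprime.mul_dvd_of_dvd_of_dvd (by norm_num) h2 h3))
  have h := ψ.ker.card_mul_index
  rw [Subgroup.index_ker, hkψ, hrange, card_normalizer_aut hRbI hRb9] at h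
  exact h.symm

/-- the structure of any Sylow 3-subgroup in the centraliser -/
theorem structure_sylow (hJ : Cfsg.IsOfJankoFourTypeWith z P)
    (hNP : Subgroup.normalizer (P : Set G) ≤ Subgroup.centralizer ({z} : Set G))
    (hK : ∃ K : Subgroup G, Cfsg.Spor.IsoM24 ↥K) (R : Sylow 3 G)
    (hR : (R : Subgroup G) ≤ Subgroup.centralizer ({z} : Set G)) :
    Cfsg.IsExtraspecial 3 ↥(R : Subgroup G) ∧ Nat.card ↥(R : Subgroup G) = 27 ∧
    Monoid.exponent ↥(R : Subgroup G) = 3 ∧
    Subgroup.normalizer ((R : Subgroup G) : Set G) ≤ Subgroup.centralizer ({z} : Set G) ∧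
    Nat.card ↥(Subgroup.normalizer ((R : Subgroup G) : Set G)) = 864 := by
  haveI : Fact (Nat.Prime 3) := ⟨Nat.prime_three⟩
  have hP : Nat.card ↥P = 3 := hJ.2.2.2.2.2.1
  obtain ⟨-, -, -, -, -, -, hPH, -, -⟩ := exists_kernel_frame hJ
  have hPp : IsPGroup 3 ↥(P.subgroupOf (Subgroup.centralizer ({z} : Set G))) :=
    IsPGroup.of_card (n := 1) (by rw [Nat.card_congr (Subgroup.subgroupOfEquivOfLe hPH).toEquiv, hP, pow_one])
  obtain ⟨U, hU⟩ := hPp.exists_le_sylow
  obtain ⟨h, hh⟩ := MulAction.exists_smul_eq ↥(Subgroup.centralizer ({z} : Set G)) (R.subtype hR) U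
  set R1 : Sylow 3 G := (h : G) • R with hR1
  have hR1s : (R1 : Subgroup G) = (R : Subgroup G).map (MulAut.conj (h : G)).toMonoidHom := rfl
  have hR1H : (R1 : Subgroup G) ≤ Subgroup.centralizer ({z} : Set G) := by
    rw [hR1s]
    rintro _ ⟨r, hr, rfl⟩
    exact Subgroup.mul_mem _ (Subgroup.mul_mem _ h.2 (hR hr)) (Subgroup.inv_mem _ h.2)
  have hPR1 : P ≤ (R1 : Subgroup G) := by
    intro p hp
    have h1 : (⟨p, hPH hp⟩ : ↥(Subgroup.centralizer ({z} : Set G))) ∈ (U : Subgroup _) := hU hp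
    rw [← hh] at h1
    obtain ⟨r, hr, hre⟩ := h1
    exact ⟨r, hr, congrArg Subtype.val hre⟩
  obtain ⟨h1, h2, h3, h4, h5⟩ := structure_of_le hJ hNP hK R1 hR1H hPR1
  have e : ↥(R : Subgroup G) ≃* ↥(R1 : Subgroup G) :=
    (R : Subgroup G).equivMapOfInjective (MulAut.conj (h : G)).toMonoidHom (MulAut.conj (h : G)).injective
  have hN : Subgroup.normalizer ((R1 : Subgroup G) : Set G) =
      (Subgroup.normalizer ((R : Subgroup G) : Set G)).map (MulAut.conj (h : G)).toMonoidHom := by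
    rw [hR1s, Subgroup.map_normalizer_eq_of_bijective _ (MulAut.conj (h : G)).bijective]
  refine ⟨CfsgLib.ThreeTransp.TwistF2.transfer e.symm h1, ?_, ?_, ?_, ?_⟩
  · rw [Nat.card_congr e.toEquiv, h2]
  · rw [Monoid.exponent_eq_of_mulEquiv e, h3]
  · intro n hn
    have h6 : (h : G) * n * (h : G)⁻¹ ∈ Subgroup.centralizer ({z} : Set G) :=
      h4 (hN ▸ ⟨n, hn, rfl⟩)
    have h7 := Subgroup.mul_mem _ (Subgroup.mul_mem _ (Subgroup.inv_mem _ h.2) h6) h.2
    simpa [mul_assoc] using h7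
  · rw [← h5, hN, Subgroup.card_map_of_injective (MulAut.conj (h : G)).injective]

end CfsgLib.Spor.JankoFour.ThreeSylow
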