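import Cfsg.Agent.Lib.Spor.JankoFour.ThreeClassCert
import Cfsg.Agent.Lib.Transfer.CentralTransfer
import Cfsg.Prelude.Def_JankoFourType

/-!
A group of Janko-four type in which the normaliser of the distinguished subgroup of order three lies
in the involution centraliser and which has a subgroup isomorphic to `M24` has a single class of
elements of order three.
-/

set_option autoImplicit false

namespace CfsgLib.Spor.JankoFour.ThreeClass

open Cfsg CfsgLib.Spor

variable {G : Type*} [Group G] [Finite G]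

theorem natCard_mulAut_M22 : Nat.card (MulAut ↥Cfsg.Spor.M22) = 887040 := by
  have hidx : (Cfsg.Inn ↥Cfsg.Spor.M22).index = 2 := by
    rw [Subgroup.index_eq_card]
    have h := CfsgLib.MathieuOut.M22Cert.natCard_out
    rw [CfsgLib.MathieuOut.stabG_M22] at h
    exact h
  have hinj : Function.Injective (MulAut.conj : ↥Cfsg.Spor.M22 →* MulAut ↥Cfsg.Spor.M22) := by
    rw [← MonoidHom.ker_eq_bot_iff, Subgroup.eq_bot_iff_forall]
    intro w hw
    refine Subtype.ext (centralizer_M22 w.2.1.1 fun s hs => ?_)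
    have h3 := congrArg (fun f : MulAut ↥Cfsg.Spor.M22 => (f ⟨s, hs⟩ : Equiv.Perm GolayPt))
      (MonoidHom.mem_ker.1 hw)
    simp only [MulAut.one_apply, MulAut.conj_apply, Subgroup.coe_mul, InvMemClass.coe_inv] at h3
    exact mul_inv_eq_iff_eq_mul.1 h3
  rw [← (Cfsg.Inn ↥Cfsg.Spor.M22).card_mul_index, hidx,
    show Nat.card ↥(Cfsg.Inn ↥Cfsg.Spor.M22) = Nat.card ↥Cfsg.Spor.M22 from
      (Nat.card_congr (MonoidHom.ofInjective hinj).toEquiv).symm,
    CfsgLib.MathieuOut.natCard_M22]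

omit [Finite G] in
theorem pow_three_eq_one_of_mem {P : Subgroup G} (hP : Nat.card ↥P = 3) {p : G} (hp : p ∈ P) :
    p ^ 3 = 1 := by
  haveI : Finite ↥P := Nat.finite_of_card_ne_zero (by omega)
  have h : (⟨p, hp⟩ : ↥P) ^ Nat.card ↥P = 1 := pow_card_eq_one'
  rw [hP] at h
  exact congrArg Subtype.val h

theorem eq_pow_of_mem {P : Subgroup G} (hP : Nat.card ↥P = 3) {p q : G} (hp : p ∈ P)
    (hp1 : p ≠ 1) (hq : q ∈ P) : q = 1 ∨ q = p ∨ q = p ^ 2 := by
  haveI : Fact (Nat.Prime 3) := ⟨Nat.prime_three⟩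
  have hne : (⟨p, hp⟩ : ↥P) ≠ 1 := fun h => hp1 (congrArg Subtype.val h)
  have h := mem_powers_of_prime_card (p := 3) hP hne (g' := ⟨q, hq⟩)
  obtain ⟨n, hn⟩ := Submonoid.mem_powers_iff _ _ |>.1 h
  have hn' : p ^ n = q := congrArg Subtype.val hn
  rw [pow_eq_pow_mod n (pow_three_eq_one_of_mem hP hp)] at hn'
  have h3 : n % 3 < 3 := Nat.mod_lt _ (by norm_num)
  interval_cases hh : n % 3
  · exact Or.inl (by rw [← hn', pow_zero])
  · exact Or.inr (Or.inl (by rw [← hn', pow_one]))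
  · exact Or.inr (Or.inr hn'.symm)

/-- An element of odd order normalising a subgroup of order three centralises it. -/
theorem commute_of_odd {P : Subgroup G} (hP : Nat.card ↥P = 3) {r p : G} (hr : Odd (orderOf r))
    (hp : p ∈ P) (hn : r * p * r⁻¹ ∈ P) : Commute r p := by
  by_cases hp1 : p = 1
  · subst hp1; exact Commute.one_right r
  rcases eq_pow_of_mem hP hp hp1 hn with h | h | h
  · exact absurd (conj_eq_one_iff.1 h) hp1
  · exact mul_inv_eq_iff_eq_mul.1 h
  · have h2 : Commute (r ^ 2) p := by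
      refine mul_inv_eq_iff_eq_mul.1 ?_
      calc r ^ 2 * p * (r ^ 2)⁻¹ = r * (r * p * r⁻¹) * r⁻¹ := by simp [pow_two, mul_assoc]
        _ = (r * p * r⁻¹) ^ 2 := by rw [conj_pow, h]
        _ = p ^ 3 * p := by rw [h, ← pow_mul, ← pow_succ]
        _ = p := by rw [pow_three_eq_one_of_mem hP hp, one_mul]
    obtain ⟨k, hk⟩ := hr
    have hr2 : (r ^ 2) ^ (k + 1) = r := by
      rw [← pow_mul, show 2 * (k + 1) = (2 * k + 1) + 1 by ring, pow_succ, ← hk, pow_orderOf_eq_one,
        one_mul]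
    have h3 := h2.pow_left (k + 1)
    rwa [hr2] at h3

omit [Finite G] in
/-- conjugation by a power shifts by the corresponding power of a commutator -/
theorem conj_pow_eq {r d y : G} (hd : Commute r d) (h : r * y * r⁻¹ = d * y) :
    ∀ i : ℕ, r ^ i * y * (r ^ i)⁻¹ = d ^ i * y
  | 0 => by simp
  | i + 1 => by
    calc r ^ (i + 1) * y * (r ^ (i + 1))⁻¹ = r * (r ^ i * y * (r ^ i)⁻¹) * r⁻¹ := by
          rw [pow_succ']; group
      _ = r * (d ^ i * y) * r⁻¹ := by rw [conj_pow_eq hd h i]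
      _ = d ^ i * (r * y * r⁻¹) := by
          rw [← mul_assoc, (hd.pow_right i).eq]; group
      _ = d ^ (i + 1) * y := by rw [h, pow_succ, mul_assoc]

section Main

variable {z : G} {P : Subgroup G}

theorem exists_sylow_frame (hJ : Cfsg.IsOfJankoFourTypeWith z P) (H : Subgroup G)
    (hH : H = Subgroup.centralizer ({z} : Set G)) :
    ∃ (N : Subgroup ↥H) (φ : ↥H →* MulAut ↥Cfsg.Spor.M22),
      Function.Surjective φ ∧ φ.ker = N ∧ Nat.card ↥N = 24576 ∧
      Nat.card ↥H = 27 * 807403520 ∧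
      ∃ hP : P ≤ H, P.subgroupOf H ≤ N := by
  subst hH
  obtain ⟨-, -, hE, -, ⟨N, -, hNH, -, hcard, ⟨hn, ⟨e⟩⟩, hPN⟩, -⟩ := hJ
  refine ⟨N.subgroupOf _, e.toMonoidHom.comp (QuotientGroup.mk' _), e.surjective.comp
    (QuotientGroup.mk'_surjective _), ?_, ?_, ?_, hPN.trans hNH, fun x hx => hPN hx⟩
  · ext u
    rw [MonoidHom.mem_ker, MonoidHom.comp_apply, MulEquiv.coe_toMonoidHom, map_eq_one_iff e e.injective,
      QuotientGroup.mk'_apply, QuotientGroup.eq_one_iff]
  · rw [Nat.card_congr (Subgroup.subgroupOfEquivOfLe hNH).toEquiv, hcard, hE]; rfl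
  · rw [Subgroup.card_eq_card_quotient_mul_card_subgroup
      (N.subgroupOf (Subgroup.centralizer ({z} : Set G))), Nat.card_congr e.toEquiv,
      natCard_mulAut_M22, Nat.card_congr (Subgroup.subgroupOfEquivOfLe hNH).toEquiv, hcard, hE]
    rfl

/-- One class of elements of order three. -/
theorem isConj_of_orderOf_eq_three (hJ : Cfsg.IsOfJankoFourTypeWith z P)
    (hNP : Subgroup.normalizer (P : Set G) ≤ Subgroup.centralizer ({z} : Set G))
    (hK : ∃ K : Subgroup G, Cfsg.Spor.IsoM24 ↥K) {x y : G} (hx : orderOf x = 3)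
    (hy : orderOf y = 3) : IsConj x y := by
  classical
  haveI : Fact (Nat.Prime 3) := ⟨Nat.prime_three⟩
  obtain ⟨H, hH⟩ : ∃ H : Subgroup G, H = Subgroup.centralizer ({z} : Set G) := ⟨_, rfl⟩
  obtain ⟨N, φ, hφ, hker, hNcard, hHcard, hPH, hPN⟩ := exists_sylow_frame hJ H hH
  obtain ⟨-, -, -, -, -, hP, -, hNC, hPC⟩ := hJ
  rw [← hH] at hNP hNC hPC
  -- a Sylow subgroup of the centraliser
  have hP' : IsPGroup 3 ↥(P.subgroupOf H) :=
    IsPGroup.of_card (n := 1) (by rw [Nat.card_congr (Subgroup.subgroupOfEquivOfLe hPH).toEquiv, hP, pow_one])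
  obtain ⟨R0, hR0⟩ := hP'.exists_le_sylow
  have hR0card : Nat.card ↥(R0 : Subgroup ↥H) = 27 := by
    rw [R0.card_eq_multiplicity, hHcard, Nat.factorization_mul (by norm_num) (by norm_num),
      Finsupp.add_apply, show (27 : ℕ) = 3 ^ 3 by norm_num, Nat.Prime.factorization_pow Nat.prime_three,
      Finsupp.single_eq_same, Nat.factorization_eq_zero_of_not_dvd (by norm_num)]
  set R : Subgroup G := (R0 : Subgroup ↥H).map H.subtype with hR
  have hRcard : Nat.card ↥R = 27 := by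
    rw [hR, Subgroup.card_map_of_injective H.subtype_injective, hR0card]
  have hRp : IsPGroup 3 ↥R := IsPGroup.of_card (n := 3) hRcard
  have hRH : R ≤ H := Subgroup.map_subtype_le _
  have hmemR : ∀ {g : G} (hg : g ∈ H), g ∈ R → (⟨g, hg⟩ : ↥H) ∈ (R0 : Subgroup ↥H) := by
    intro g hg h
    obtain ⟨u, hu, hue⟩ := h
    obtain rfl : u = ⟨g, hg⟩ := Subtype.ext hue
    exact hu
  have hPR : P ≤ R := fun p hp => ⟨⟨p, hPH hp⟩, hR0 (show (⟨p, hPH hp⟩ : ↥H) ∈ _ from hp), rfl⟩
  -- the kernel meets it in `P`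
  have hRN : ∀ u : ↥H, u ∈ (R0 : Subgroup ↥H) → φ u = 1 → (u : G) ∈ P := by
    have h1 : Nat.card ↥((R0 : Subgroup ↥H) ⊓ N) ∣ 3 := by
      have a := Subgroup.card_dvd_of_le (inf_le_left : (R0 : Subgroup ↥H) ⊓ N ≤ _)
      have b := Subgroup.card_dvd_of_le (inf_le_right : (R0 : Subgroup ↥H) ⊓ N ≤ _)
      rw [hR0card] at a
      rw [hNcard] at b
      exact (Nat.dvd_gcd a b).trans (by norm_num)
    have h2 : P.subgroupOf H = (R0 : Subgroup ↥H) ⊓ N := by
      refine Subgroup.eq_of_le_of_card_ge (le_inf hR0 hPN) ?_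
      rw [Nat.card_congr (Subgroup.subgroupOfEquivOfLe hPH).toEquiv, hP]
      exact Nat.le_of_dvd (by norm_num) h1
    intro u hu hu1
    have h3 : u ∈ P.subgroupOf H := h2 ▸ ⟨hu, hker ▸ (MonoidHom.mem_ker.2 hu1)⟩
    exact h3
  have hφP : ∀ p : ↥H, (p : G) ∈ P → φ p = 1 := fun p hp => by
    rw [← MonoidHom.mem_ker, hker]; exact hPN hp
  have hord : ∀ r ∈ R, Odd (orderOf r) := by
    intro r hr
    have h := Subgroup.orderOf_dvd_natCard R hr
    rw [hRcard] at h
    exact Odd.of_dvd_nat (by decide) h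
  have hcomm : ∀ r ∈ R, ∀ p ∈ P, Commute r p := by
    intro r hr p hp
    refine commute_of_odd hP (hord r hr) hp ?_
    have hrH := hRH hr
    refine hRN (⟨r, hrH⟩ * ⟨p, hPH hp⟩ * ⟨r, hrH⟩⁻¹) ?_ ?_
    · exact mul_mem (mul_mem (hmemR hrH hr) (hR0 hp)) (inv_mem (hmemR hrH hr))
    · rw [map_mul, map_mul, map_inv, hφP _ (show ((⟨p, hPH hp⟩ : ↥H) : G) ∈ P from hp), mul_one,
        mul_inv_cancel]
  obtain ⟨p0, hp0, hp01⟩ : ∃ p ∈ P, p ≠ (1 : G) := by
    rcases P.bot_or_exists_ne_one with h | h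
    · rw [h, Subgroup.card_bot] at hP; omega
    · exact h
  -- non-commutative
  have hnc : ¬ IsMulCommutative ↥R := by
    intro hab
    set C : Subgroup G := H ⊓ Subgroup.centralizer (P : Set G) with hC
    have hRC : R ≤ C := le_inf hRH fun r hr =>
      Subgroup.mem_centralizer_iff.2 fun p hp => ((hcomm r hr p hp).eq).symm
    have hab' : IsMulCommutative ↥(R.subgroupOf C) := by
      refine ⟨⟨fun a b => ?_⟩⟩
      apply Subtype.ext
      apply Subtype.ext
      have hab2 := congrArg Subtype.val (hab.is_comm.comm (⟨((a : ↥C) : G), a.2⟩ : ↥R) ⟨((b : ↥C) : G), b.2⟩)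
      simpa using hab2
    have hcop : Nat.Coprime (Nat.card ↥(R.subgroupOf C)) (R.subgroupOf C).index := by
      have h1 := (R.subgroupOf C).card_mul_index
      have h2 : Nat.card ↥C ∣ Nat.card ↥H := Subgroup.card_dvd_of_le inf_le_left
      rw [Nat.card_congr (Subgroup.subgroupOfEquivOfLe hRC).toEquiv, hRcard] at h1 ⊢
      rw [← h1, hHcard] at h2
      have h3 := Nat.dvd_of_mul_dvd_mul_left (by norm_num) h2
      exact Nat.Coprime.coprime_dvd_right h3 (by norm_num)
    have h := CfsgLib.Transfer.inf_commutator_inf_center_eq_bot (R.subgroupOf C) hab' hcop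
    have hp0C : p0 ∈ C := hRC (hPR hp0)
    have hmem : (⟨p0, hp0C⟩ : ↥C) ∈ R.subgroupOf C ⊓ commutator ↥C ⊓ Subgroup.center ↥C := by
      refine ⟨⟨hPR hp0, ?_⟩, ?_⟩
      · have h' : p0 ∈ ⁅C, C⁆ := hPC hp0
        rw [← Subgroup.map_subtype_commutator] at h'
        obtain ⟨w, hw, hwe⟩ := h'
        obtain rfl : w = ⟨p0, hp0C⟩ := Subtype.ext hwe
        exact hw
      · exact Subgroup.mem_center_iff.2 fun c =>
          Subtype.ext ((Subgroup.mem_centralizer_iff.1 c.2.2) p0 hp0).symm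
    rw [h] at hmem
    exact hp01 (congrArg Subtype.val (Subgroup.mem_bot.1 hmem))
  -- the centre
  have hZle : P.subgroupOf R ≤ Subgroup.center ↥R := fun p hp =>
    Subgroup.mem_center_iff.2 fun r => Subtype.ext (hcomm r r.2 p hp)
  have hPRcard : Nat.card ↥(P.subgroupOf R) = 3 := by
    rw [Nat.card_congr (Subgroup.subgroupOfEquivOfLe hPR).toEquiv, hP]
  have hZcard : Nat.card ↥(Subgroup.center ↥R) = 3 := by
    obtain ⟨k, hk, he⟩ := (Nat.dvd_prime_pow Nat.prime_three (m := 3)).1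
      (by simpa [hRcard] using Subgroup.card_subgroup_dvd_card (Subgroup.center ↥R))
    have h3 : 3 ≤ Nat.card ↥(Subgroup.center ↥R) :=
      hPRcard ▸ Subgroup.card_le_of_le hZle
    have hq : Nat.card (↥R ⧸ Subgroup.center ↥R) * Nat.card ↥(Subgroup.center ↥R) = 27 := by
      rw [← Subgroup.card_eq_card_quotient_mul_card_subgroup, hRcard]
    rw [he] at h3 hq ⊢
    interval_cases k
    · norm_num at h3
    · norm_num
    · haveI : IsCyclic (↥R ⧸ Subgroup.center ↥R) :=
        isCyclic_of_prime_card (p := 3) (by omega)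
      exact (hnc ⟨⟨commutative_of_cyclic_center_quotient (QuotientGroup.mk' (Subgroup.center ↥R))
        (by rw [QuotientGroup.ker_mk'])⟩⟩).elim
    · have hq1 : Nat.card (↥R ⧸ Subgroup.center ↥R) = 1 := by omega
      haveI : Subsingleton (↥R ⧸ Subgroup.center ↥R) := (Nat.card_eq_one_iff_unique.1 hq1).1
      haveI : IsCyclic (↥R ⧸ Subgroup.center ↥R) := inferInstance
      exact (hnc ⟨⟨commutative_of_cyclic_center_quotient (QuotientGroup.mk' (Subgroup.center ↥R))
        (by rw [QuotientGroup.ker_mk'])⟩⟩).elim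
  have hZeq : P.subgroupOf R = Subgroup.center ↥R :=
    Subgroup.eq_of_le_of_card_ge hZle (by rw [hZcard, hPRcard])
  have hcen : ∀ u ∈ R, (∀ r ∈ R, Commute r u) → u ∈ P := by
    intro u hu h
    have h1 : (⟨u, hu⟩ : ↥R) ∈ P.subgroupOf R :=
      hZeq ▸ Subgroup.mem_center_iff.2 fun r => Subtype.ext (h r r.2)
    exact h1
  have hcommP : ∀ u ∈ R, ∀ v ∈ R, u * v * u⁻¹ * v⁻¹ ∈ P := by
    intro u hu v hv
    have hq : Nat.card (↥R ⧸ Subgroup.center ↥R) = 3 ^ 2 := by
      have h := Subgroup.card_eq_card_quotient_mul_card_subgroup (Subgroup.center ↥R)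
      rw [hRcard, hZcard] at h
      omega
    have h1 := IsPGroup.commutative_of_card_eq_prime_sq hq
    have h2 : ((⟨u, hu⟩ * ⟨v, hv⟩ * ⟨u, hu⟩⁻¹ * ⟨v, hv⟩⁻¹ : ↥R) : ↥R ⧸ Subgroup.center ↥R) = 1 := by
      simp only [QuotientGroup.mk_mul, QuotientGroup.mk_inv]
      rw [h1 (QuotientGroup.mk (⟨u, hu⟩ : ↥R))]
      group
    rw [QuotientGroup.eq_one_iff, ← hZeq] at h2
    exact h2
  -- a Sylow subgroup of the whole group
  obtain ⟨S, hS⟩ := hRp.exists_le_sylow
  have hSH : (S : Subgroup G).subgroupOf H = (R0 : Subgroup ↥H) :=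
    R0.is_maximal' (S.2.comap_of_injective H.subtype H.subtype_injective)
      fun u hu => hS ⟨u, hu, rfl⟩
  have hSR : (S : Subgroup G) = R := by
    haveI : Nontrivial ↥(S : Subgroup G) :=
      ⟨⟨⟨p0, hS (hPR hp0)⟩, 1, fun h => hp01 (congrArg Subtype.val h)⟩⟩
    haveI := S.2.center_nontrivial
    obtain ⟨⟨w, hw⟩, hw1⟩ := exists_ne (1 : ↥(Subgroup.center ↥(S : Subgroup G)))
    have hwc : ∀ s ∈ (S : Subgroup G), s * (w : G) = w * s := fun s hs =>
      congrArg Subtype.val (Subgroup.mem_center_iff.1 hw ⟨s, hs⟩)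
    have hwH : (w : G) ∈ H := hNP (Subgroup.centralizer_le_normalizer _ (Subgroup.mem_centralizer_iff.2
      fun p hp => hwc p (hS (hPR hp))))
    have hwR : (w : G) ∈ R := ⟨⟨w, hwH⟩, hSH ▸ (w.2 : (⟨(w : G), hwH⟩ : ↥H).val ∈ (S : Subgroup G)), rfl⟩
    have hwP : (w : G) ∈ P := hcen w hwR fun r hr => hwc r (hS hr)
    have hw1' : (w : G) ≠ 1 := fun h => hw1 (Subtype.ext (Subtype.ext h))
    refine le_antisymm (fun s hs => ?_) hS
    have hsP : s ∈ Subgroup.centralizer (P : Set G) := Subgroup.mem_centralizer_iff.2 fun p hp => by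
      rcases eq_pow_of_mem hP hwP hw1' hp with rfl | rfl | rfl
      · simp
      · exact (hwc s hs).symm
      · exact ((show Commute s (w : G) from hwc s hs).pow_right 2).eq.symm
    have hsH : s ∈ H := hNP (Subgroup.centralizer_le_normalizer _ hsP)
    exact ⟨⟨s, hsH⟩, hSH ▸ (hs : (⟨s, hsH⟩ : ↥H).val ∈ (S : Subgroup G)), rfl⟩
  have hinto : ∀ T : Subgroup G, IsPGroup 3 ↥T → ∃ g : G, ∀ t ∈ T, g * t * g⁻¹ ∈ R := by
    intro T hT
    obtain ⟨U, hU⟩ := hT.exists_le_sylow
    obtain ⟨g, hg⟩ := MulAction.exists_smul_eq G U S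
    refine ⟨g, fun t ht => ?_⟩
    have h1 : MulAut.conj g • t ∈ (g • U : Sylow 3 G) :=
      Subgroup.smul_mem_pointwise_smul _ _ _ (hU ht)
    rw [hg] at h1
    rw [← hSR]
    exact h1
  -- elements outside `P`
  have hout : ∀ u ∈ R, ∀ v ∈ R, u ^ 3 = 1 → v ^ 3 = 1 → u ∉ P → v ∉ P → IsConj u v := by
    intro u hu v hv hu3 hv3 huP hvP
    set u' : ↥H := ⟨u, hRH hu⟩ with hu'
    set v' : ↥H := ⟨v, hRH hv⟩ with hv'
    have ho : ∀ w : ↥H, (w : G) ∈ R → (w : G) ∉ P → (w : G) ^ 3 = 1 → orderOf (φ w) = 3 := by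
      intro w hw hwP hw3
      refine orderOf_eq_prime ?_ fun h => hwP (hRN w (hmemR w.2 hw) h)
      rw [← map_pow, show w ^ 3 = 1 from Subtype.ext hw3, map_one]
    obtain ⟨α, hα⟩ := isConj_iff.1 (ThreeClassCert.autM22_three_conj (ho u' hu huP hu3) (ho v' hv hvP hv3))
    obtain ⟨h, rfl⟩ := hφ α
    set Y : Subgroup ↥H := (Subgroup.zpowers (φ v')).comap φ with hY
    have hYcard : Nat.card ↥Y = 9 * 8192 := by
      have h1 : Nat.card ↥((φ.subgroupComap (Subgroup.zpowers (φ v'))).ker) = 24576 := by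
        rw [← hNcard, ← hker]
        refine Nat.card_congr ⟨fun a => ⟨a.1.1, congrArg Subtype.val (MonoidHom.mem_ker.1 a.2)⟩,
          fun a => ⟨⟨a.1, ?_⟩, MonoidHom.mem_ker.2 (Subtype.ext (MonoidHom.mem_ker.1 a.2))⟩,
          fun a => rfl, fun a => rfl⟩
        show φ a.1 ∈ Subgroup.zpowers (φ v')
        rw [MonoidHom.mem_ker.1 a.2]
        exact one_mem _
      have h2 := (φ.subgroupComap (Subgroup.zpowers (φ v'))).ker.card_mul_index
      rw [h1, Subgroup.index_ker, MonoidHom.range_eq_top.2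
        (φ.subgroupComap_surjective_of_surjective _ hφ), Subgroup.card_top, Nat.card_zpowers,
        ho v' hv hvP hv3] at h2
      rw [← h2]
    set RY : Subgroup ↥Y := (R0 : Subgroup ↥H).subgroupOf Y with hRY
    have hRYcard : Nat.card ↥RY = 9 := by
      have h1 : Nat.card ↥RY ∣ 9 := by
        have a : Nat.card ↥RY ∣ 27 := hR0card ▸ Subgroup.card_comap_dvd_of_injective _ _ Y.subtype_injective
        have b := Subgroup.card_subgroup_dvd_card RY
        rw [hYcard] at b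
        exact (Nat.dvd_gcd a b).trans (by norm_num)
      have h2 : ¬ Nat.card ↥RY ≤ 3 := by
        intro h3
        have hle : (P.subgroupOf H).subgroupOf Y ≤ RY := fun a ha => hR0 ha
        have hPY : P.subgroupOf H ≤ Y := fun a ha => by
          show φ a ∈ Subgroup.zpowers (φ v')
          rw [hφP a ha]
          exact one_mem _
        have heq := Subgroup.eq_of_le_of_card_ge hle (by
          rw [Nat.card_congr (Subgroup.subgroupOfEquivOfLe hPY).toEquiv,
            Nat.card_congr (Subgroup.subgroupOfEquivOfLe hPH).toEquiv, hP]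
          exact h3)
        have hvY : v' ∈ Y := Subgroup.mem_zpowers _
        have hvRY : (⟨v', hvY⟩ : ↥Y) ∈ RY := hmemR (hRH hv) hv
        rw [← heq] at hvRY
        exact hvP hvRY
      have h3 : Nat.card ↥RY ≤ 9 := Nat.le_of_dvd (by norm_num) h1
      generalize Nat.card ↥RY = m at h1 h2 h3 ⊢
      interval_cases m <;> omega
    have hRYidx : RY.index = 8192 := by
      have h1 := RY.card_mul_index
      rw [hRYcard, hYcard] at h1
      omega
    let Q : Sylow 3 ↥Y := (IsPGroup.of_card (n := 2) (by rw [hRYcard]; norm_num)).toSylow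
      (by rw [hRYidx]; norm_num)
    have hxY : h * u' * h⁻¹ ∈ Y := by
      show φ (h * u' * h⁻¹) ∈ Subgroup.zpowers (φ v')
      rw [map_mul, map_mul, map_inv, hα]
      exact Subgroup.mem_zpowers _
    have hxp : IsPGroup 3 ↥(Subgroup.zpowers (⟨h * u' * h⁻¹, hxY⟩ : ↥Y)) := by
      have hd : orderOf (⟨h * u' * h⁻¹, hxY⟩ : ↥Y) ∣ 3 ^ 1 := by
        rw [pow_one, orderOf_dvd_iff_pow_eq_one]
        refine Subtype.ext (Subtype.ext ?_)
        simp only [SubmonoidClass.coe_pow, Subgroup.coe_mul, Subgroup.coe_inv, OneMemClass.coe_one]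
        rw [conj_pow, show ((u' : G)) ^ 3 = 1 from hu3, mul_one, mul_inv_cancel]
      obtain ⟨k, -, hk⟩ := (Nat.dvd_prime_pow Nat.prime_three).1 hd
      exact IsPGroup.of_card (by rw [Nat.card_zpowers, hk])
    obtain ⟨U, hU⟩ := hxp.exists_le_sylow
    obtain ⟨w, hw⟩ := MulAction.exists_smul_eq ↥Y U Q
    have h1 : MulAut.conj w • (⟨h * u' * h⁻¹, hxY⟩ : ↥Y) ∈ (w • U : Sylow 3 ↥Y) :=
      Subgroup.smul_mem_pointwise_smul _ _ _ (hU (Subgroup.mem_zpowers _))
    rw [hw] at h1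
    set a : ↥H := (w : ↥H) * (h * u' * h⁻¹) * (w : ↥H)⁻¹ with ha
    have haR : a ∈ (R0 : Subgroup ↥H) := h1
    have hφa : φ a = φ v' := by
      rw [ha, map_mul, map_mul, map_inv, map_mul φ (h * u'), map_mul, map_inv, hα]
      obtain ⟨k, hk⟩ := Subgroup.mem_zpowers_iff.1 (show φ (w : ↥H) ∈ Subgroup.zpowers (φ v') from w.2)
      rw [← hk]
      group
    have hd : (a : G) * v⁻¹ ∈ P := hRN (a * v'⁻¹) (mul_mem haR (inv_mem (hmemR _ hv)))
      (by rw [map_mul, map_inv, hφa, mul_inv_cancel])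
    obtain ⟨r, hr, hrv⟩ : ∃ r ∈ R, ¬ Commute r v := by
      by_contra hcon
      push Not at hcon
      exact hvP (hcen v hv hcon)
    set d : G := r * v * r⁻¹ * v⁻¹ with hdd
    have hdP : d ∈ P := hcommP r hr v hv
    have hd1 : d ≠ 1 := fun e => hrv (by
      rw [hdd, mul_inv_eq_one, mul_inv_eq_iff_eq_mul] at e; exact e)
    have hrd : r * v * r⁻¹ = d * v := by rw [hdd]; group
    have hav : IsConj v (a : G) := by
      have key : ∀ i : ℕ, IsConj v (d ^ i * v) := fun i =>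
        isConj_iff.2 ⟨r ^ i, conj_pow_eq (hcomm r hr d hdP) hrd i⟩
      have hav' : (a : G) = (a : G) * v⁻¹ * v := by group
      rw [hav']
      rcases eq_pow_of_mem hP hdP hd1 hd with h0 | h0 | h0 <;> rw [h0]
      · simpa using key 0
      · simpa using key 1
      · exact key 2
    refine IsConj.trans (isConj_iff.2 ⟨(w : ↥H) * h, ?_⟩) hav.symm
    simp only [ha, Subgroup.coe_mul, Subgroup.coe_inv]
    group
    rfl
  -- the non-trivial elements of `P`
  obtain ⟨n, hn, q, hq, hnq⟩ : ∃ n ∈ H ⊓ Subgroup.normalizer (P : Set G), ∃ q ∈ P, ¬ Commute n q := by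
    by_contra hcon
    push Not at hcon
    refine hNC (le_antisymm (fun n hn => ⟨hn.1, Subgroup.mem_centralizer_iff.2 fun q hq => ?_⟩)
      (inf_le_inf_left _ (Subgroup.centralizer_le_normalizer _)))
    exact (hcon n hn q hq).eq.symm
  have hq1 : q ≠ 1 := fun e => hnq (e ▸ Commute.one_right n)
  have hinP : ∀ u ∈ P, u ≠ 1 → IsConj q u := by
    intro u hu hu1
    rcases eq_pow_of_mem hP hq hq1 hu with h | h | h
    · exact absurd h hu1
    · exact h ▸ IsConj.refl q
    · refine isConj_iff.2 ⟨n, ?_⟩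
      rcases eq_pow_of_mem hP hq hq1 ((Subgroup.mem_normalizer_iff.1 hn.2 q).1 hq) with h' | h' | h'
      · exact absurd (conj_eq_one_iff.1 h') hq1
      · exact absurd (mul_inv_eq_iff_eq_mul.1 h') hnq
      · exact h'.trans h.symm
  -- fusion inside a Mathieu group
  obtain ⟨K, ⟨e⟩⟩ := hK
  obtain ⟨a, b, c, g, ha1, ha3, hb3, hc3, hab, hac, hbc, hgb⟩ := ThreeClassCert.M24_three_fusion
  set ι : ↥Cfsg.M24 →* G := K.subtype.comp e.symm.toMonoidHom with hι
  have hιinj : Function.Injective ι := K.subtype_injective.comp e.symm.injective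
  set A := ι a with hA
  set B := ι b with hB
  set C' := ι c with hC'
  have hA3 : A ^ 3 = 1 := by rw [hA, ← map_pow, ha3, map_one]
  have hB3 : B ^ 3 = 1 := by rw [hB, ← map_pow, hb3, map_one]
  have hC3 : C' ^ 3 = 1 := by rw [hC', ← map_pow, hc3, map_one]
  have hAB : Commute A B := by rw [hA, hB, Commute, SemiconjBy, ← map_mul, hab, map_mul]
  have hAC : Commute A C' := by rw [hA, hC', Commute, SemiconjBy, ← map_mul, hac, map_mul]
  have hBC : B * C' = A * C' * B := by rw [hA, hB, hC', ← map_mul, hbc, map_mul, map_mul]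
  have hA1 : A ≠ 1 := fun e => ha1 (hιinj (by rw [map_one]; exact e))
  have hzp : ∀ v : G, v ^ 3 = 1 → IsPGroup 3 ↥(Subgroup.zpowers v) := by
    intro v hv
    obtain ⟨k, -, hk⟩ := (Nat.dvd_prime_pow Nat.prime_three (m := 1)).1
      (orderOf_dvd_of_pow_eq_one (x := v) (n := 3 ^ 1) (by rwa [pow_one]))
    exact IsPGroup.of_card (n := k) (by rw [Nat.card_zpowers, hk])
  set W : Subgroup G := Subgroup.zpowers B ⊔ Subgroup.zpowers A with hW
  have hWp : IsPGroup 3 ↥W := (hzp B hB3).to_sup_of_normal_right' (hzp A hA3)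
    ((Subgroup.zpowers_le.2 (Subgroup.centralizer_le_normalizer _
      (Subgroup.mem_centralizer_iff.2 fun s hs => by
        obtain ⟨k, rfl⟩ := Subgroup.mem_zpowers_iff.1 hs
        exact (hAB.zpow_left k).eq))))
  have hCW : Subgroup.zpowers C' ≤ Subgroup.normalizer (W : Set G) := by
    rw [Subgroup.zpowers_le]
    have h1 : W.map (MulAut.conj C' : MulAut G).toMonoidHom ≤ W := by
      rw [hW, Subgroup.map_sup, MonoidHom.map_zpowers, MonoidHom.map_zpowers, sup_le_iff,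
        Subgroup.zpowers_le, Subgroup.zpowers_le]
      have hcb : C' * B * C'⁻¹ = A⁻¹ * B := by
        rw [mul_inv_eq_iff_eq_mul, mul_assoc, hBC]; group
      constructor
      · show C' * B * C'⁻¹ ∈ _
        rw [hcb]
        exact mul_mem (inv_mem (Subgroup.mem_sup_right (Subgroup.mem_zpowers _)))
          (Subgroup.mem_sup_left (Subgroup.mem_zpowers _))
      · show C' * A * C'⁻¹ ∈ _
        rw [← hAC.eq, mul_inv_cancel_right]
        exact Subgroup.mem_sup_right (Subgroup.mem_zpowers _)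
    have h2 := Subgroup.eq_of_le_of_card_ge h1
      (by rw [Subgroup.card_map_of_injective (MulAut.conj C').injective])
    refine Subgroup.mem_normalizer_iff.2 fun t => ⟨fun ht => h1 ⟨t, ht, rfl⟩, fun ht => ?_⟩
    rw [← h2] at ht
    obtain ⟨t', ht', hte⟩ := ht
    obtain rfl : t' = t := (MulAut.conj C').injective hte
    exact ht'
  have hTp : IsPGroup 3 ↥(Subgroup.zpowers C' ⊔ W) := (hzp C' hC3).to_sup_of_normal_right' hWp hCW
  obtain ⟨γ, hγ⟩ := hinto _ hTp
  have hBR : γ * B * γ⁻¹ ∈ R :=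
    hγ B (Subgroup.mem_sup_right (Subgroup.mem_sup_left (Subgroup.mem_zpowers _)))
  have hCR : γ * C' * γ⁻¹ ∈ R := hγ C' (Subgroup.mem_sup_left (Subgroup.mem_zpowers _))
  have hAP : γ * A * γ⁻¹ ∈ P := by
    have h1 := hcommP _ hBR _ hCR
    have h2 : γ * B * γ⁻¹ * (γ * C' * γ⁻¹) * (γ * B * γ⁻¹)⁻¹ * (γ * C' * γ⁻¹)⁻¹ = γ * A * γ⁻¹ := by
      calc _ = γ * (B * C' * B⁻¹ * C'⁻¹) * γ⁻¹ := by group
        _ = γ * A * γ⁻¹ := by rw [hBC]; group
    rwa [h2] at h1
  have hBP : γ * B * γ⁻¹ ∉ P := by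
    intro hB'
    have h1 : Commute (γ * C' * γ⁻¹) (γ * B * γ⁻¹) := hcomm _ hCR _ hB'
    have h2 : Commute C' B := (Commute.conj_iff γ).1 h1
    refine hA1 ?_
    have h3 := hBC
    rw [mul_assoc, h2.eq] at h3
    exact right_eq_mul.1 (h3.trans (mul_assoc _ _ _).symm |>.trans (mul_assoc _ _ _))
  have hA'1 : γ * A * γ⁻¹ ≠ 1 := fun e => hA1 (conj_eq_one_iff.1 e)
  have hBA : IsConj (γ * B * γ⁻¹) (γ * A * γ⁻¹) := by
    refine (isConj_iff.2 ⟨γ, rfl⟩).symm.trans (IsConj.trans (isConj_iff.2 ⟨ι g, ?_⟩) (isConj_iff.2 ⟨γ, rfl⟩))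
    rw [hB, ← map_inv, ← map_mul, ← map_mul, hgb]
  have hB'3 : (γ * B * γ⁻¹) ^ 3 = 1 := by rw [conj_pow, hB3, mul_one, mul_inv_cancel]
  have final : ∀ u : G, orderOf u = 3 → IsConj q u := by
    intro u hu
    have hu3 : u ^ 3 = 1 := hu ▸ pow_orderOf_eq_one u
    obtain ⟨δ, hδ⟩ := hinto _ (hzp u hu3)
    have hmem := hδ u (Subgroup.mem_zpowers _)
    refine IsConj.trans ?_ (isConj_iff.2 ⟨δ, rfl⟩ : IsConj u (δ * u * δ⁻¹)).symm
    by_cases hP' : δ * u * δ⁻¹ ∈ P
    · refine hinP _ hP' fun e => ?_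
      rw [conj_eq_one_iff.1 e, orderOf_one] at hu
      omega
    · exact ((hinP _ hAP hA'1).trans hBA.symm).trans
        (hout _ hBR _ hmem hB'3 (by rw [conj_pow, hu3, mul_one, mul_inv_cancel]) hBP hP')
  exact (final x hx).symm.trans (final y hy)

end Main

end CfsgLib.Spor.JankoFour.ThreeClass
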