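import Cfsg.Agent.Lib.KnownA.MathieuOut.M22
import Cfsg.Agent.Lib.Spor.Census
import Cfsg.Agent.Lib.Spor.MathieuConj

/-!
All elements of order three of the Mathieu group on 22 points are conjugate, also in its
automorphism group; a non-central element of order three of a Sylow 3-subgroup of `M24` conjugate
to a commutator in that subgroup.
-/

set_option autoImplicit false
set_option maxRecDepth 100000

namespace CfsgLib.Spor.JankoFour.ThreeClassCert

open Cfsg CfsgLib.Spor CfsgLib.MathieuOut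

/-- first generator of a Sylow subgroup for three in `M22` -/
def eX : ℕ := 968508519447522875322076713762162880

/-- second generator -/
def eY : ℕ := 984289116771611385421140186851091680

/-- conjugating elements from the first generator to the other non-trivial elements -/
def eWit : List (ℕ × ℕ × ℕ) :=
  [(0, 1, 958432133079558343608143980544436800),
   (0, 2, 967560133307581716782146702807680480),
   (1, 0, 974047004425849895481275882208798336),
   (1, 1, 962128271453754641744062371159674496),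
   (1, 2, 960063039501135001595529712792847680),
   (2, 0, 984766889527719419658432883341890144),
   (2, 1, 959950365068764662914623002962507392),
   (2, 2, 972918787991705027433180282131980864)]

/-- the checks on the data for `M22` -/
def m22Check : Bool :=
  inStabP [] [23, 0] eX && inStabP [] [23, 0] eY &&
  Nat.beq (powP eX 3) idP && Nat.beq (powP eY 3) idP && Nat.beq (compP eX eY) (compP eY eX) &&
  ((List.range 3).all fun i => (List.range 3).all fun j =>
    if Nat.beq i 0 && Nat.beq j 0 then true else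
      !Nat.beq (compP idP (compP (powP eX i) (powP eY j))) (compP idP idP)) &&
  ((List.range 3).all fun i => (List.range 3).all fun j =>
    if Nat.beq i 0 && Nat.beq j 0 then true else
      eWit.any fun w => Nat.beq w.1 i && Nat.beq w.2.1 j && inStabP [] [23, 0] w.2.2 &&
        Nat.beq (compP w.2.2 eX) (compP (compP (powP eX i) (powP eY j)) w.2.2))

theorem m22Check_ok : m22Check = true := by decide +kernel

/-- an element of a Sylow subgroup for three of `M24` generating its centre -/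
def eA : ℕ := 962263681487910803909385016688316800

/-- a non-central element -/
def eB : ℕ := 568059205053166590414647525776690208

/-- a second non-central element -/
def eC : ℕ := 975244928618828927237956580592026986

/-- an element taking the non-central one to the central one -/
def eG : ℕ := 726523731143595483783607966160732810

/-- the checks on the data for `M24` -/
def m24Check : Bool :=
  isM24P eA && isM24P eB && isM24P eC && isM24P eG &&
  Nat.beq (powP eA 3) idP && Nat.beq (powP eB 3) idP && Nat.beq (powP eC 3) idP &&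
  !Nat.beq (compP idP eA) (compP idP idP) &&
  Nat.beq (compP eA eB) (compP eB eA) && Nat.beq (compP eA eC) (compP eC eA) &&
  Nat.beq (compP eB eC) (compP (compP eA eC) eB) && Nat.beq (compP eG eB) (compP eA eG)

theorem m24Check_ok : m24Check = true := by decide +kernel

theorem eq_of_codes {σ τ ρ π : Equiv.Perm GolayPt} {a b c d : ℕ} (hσ : Rep σ a) (hτ : Rep τ b)
    (hρ : Rep ρ c) (hπ : Rep π d) (h : Nat.beq (compP a b) (compP c d) = true) :
    σ * τ = ρ * π := by
  have h1 := hσ.mul hτ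
  rw [Nat.eq_of_beq_eq_true h] at h1
  exact h1.inj (hρ.mul hπ)

theorem pow_three_of_code {σ : Equiv.Perm GolayPt} {a : ℕ} (hσ : Rep σ a)
    (h : Nat.beq (powP a 3) idP = true) : σ ^ 3 = 1 := by
  have h1 := CfsgLib.Spor.Rep.pow hσ 3
  rw [Nat.eq_of_beq_eq_true h] at h1
  exact h1.inj rep_one

theorem ne_one_of_code {σ : Equiv.Perm GolayPt} {a : ℕ} (hσ : Rep σ a)
    (h : (!Nat.beq (compP idP a) (compP idP idP)) = true) : σ ≠ 1 := by
  intro e
  subst e
  have h1 : compP idP a = compP idP idP := hσ.compP_idP rep_one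
  simp [h1] at h

/-- non-commuting elements of order three of `M24` with central commutator conjugate to one of them -/
theorem M24_three_fusion : ∃ a b c g : ↥M24, a ≠ 1 ∧ a ^ 3 = 1 ∧ b ^ 3 = 1 ∧ c ^ 3 = 1 ∧
    a * b = b * a ∧ a * c = c * a ∧ b * c = a * c * b ∧ g * b * g⁻¹ = a := by
  have h := m24Check_ok
  simp only [m24Check, Bool.and_eq_true] at h
  obtain ⟨⟨⟨⟨⟨⟨⟨⟨⟨⟨⟨hA, hB⟩, hC⟩, hG⟩, hA3⟩, hB3⟩, hC3⟩, hA1⟩, hAB⟩, hAC⟩, hBC⟩, hGB⟩ := h
  obtain ⟨a, ha, ra⟩ := exists_rep_M24 hA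
  obtain ⟨b, hb, rb⟩ := exists_rep_M24 hB
  obtain ⟨c, hc, rc⟩ := exists_rep_M24 hC
  obtain ⟨g, hg, rg⟩ := exists_rep_M24 hG
  refine ⟨⟨a, ha⟩, ⟨b, hb⟩, ⟨c, hc⟩, ⟨g, hg⟩, fun e => ne_one_of_code ra hA1 (congrArg Subtype.val e),
    Subtype.ext ?_, Subtype.ext ?_, Subtype.ext ?_, Subtype.ext ?_, Subtype.ext ?_, Subtype.ext ?_,
    Subtype.ext ?_⟩
  · exact pow_three_of_code ra hA3
  · exact pow_three_of_code rb hB3
  · exact pow_three_of_code rc hC3
  · exact eq_of_codes ra rb rb ra hAB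
  · exact eq_of_codes ra rc rc ra hAC
  · exact eq_of_codes rb rc (ra.mul rc) rb hBC
  · show g * b * g⁻¹ = a
    exact mul_inv_eq_of_eq_mul (eq_of_codes rg rb ra rg hGB)

/-- all elements of order three of `M22` are conjugate -/
theorem M22_three_conj {u v : ↥Cfsg.Spor.M22} (hu : orderOf u = 3) (hv : orderOf v = 3) :
    IsConj u v := by
  haveI : Fact (Nat.Prime 3) := ⟨Nat.prime_three⟩
  have h := m22Check_ok
  simp only [m22Check, Bool.and_eq_true, List.all_eq_true, List.mem_range] at h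
  obtain ⟨⟨⟨⟨⟨⟨hX, hY⟩, hX3⟩, hY3⟩, hXY⟩, hne⟩, hwit⟩ := h
  have hprev : ([23, 0].all fun b => Nat.blt b 24) = true := rfl
  obtain ⟨X, hXm, rX⟩ := exists_stab_rep hprev hX
  obtain ⟨Y, hYm, rY⟩ := exists_stab_rep hprev hY
  rw [stabG_M22] at hXm hYm
  set x : ↥Cfsg.Spor.M22 := ⟨X, hXm⟩ with hxdef
  set y : ↥Cfsg.Spor.M22 := ⟨Y, hYm⟩ with hydef
  have hx3 : x ^ 3 = 1 := Subtype.ext (pow_three_of_code rX hX3)
  have hy3 : y ^ 3 = 1 := Subtype.ext (pow_three_of_code rY hY3)
  have hxy : Commute x y := Subtype.ext (eq_of_codes rX rY rY rX hXY)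
  have rep : ∀ i j : ℕ, Rep ((x ^ i * y ^ j : ↥Cfsg.Spor.M22) : Equiv.Perm GolayPt)
      (compP (powP eX i) (powP eY j)) := by
    intro i j
    exact (CfsgLib.Spor.Rep.pow rX i).mul (CfsgLib.Spor.Rep.pow rY j)
  have hred : ∀ i j : ℕ, x ^ i * y ^ j = x ^ (i % 3) * y ^ (j % 3) := by
    intro i j
    rw [← pow_eq_pow_mod i hx3, ← pow_eq_pow_mod j hy3]
  have hmul : ∀ i j k l : ℕ, x ^ i * y ^ j * (x ^ k * y ^ l) = x ^ (i + k) * y ^ (j + l) := by
    intro i j k l
    rw [pow_add, pow_add, mul_assoc, ← mul_assoc (y ^ j), ((hxy.pow_pow k j).symm).eq]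
    group
  let T : Subgroup ↥Cfsg.Spor.M22 :=
    { carrier := {s | ∃ i j : ℕ, s = x ^ i * y ^ j}
      one_mem' := ⟨0, 0, by simp⟩
      mul_mem' := by
        rintro _ _ ⟨i, j, rfl⟩ ⟨k, l, rfl⟩
        exact ⟨i + k, j + l, hmul i j k l⟩
      inv_mem' := by
        rintro _ ⟨i, j, rfl⟩
        refine ⟨2 * i, 2 * j, inv_eq_of_mul_eq_one_right ?_⟩
        rw [hmul, show i + 2 * i = 3 * i by ring, show j + 2 * j = 3 * j by ring, pow_mul, pow_mul,
          hx3, hy3, one_pow, one_pow, one_mul] }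
  have hone : ∀ i < 3, ∀ j < 3, x ^ i * y ^ j = 1 → i = 0 ∧ j = 0 := by
    intro i hi j hj e
    by_contra hne'
    have h1 := hne i hi j hj
    rw [if_neg (by simpa using hne')] at h1
    refine ne_one_of_code (rep i j) h1 ?_
    rw [e]; rfl
  let F : Fin 3 × Fin 3 → T := fun ij => ⟨x ^ (ij.1 : ℕ) * y ^ (ij.2 : ℕ), _, _, rfl⟩
  have hF : Function.Bijective F := by
    constructor
    · rintro ⟨i, j⟩ ⟨k, l⟩ e
      have e' : x ^ (i : ℕ) * y ^ (j : ℕ) = x ^ (k : ℕ) * y ^ (l : ℕ) := congrArg Subtype.val e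
      have h1 : x ^ (((i : ℕ) + 2 * (k : ℕ)) % 3) * y ^ (((j : ℕ) + 2 * (l : ℕ)) % 3) = 1 := by
        rw [← hred, ← hmul, e', hmul, show (k : ℕ) + 2 * (k : ℕ) = 3 * (k : ℕ) by ring,
          show (l : ℕ) + 2 * (l : ℕ) = 3 * (l : ℕ) by ring, pow_mul, pow_mul, hx3, hy3,
          one_pow, one_pow, one_mul]
      obtain ⟨e1, e2⟩ := hone _ (Nat.mod_lt _ (by norm_num)) _ (Nat.mod_lt _ (by norm_num)) h1
      refine Prod.ext (Fin.ext ?_) (Fin.ext ?_) <;> simp only <;> omega
    · rintro ⟨_, i, j, rfl⟩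
      exact ⟨(⟨i % 3, Nat.mod_lt _ (by norm_num)⟩, ⟨j % 3, Nat.mod_lt _ (by norm_num)⟩),
        Subtype.ext (hred i j).symm⟩
  have hT : Nat.card T = 3 ^ 2 := by
    rw [← Nat.card_eq_of_bijective F hF, Nat.card_prod, Nat.card_fin]
    norm_num
  have hTp : IsPGroup 3 T := IsPGroup.of_card hT
  have hidx : T.index = 49280 := by
    have h1 := T.card_mul_index
    rw [hT, natCard_M22] at h1
    omega
  let S : Sylow 3 ↥Cfsg.Spor.M22 := hTp.toSylow (by rw [hidx]; norm_num)
  have key : ∀ w : ↥Cfsg.Spor.M22, orderOf w = 3 → IsConj x w := by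
    intro w hw
    have hwp : IsPGroup 3 (Subgroup.zpowers w) :=
      IsPGroup.of_card (n := 1) (by rw [Nat.card_zpowers, hw, pow_one])
    obtain ⟨U, hU⟩ := hwp.exists_le_sylow
    obtain ⟨g, hg⟩ := MulAction.exists_smul_eq ↥Cfsg.Spor.M22 U S
    have h1 : g * w * g⁻¹ ∈ T := by
      have h1 : MulAut.conj g • w ∈ (g • U : Sylow 3 ↥Cfsg.Spor.M22) :=
        Subgroup.smul_mem_pointwise_smul _ _ _ (hU (Subgroup.mem_zpowers _))
      rw [hg] at h1
      exact h1
    obtain ⟨i, j, hij⟩ := h1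
    rw [hred] at hij
    have hi : i % 3 < 3 := Nat.mod_lt _ (by norm_num)
    have hj : j % 3 < 3 := Nat.mod_lt _ (by norm_num)
    have h2 := hwit _ hi _ hj
    have hnz : ¬ (Nat.beq (i % 3) 0 = true ∧ Nat.beq (j % 3) 0 = true) := by
      intro ⟨e1, e2⟩
      rw [Nat.eq_of_beq_eq_true e1, Nat.eq_of_beq_eq_true e2, pow_zero, pow_zero, one_mul,
        conj_eq_one_iff] at hij
      rw [hij, orderOf_one] at hw
      omega
    rw [if_neg (by simpa using hnz)] at h2
    simp only [List.any_eq_true, Bool.and_eq_true] at h2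
    obtain ⟨k, -, ⟨-, hk⟩, hke⟩ := h2
    obtain ⟨W, hWm, rW⟩ := exists_stab_rep hprev hk
    rw [stabG_M22] at hWm
    have e : W * X = ((x ^ (i % 3) * y ^ (j % 3) : ↥Cfsg.Spor.M22) : Equiv.Perm GolayPt) * W :=
      eq_of_codes rW rX (rep _ _) rW hke
    rw [← hij] at e
    have e' : (⟨W, hWm⟩ : ↥Cfsg.Spor.M22) * x = g * w * g⁻¹ * ⟨W, hWm⟩ := Subtype.ext e
    refine isConj_iff.2 ⟨g⁻¹ * ⟨W, hWm⟩, ?_⟩
    rw [mul_inv_rev, inv_inv, mul_assoc g⁻¹, e']
    group
  exact (key u hu).symm.trans (key v hv)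

/-- all automorphisms of order three of `M22` are conjugate -/
theorem autM22_three_conj {a b : MulAut ↥Cfsg.Spor.M22} (ha : orderOf a = 3) (hb : orderOf b = 3) :
    IsConj a b := by
  have hidx : (Cfsg.Inn ↥Cfsg.Spor.M22).index = 2 := by
    rw [Subgroup.index_eq_card]
    have h := M22Cert.natCard_out
    rw [stabG_M22] at h
    exact h
  have hinner : ∀ c : MulAut ↥Cfsg.Spor.M22, orderOf c = 3 →
      ∃ u : ↥Cfsg.Spor.M22, orderOf u = 3 ∧ MulAut.conj u = c := by
    intro c hc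
    have h1 : c ∈ Cfsg.Inn ↥Cfsg.Spor.M22 := by
      have h2 : (c ^ 2) ^ 2 ∈ Cfsg.Inn ↥Cfsg.Spor.M22 :=
        pow_mem (Subgroup.sq_mem_of_index_two hidx c) 2
      rwa [← pow_mul, pow_eq_pow_mod _ (hc ▸ pow_orderOf_eq_one c), show 2 * 2 % 3 = 1 by norm_num,
        pow_one] at h2
    obtain ⟨u, rfl⟩ := h1
    refine ⟨u, ?_, rfl⟩
    rw [← hc]
    refine (orderOf_injective (MulAut.conj : ↥Cfsg.Spor.M22 →* _) ?_ u).symm
    rw [← MonoidHom.ker_eq_bot_iff, Subgroup.eq_bot_iff_forall]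
    intro w hw
    refine Subtype.ext (centralizer_M22 w.2.1.1 fun s hs => ?_)
    have h3 := congrArg (fun f : MulAut ↥Cfsg.Spor.M22 => (f ⟨s, hs⟩ : Equiv.Perm GolayPt))
      (MonoidHom.mem_ker.1 hw)
    simp only [MulAut.one_apply, MulAut.conj_apply, Subgroup.coe_mul, InvMemClass.coe_inv] at h3
    exact mul_inv_eq_iff_eq_mul.1 h3
  obtain ⟨u, hu, rfl⟩ := hinner a ha
  obtain ⟨v, hv, rfl⟩ := hinner b hb
  exact MonoidHom.map_isConj MulAut.conj (M22_three_conj hu hv)

end CfsgLib.Spor.JankoFour.ThreeClassCert
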