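import Cfsg.Agent.Lib.Spor.JankoFour.ThreeLocalCert
import Cfsg.Agent.Lib.Base.Cores
import Cfsg.Prelude.Def_CaseTheorems

/-!
Preliminaries on the involution centraliser of a group of Janko-four type, and counting lemmas for
the three-local analysis.
-/

set_option autoImplicit false

namespace CfsgLib.Spor.JankoFour.ThreeLocal

open Cfsg CfsgLib.Spor

variable {G : Type*} [Group G] [Finite G]

/-- an elementary abelian two-group meeting a set without products in it -/
theorem exists_product_mem {W : Subgroup G} (hW : Cfsg.IsElementaryAbelian 2 W) {S : Finset G}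
    [DecidableEq G] (hSW : ∀ a ∈ S, a ∈ W) (hne : S.Nonempty)
    (hr : ∀ u ∈ W, u ∉ S → (S.filter fun a => a * u ∈ S).card % 3 = 0) :
    ∃ a ∈ S, ∃ b ∈ S, a * b ∈ S := by
  by_contra hcon
  push Not at hcon
  haveI : Fact (Nat.Prime 3) := ⟨Nat.prime_three⟩
  obtain ⟨u, hu⟩ := hne
  have hcomm : ∀ a ∈ W, ∀ b ∈ W, a * b = b * a := fun a ha b hb =>
    congrArg Subtype.val (hW.1.is_comm.comm ⟨a, ha⟩ ⟨b, hb⟩)
  have hsq : ∀ a ∈ W, a * a = 1 := fun a ha => by rw [← pow_two]; exact hW.2 a ha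
  set X : Finset (G × G × G) :=
    (S ×ˢ S ×ˢ S).filter fun q => q.1 * q.2.1 * q.2.2 = u with hX
  have hrot : ∀ q ∈ X, (q.2.1, q.2.2, q.1) ∈ X := by
    rintro ⟨a, b, c⟩ h
    simp only [hX, Finset.mem_filter, Finset.mem_product] at h ⊢
    obtain ⟨⟨ha, hb, hc⟩, he⟩ := h
    refine ⟨⟨hb, hc, ha⟩, ?_⟩
    rw [← hcomm a (hSW a ha) _ (mul_mem (hSW b hb) (hSW c hc)), ← mul_assoc, he]
  let f : Function.End ↥X := fun q => ⟨(q.1.2.1, q.1.2.2, q.1.1), hrot q.1 q.2⟩
  have h1 := Equiv.Perm.card_fixedPoints_modEq (p := 3) (n := 1) (f := f)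
    (by rw [pow_one, pow_succ, pow_succ, pow_one]; funext q; rfl)
  have h2 : Fintype.card (Function.fixedPoints f) = 1 := by
    rw [Fintype.card_eq_one_iff]
    have hmem : (u, u, u) ∈ X := by
      simp only [hX, Finset.mem_filter, Finset.mem_product]
      exact ⟨⟨hu, hu, hu⟩, by rw [hsq u (hSW u hu), one_mul]⟩
    refine ⟨⟨⟨(u, u, u), hmem⟩, rfl⟩, ?_⟩
    rintro ⟨⟨⟨a, b, c⟩, hq⟩, hfix⟩
    have e := congrArg Subtype.val (hfix : f ⟨(a, b, c), hq⟩ = _)
    simp only [f, Prod.mk.injEq] at e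
    obtain ⟨rfl, rfl, -⟩ := e
    simp only [hX, Finset.mem_filter, Finset.mem_product] at hq
    obtain ⟨⟨ha, -, -⟩, he⟩ := hq
    rw [hsq _ (hSW _ ha), one_mul] at he
    subst he
    rfl
  have h3 : X.card % 3 = 0 := by
    have e : X.card = ∑ c ∈ S, (X.filter fun q => q.2.2 = c).card :=
      Finset.card_eq_sum_card_fiberwise fun q hq => by
        simp only [hX, Finset.coe_filter, Set.mem_ofPred_eq, Finset.mem_product] at hq
        exact hq.1.2.2
    rw [e, Finset.sum_nat_mod, Finset.sum_eq_zero, Nat.zero_mod]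
    intro c hc
    have hcu : u * c ∈ W := mul_mem (hSW u hu) (hSW c hc)
    rw [← hr (u * c) hcu (fun h => hcon u hu c hc h)]
    congr 1
    refine Finset.card_nbij' (fun q => q.1) (fun a => (a, a * (u * c), c)) ?_ ?_ ?_ ?_
    · rintro ⟨a, b, c'⟩ hq
      simp only [hX, Finset.coe_filter, Finset.mem_filter, Set.mem_ofPred_eq, Finset.mem_product]
        at hq ⊢
      obtain ⟨⟨⟨ha, hb, -⟩, he⟩, rfl⟩ := hq
      refine ⟨ha, ?_⟩
      have : a * (u * c') = b := by
        rw [← he, mul_assoc (a * b), hsq _ (hSW _ hc), mul_one, ← mul_assoc, hsq _ (hSW _ ha),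
          one_mul]
      rw [this]; exact hb
    · intro a ha
      simp only [hX, Finset.coe_filter, Finset.mem_filter, Set.mem_ofPred_eq, Finset.mem_product]
        at ha ⊢
      refine ⟨⟨⟨ha.1, ha.2, hc⟩, ?_⟩, trivial⟩
      rw [← mul_assoc a a, hsq _ (hSW _ ha.1), one_mul, mul_assoc, hsq _ (hSW _ hc), mul_one]
    · rintro ⟨a, b, c'⟩ hq
      simp only [hX, Finset.coe_filter, Finset.mem_filter, Set.mem_ofPred_eq, Finset.mem_product]
        at hq
      obtain ⟨⟨⟨ha, -, -⟩, he⟩, rfl⟩ := hq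
      simp only [Prod.mk.injEq, true_and, and_true]
      rw [← he, mul_assoc (a * b), hsq _ (hSW _ hc), mul_one, ← mul_assoc, hsq _ (hSW _ ha),
        one_mul]
    · intro a _
      rfl
  rw [h2, Fintype.card_coe] at h1
  have h4 : X.card % 3 = 1 % 3 := h1
  omega

/-- the size of an orbit under conjugation times the stabiliser -/
theorem ncard_conjOrbit_mul (M : Subgroup G) (x : G) :
    Set.ncard {v : G | ∃ n ∈ M, n * x * n⁻¹ = v} *
      Nat.card ↥(M ⊓ Subgroup.centralizer ({x} : Set G)) = Nat.card ↥M := by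
  set S := (Subgroup.centralizer ({x} : Set G)).subgroupOf M with hS
  have hrel : ∀ a b : ↥M, (a⁻¹ * b ∈ S ↔ (a : G) * x * (a : G)⁻¹ = b * x * (b : G)⁻¹) := by
    intro a b
    rw [hS, Subgroup.mem_subgroupOf, Subgroup.mem_centralizer_singleton_iff]
    simp only [Subgroup.coe_mul, Subgroup.coe_inv]
    constructor
    · intro h
      calc (a : G) * x * (a : G)⁻¹ = a * (x * ((a : G)⁻¹ * b)) * (b : G)⁻¹ := by group
        _ = _ := by rw [← h]; group
    · intro h
      calc (a : G)⁻¹ * b * x = (a : G)⁻¹ * ((b : G) * x * (b : G)⁻¹) * b := by group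
        _ = _ := by rw [← h]; group
  let f : ↥M ⧸ S → {v : G | ∃ n ∈ M, n * x * n⁻¹ = v} := Quotient.lift
    (fun a : ↥M => (⟨(a : G) * x * (a : G)⁻¹, a, a.2, rfl⟩ : {v : G | ∃ n ∈ M, n * x * n⁻¹ = v}))
    fun a b hab => Subtype.ext ((hrel a b).1 (QuotientGroup.leftRel_apply.1 hab))
  have hf : Function.Bijective f := by
    constructor
    · intro u v
      induction u using QuotientGroup.induction_on with
      | H a => induction v using QuotientGroup.induction_on with
        | H b => exact fun e => QuotientGroup.eq.2 ((hrel a b).2 (congrArg Subtype.val e))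
    · rintro ⟨_, n, hn, rfl⟩
      exact ⟨QuotientGroup.mk (⟨n, hn⟩ : ↥M), rfl⟩
  rw [← Nat.card_coe_set_eq, ← Nat.card_congr (Equiv.ofBijective f hf),
    ← Nat.card_congr (Subgroup.subgroupOfEquivOfLe
      (inf_le_left : M ⊓ Subgroup.centralizer ({x} : Set G) ≤ M)).toEquiv,
    Subgroup.inf_subgroupOf_left, ← Subgroup.card_eq_card_quotient_mul_card_subgroup]

/-- conjugates of an elementary abelian subgroup -/
theorem elementary_map_conj {V : Subgroup G} (hV : Cfsg.IsElementaryAbelian 2 V) {m : ℕ}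
    (hc : Nat.card ↥V = m) (g : G) :
    Cfsg.IsElementaryAbelian 2 (V.map (MulAut.conj g).toMonoidHom) ∧
      Nat.card ↥(V.map (MulAut.conj g).toMonoidHom) = m := by
  refine ⟨⟨⟨⟨?_⟩⟩, ?_⟩, ?_⟩
  · rintro ⟨_, a, ha, rfl⟩ ⟨_, b, hb, rfl⟩
    refine Subtype.ext ?_
    show (MulAut.conj g).toMonoidHom a * (MulAut.conj g).toMonoidHom b = _ * _
    have e : a * b = b * a := congrArg Subtype.val (hV.1.is_comm.comm (⟨a, ha⟩ : ↥V) ⟨b, hb⟩)
    rw [← map_mul, e, map_mul]
  · rintro _ ⟨a, ha, rfl⟩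
    rw [← map_pow, hV.2 a ha, map_one]
  · rw [Subgroup.card_map_of_injective (MulAut.conj g).injective, hc]

omit [Finite G] in
theorem mem_map_conj_iff {V : Subgroup G} {g x : G} :
    x ∈ V.map (MulAut.conj g).toMonoidHom ↔ g⁻¹ * x * g ∈ V := by
  constructor
  · rintro ⟨a, ha, rfl⟩
    have : g⁻¹ * (g * a * g⁻¹) * g = a := by group
    simpa [this] using ha
  · intro h
    exact ⟨_, h, by simp [mul_assoc]⟩

omit [Finite G] in
theorem mem_normalizer_of_map_eq {V : Subgroup G} {g : G}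
    (h : V.map (MulAut.conj g).toMonoidHom = V) : g ∈ Subgroup.normalizer (V : Set G) := by
  refine Subgroup.mem_normalizer_iff.2 fun x => ?_
  conv_rhs => rw [← h, mem_map_conj_iff]
  rw [show g⁻¹ * (g * x * g⁻¹) * g = x by group]

/-- A subgroup of order 27 containing `P`, centralising it, inside the involution centraliser is not
abelian. -/
theorem not_comm_of_card {z : G} {P R : Subgroup G} (hJ : Cfsg.IsOfJankoFourTypeWith z P)
    (hR : Nat.card ↥R = 27) (hRH : R ≤ Subgroup.centralizer ({z} : Set G)) (hPR : P ≤ R)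
    (hRC : R ≤ Subgroup.centralizer (P : Set G)) : ¬ IsMulCommutative ↥R := by
  intro hab
  obtain ⟨-, -, -, -, -, hHcard, -, -⟩ := ThreeClass.exists_sylow_frame hJ _ rfl
  obtain ⟨-, -, -, -, -, hP, -, -, hPC⟩ := hJ
  haveI : Finite ↥P := inferInstance
  obtain ⟨p0, hp0, hp01⟩ : ∃ p ∈ P, p ≠ (1 : G) := by
    rcases P.bot_or_exists_ne_one with h | h
    · rw [h, Subgroup.card_bot] at hP; omega
    · exact h
  set H : Subgroup G := Subgroup.centralizer ({z} : Set G) with hH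
  set C : Subgroup G := H ⊓ Subgroup.centralizer (P : Set G) with hC
  have hRC' : R ≤ C := le_inf hRH hRC
  have hab' : IsMulCommutative ↥(R.subgroupOf C) := by
    refine ⟨⟨fun a b => ?_⟩⟩
    apply Subtype.ext
    apply Subtype.ext
    have hab2 := congrArg Subtype.val (hab.is_comm.comm (⟨((a : ↥C) : G), a.2⟩ : ↥R) ⟨((b : ↥C) : G), b.2⟩)
    simpa using hab2
  have hcop : Nat.Coprime (Nat.card ↥(R.subgroupOf C)) (R.subgroupOf C).index := by
    have h1 := (R.subgroupOf C).card_mul_index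
    have h2 : Nat.card ↥C ∣ Nat.card ↥H := Subgroup.card_dvd_of_le inf_le_left
    rw [Nat.card_congr (Subgroup.subgroupOfEquivOfLe hRC').toEquiv, hR] at h1 ⊢
    rw [← h1, hHcard] at h2
    have h3 := Nat.dvd_of_mul_dvd_mul_left (by norm_num) h2
    exact Nat.Coprime.coprime_dvd_right h3 (by norm_num)
  have h := CfsgLib.Transfer.inf_commutator_inf_center_eq_bot (R.subgroupOf C) hab' hcop
  have hp0C : p0 ∈ C := hRC' (hPR hp0)
  have hmem : (⟨p0, hp0C⟩ : ↥C) ∈ R.subgroupOf C ⊓ commutator ↥C ⊓ Subgroup.center ↥C := by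
    refine ⟨⟨hPR hp0, ?_⟩, ?_⟩
    · have h' : p0 ∈ ⁅C, C⁆ := hPC hp0
      rw [← Subgroup.map_subtype_commutator] at h'
      obtain ⟨w, hw, hwe⟩ := h'
      obtain rfl : w = ⟨p0, hp0C⟩ := Subtype.ext hwe
      exact hw
    · exact Subgroup.mem_center_iff.2 fun c =>
        Subtype.ext ((Subgroup.mem_centralizer_iff.1 c.2.2) p0 hp0).symm
  rw [h] at hmem
  exact hp01 (congrArg Subtype.val (Subgroup.mem_bot.1 hmem))

/-- the facts on the kernel `N` of the map onto `Aut M22` -/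
theorem exists_kernel_frame {z : G} {P : Subgroup G} (hJ : Cfsg.IsOfJankoFourTypeWith z P) :
    ∃ (N : Subgroup ↥(Subgroup.centralizer ({z} : Set G)))
      (φ : ↥(Subgroup.centralizer ({z} : Set G)) →* MulAut ↥Cfsg.Spor.M22),
      Function.Surjective φ ∧ φ.ker = N ∧ Nat.card ↥N = 24576 ∧
      Nat.card ↥(Subgroup.centralizer ({z} : Set G)) = 27 * 807403520 ∧
      P ≤ Subgroup.centralizer ({z} : Set G) ∧
      (∀ u : ↥(Subgroup.centralizer ({z} : Set G)), (u : G) ∈ P → φ u = 1) ∧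
      (∀ u : ↥(Subgroup.centralizer ({z} : Set G)), φ u = 1 →
        (u : G) ∈ Subgroup.normalizer (P : Set G) →
        ∃ p ∈ P, ∃ e : G, (e = 1 ∨ e = z) ∧ (u : G) = p * e) := by
  obtain ⟨hz, -, hE, -, ⟨N, hEN, hNH, -, hcard, ⟨hn, ⟨e⟩⟩, hPN⟩, hP, hfix, -⟩ := hJ
  have hNc : Nat.card ↥(N.subgroupOf (Subgroup.centralizer ({z} : Set G))) = 24576 := by
    rw [Nat.card_congr (Subgroup.subgroupOfEquivOfLe hNH).toEquiv, hcard, hE]; rfl
  refine ⟨N.subgroupOf _, e.toMonoidHom.comp (QuotientGroup.mk' _), e.surjective.comp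
    (QuotientGroup.mk'_surjective _), ?_, hNc, ?_, hPN.trans hNH, ?_, ?_⟩
  · ext u
    rw [MonoidHom.mem_ker, MonoidHom.comp_apply, MulEquiv.coe_toMonoidHom, map_eq_one_iff e e.injective,
      QuotientGroup.mk'_apply, QuotientGroup.eq_one_iff]
  · rw [Subgroup.card_eq_card_quotient_mul_card_subgroup
      (N.subgroupOf (Subgroup.centralizer ({z} : Set G))), Nat.card_congr e.toEquiv,
      ThreeClass.natCard_mulAut_M22, hNc]
  · intro u hu
    rw [MonoidHom.comp_apply, MulEquiv.coe_toMonoidHom, map_eq_one_iff e e.injective,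
      QuotientGroup.mk'_apply, QuotientGroup.eq_one_iff]
    exact hPN hu
  · intro u hu hun
    rw [MonoidHom.comp_apply, MulEquiv.coe_toMonoidHom, map_eq_one_iff e e.injective,
      QuotientGroup.mk'_apply, QuotientGroup.eq_one_iff, Subgroup.mem_subgroupOf] at hu
    set E : Subgroup G := Cfsg.twoCoreOfCentralizer z with hEdef
    have hnorm : (Subgroup.centralizer ({z} : Set G)) ≤ Subgroup.normalizer (E : Set G) := by
      intro h hh
      refine mem_normalizer_of_map_eq (Subgroup.eq_of_le_of_card_ge ?_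
        (by rw [Subgroup.card_map_of_injective (MulAut.conj h).injective]))
      rintro _ ⟨_, ⟨x, hx, rfl⟩, rfl⟩
      exact ⟨⟨h, hh⟩ * x * (⟨h, hh⟩ : ↥(Subgroup.centralizer ({z} : Set G)))⁻¹,
        (Cfsg.pCore_normal 2 ↥(Subgroup.centralizer ({z} : Set G))).conj_mem x hx _,
        rfl⟩
    have hPE : N = P ⊔ E := by
      refine (Subgroup.eq_of_le_of_card_ge (sup_le hPN hEN) ?_).symm
      rw [hcard]
      refine Nat.le_of_dvd Nat.card_pos ?_
      rw [← hP]
      exact Nat.Coprime.mul_dvd_of_dvd_of_dvd (by rw [hP, hE]; norm_num)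
        (Subgroup.card_dvd_of_le le_sup_left) (Subgroup.card_dvd_of_le le_sup_right)
    have hu' : (u : G) ∈ ((P ⊔ E : Subgroup G) : Set G) := hPE ▸ hu
    rw [Subgroup.coe_mul_of_left_le_normalizer_right P E ((hPN.trans hNH).trans hnorm)] at hu'
    obtain ⟨p, hp, x, hx, hpx⟩ := hu'
    refine ⟨p, hp, x, ?_, hpx.symm⟩
    have hxn : x ∈ Subgroup.normalizer (P : Set G) := by
      have : x = p⁻¹ * (u : G) := by rw [← hpx]; group
      rw [this]
      exact mul_mem (inv_mem (Subgroup.le_normalizer hp)) hun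
    have hxC : x ∈ Subgroup.centralizer (P : Set G) := by
      refine Subgroup.mem_centralizer_iff.2 fun q hq => ?_
      have h1 : x * q * x⁻¹ * q⁻¹ ∈ P :=
        mul_mem ((Subgroup.mem_normalizer_iff.1 hxn q).1 hq) (inv_mem hq)
      have h2 : x * q * x⁻¹ * q⁻¹ ∈ E := by
        rw [show x * q * x⁻¹ * q⁻¹ = x * (q * x⁻¹ * q⁻¹) by group]
        exact mul_mem hx ((Subgroup.mem_normalizer_iff.1 (hnorm (hNH (hPN hq))) _).1 (inv_mem hx))
      have h3 := Nat.dvd_gcd (Subgroup.orderOf_dvd_natCard P h1) (Subgroup.orderOf_dvd_natCard E h2)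
      rw [hP, hE] at h3
      have h4 : x * q * x⁻¹ * q⁻¹ = 1 := orderOf_eq_one_iff.1 (by simpa using h3)
      rw [mul_inv_eq_one, mul_inv_eq_iff_eq_mul] at h4
      exact h4.symm
    have h5 : x ∈ Subgroup.zpowers z := hfix ▸ (⟨hx, hxC⟩ : x ∈ E ⊓ Subgroup.centralizer (P : Set G))
    obtain ⟨k, rfl⟩ := Subgroup.mem_zpowers_iff.1 h5
    have hz2 : z ^ (2 : ℤ) = 1 := by
      have := pow_orderOf_eq_one z
      rw [hz] at this
      exact_mod_cast this
    rcases Int.even_or_odd' k with ⟨j, rfl | rfl⟩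
    · exact Or.inl (by rw [zpow_mul, hz2, one_zpow])
    · exact Or.inr (by rw [zpow_add, zpow_mul, hz2, one_zpow, one_mul, zpow_one])

/-- a Sylow 2-subgroup of the whole group lies in the centraliser of the involution -/
theorem exists_sylow_le {z : G} {P : Subgroup G} (hJ : Cfsg.IsOfJankoFourTypeWith z P)
    (S : Sylow 2 ↥(Subgroup.centralizer ({z} : Set G))) :
    ∃ T : Sylow 2 G, (T : Subgroup G) =
      (S : Subgroup ↥(Subgroup.centralizer ({z} : Set G))).map (Subgroup.centralizer ({z} : Set G)).subtype := by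
  haveI : Fact (Nat.Prime 2) := ⟨Nat.prime_two⟩
  obtain ⟨hz, hEs, hE, hcent, -⟩ := hJ
  set S' := (S : Subgroup ↥(Subgroup.centralizer ({z} : Set G))).map (Subgroup.centralizer ({z} : Set G)).subtype with hS'
  obtain ⟨T, hT⟩ := (S.2.map (Subgroup.centralizer ({z} : Set G)).subtype : IsPGroup 2 ↥S').exists_le_sylow
  refine ⟨T, le_antisymm ?_ hT⟩
  have hzH : z ∈ (Subgroup.centralizer ({z} : Set G)) := Subgroup.mem_centralizer_singleton_iff.2 rfl
  have hzc : ⟨z, hzH⟩ ∈ Subgroup.center ↥(Subgroup.centralizer ({z} : Set G)) := Subgroup.mem_center_iff.2 fun h =>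
    Subtype.ext (Subgroup.mem_centralizer_singleton_iff.1 h.2)
  -- the core lies in the Sylow subgroup
  have hES : Cfsg.pCore 2 ↥(Subgroup.centralizer ({z} : Set G)) ≤ (S : Subgroup ↥(Subgroup.centralizer ({z} : Set G))) :=
    CfsgLib.Base.pCore_le_sylow (p := 2) S
  have hzS : z ∈ S' := by
    refine ⟨⟨z, hzH⟩, ?_, rfl⟩
    have hz' : orderOf (⟨z, hzH⟩ : ↥(Subgroup.centralizer ({z} : Set G))) = 2 := by rw [← Subgroup.orderOf_coe]; exact hz
    have hp : IsPGroup 2 ↥(Subgroup.zpowers (⟨z, hzH⟩ : ↥(Subgroup.centralizer ({z} : Set G)))) :=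
      IsPGroup.of_card (n := 1) (by rw [Nat.card_zpowers, hz', pow_one])
    have hsup := S.2.to_sup_of_normal_right' hp
      (show (S : Subgroup ↥(Subgroup.centralizer ({z} : Set G))) ≤ Subgroup.normalizer (Subgroup.zpowers (⟨z, hzH⟩ : ↥(Subgroup.centralizer ({z} : Set G))) : Set ↥(Subgroup.centralizer ({z} : Set G))) from
        fun s _ => Subgroup.centralizer_le_normalizer _ (Subgroup.mem_centralizer_iff.2 fun w hw => by
          obtain ⟨k, rfl⟩ := Subgroup.mem_zpowers_iff.1 hw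
          exact ((Subgroup.mem_center_iff.1 (zpow_mem hzc k) s).symm)))
    exact (S.is_maximal' hsup le_sup_left) ▸ Subgroup.mem_sup_right (Subgroup.mem_zpowers _)
  haveI : Nontrivial ↥(T : Subgroup G) :=
    ⟨⟨⟨z, hT hzS⟩, 1, fun h => by
      have := congrArg Subtype.val h
      simp only [OneMemClass.coe_one] at this
      rw [this, orderOf_one] at hz
      omega⟩⟩
  haveI := T.2.center_nontrivial
  obtain ⟨⟨w, hw⟩, hw1⟩ := exists_ne (1 : ↥(Subgroup.center ↥(T : Subgroup G)))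
  have hwc : ∀ s ∈ (T : Subgroup G), s * (w : G) = w * s := fun s hs =>
    congrArg Subtype.val (Subgroup.mem_center_iff.1 hw ⟨s, hs⟩)
  have hwH : (w : G) ∈ (Subgroup.centralizer ({z} : Set G)) := Subgroup.mem_centralizer_singleton_iff.2 (hwc z (hT hzS)).symm
  have hwE : (w : G) ∈ Cfsg.twoCoreOfCentralizer z := hcent ⟨hwH,
    Subgroup.mem_centralizer_iff.2 (by
      rintro _ ⟨x, hx, rfl⟩
      exact hwc _ (hT ⟨x, hES hx, rfl⟩))⟩
  have hwz : (w : G) = z := by
    obtain ⟨⟨a, b, hab, hall⟩, -⟩ : (∃ a b : ↥(Subgroup.center ↥(Cfsg.twoCoreOfCentralizer z)), a ≠ b ∧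
        ({a, b} : Set _) = Set.univ) ∧ True := ⟨Nat.card_eq_two_iff.1 hEs.2, trivial⟩
    have hzE : z ∈ Cfsg.twoCoreOfCentralizer z := hcent ⟨hzH,
      Subgroup.mem_centralizer_iff.2 (by
        rintro _ ⟨x, -, rfl⟩
        exact (Subgroup.mem_centralizer_singleton_iff.1 x.2))⟩
    have mk : ∀ x : G, (hx : x ∈ Cfsg.twoCoreOfCentralizer z) →
        (∀ y ∈ Cfsg.twoCoreOfCentralizer z, y * x = x * y) → x ≠ 1 →
        ∃ c : ↥(Subgroup.center ↥(Cfsg.twoCoreOfCentralizer z)), ((c : ↥(Cfsg.twoCoreOfCentralizer z)) : G) = x ∧ c ≠ 1 :=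
      fun x hx h hx1 => ⟨⟨⟨x, hx⟩, Subgroup.mem_center_iff.2 fun y => Subtype.ext (h y y.2)⟩, rfl,
        fun e => hx1 (congrArg (fun c => (c.1 : G)) e)⟩
    obtain ⟨cz, hcz, hcz1⟩ := mk z hzE (fun y hy => by
      obtain ⟨x, -, rfl⟩ := hy
      exact Subgroup.mem_centralizer_singleton_iff.1 x.2) (fun e => by
        rw [e, orderOf_one] at hz; omega)
    obtain ⟨cw, hcw, hcw1⟩ := mk (w : G) hwE (fun y hy => by
      obtain ⟨x, hx, rfl⟩ := hy
      exact hwc _ (hT ⟨x, hES hx, rfl⟩)) (fun e => hw1 (Subtype.ext (Subtype.ext e)))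
    have h1 : cz = cw := by
      have hu : ∀ c, c = a ∨ c = b := fun c => by
        have := hall.symm ▸ Set.mem_univ c
        simpa using this
      rcases hu 1 with e | e <;> rcases hu cz with e1 | e1 <;> rcases hu cw with e2 | e2 <;>
        simp_all
    rw [← hcw, ← h1, hcz]
  intro s hs
  have hsH : s ∈ (Subgroup.centralizer ({z} : Set G)) := Subgroup.mem_centralizer_singleton_iff.2 (hwz ▸ hwc s hs)
  have hSH : (T : Subgroup G).subgroupOf (Subgroup.centralizer ({z} : Set G)) = (S : Subgroup ↥(Subgroup.centralizer ({z} : Set G))) :=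
    S.is_maximal' (T.2.comap_of_injective (Subgroup.centralizer ({z} : Set G)).subtype (Subgroup.centralizer ({z} : Set G)).subtype_injective) fun u hu => hT ⟨u, hu, rfl⟩
  exact ⟨⟨s, hsH⟩, hSH ▸ (hs : (⟨s, hsH⟩ : ↥(Subgroup.centralizer ({z} : Set G))).val ∈ (T : Subgroup G)), rfl⟩

end CfsgLib.Spor.JankoFour.ThreeLocal
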