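import Cfsg.Agent.Lib.Spor.Classes
import Cfsg.Agent.Lib.Spor.SixSym
import Cfsg.Agent.Lib.Spor.JankoFour.ThreeClass
import Cfsg.Agent.Lib.Spor.McLInvol.M22

/-!
Facts on the Mathieu groups for the three-local analysis of a group of Janko-four type: the
normaliser of a subgroup of order three of `M24` has order at most 2160; the involutions of `M22`
are conjugate; an elementary abelian two-subgroup of `M22` has order dividing 16.
-/

set_option autoImplicit false
set_option maxRecDepth 100000

namespace CfsgLib.Spor.JankoFour.ThreeLocalCert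

open Cfsg CfsgLib.Spor CfsgLib.MathieuOut
open scoped Pointwise

/-- the fixed points of a permutation -/
def fixSet (g : Equiv.Perm GolayPt) : Finset GolayPt := Finset.univ.filter fun p => g p = p

theorem mem_fixSet {g : Equiv.Perm GolayPt} {p : GolayPt} : p ∈ fixSet g ↔ g p = p := by
  simp [fixSet]

/-- an element of `M24` fixing six points has order dividing 48 -/
theorem orderOf_dvd_of_six {g : Equiv.Perm GolayPt} (hg : g ∈ M24) {E : Finset GolayPt}
    (hE : E.card = 6) (h : ∀ p ∈ E, g p = p) :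
    orderOf g ∣ 48 ∧ (orderOf g = 3 → ¬ ∃ o ∈ octads, E ⊆ o) := by
  classical
  let F : Subgroup (Equiv.Perm GolayPt) :=
    { carrier := {k | k ∈ M24 ∧ ∀ p ∈ E, k p = p}
      one_mem' := ⟨one_mem _, fun _ _ => rfl⟩
      mul_mem' := fun {a b} ha hb => ⟨mul_mem ha.1 hb.1, fun p hp => by
        rw [Equiv.Perm.mul_apply, hb.2 p hp, ha.2 p hp]⟩
      inv_mem' := fun {a} ha => ⟨inv_mem ha.1, fun p hp => by
        rw [Equiv.Perm.inv_eq_iff_eq, ha.2 p hp]⟩ }
  have hF : Nat.card ↥F = if (∃ o ∈ octads, E ⊆ o) then 16 else 3 := natCard_six_fix_set hE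
  have hd : orderOf g ∣ Nat.card ↥F := Subgroup.orderOf_dvd_natCard F ⟨hg, h⟩
  rw [hF] at hd
  refine ⟨?_, fun h3 ho => ?_⟩
  · split_ifs at hd
    · exact hd.trans (by norm_num)
    · exact hd.trans (by norm_num)
  · rw [if_pos ho, h3] at hd
    norm_num at hd

/-- a subgroup of order three normalised by an element of order five has a normaliser of order at
most 2160 in `M24` -/
theorem card_normalizer_three_le {Γ : Subgroup ↥M24} (hΓ : Nat.card ↥Γ = 3)
    (h5 : 5 ∣ Nat.card ↥(Subgroup.normalizer (Γ : Set ↥M24))) :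
    Nat.card ↥(Subgroup.normalizer (Γ : Set ↥M24)) ≤ 2160 := by
  classical
  haveI : Fact (Nat.Prime 3) := ⟨Nat.prime_three⟩
  haveI : Fact (Nat.Prime 5) := ⟨by norm_num⟩
  obtain ⟨X, hXΓ, hX1⟩ : ∃ X ∈ Γ, X ≠ (1 : ↥M24) := by
    rcases Γ.bot_or_exists_ne_one with h | h
    · rw [h, Subgroup.card_bot] at hΓ; omega
    · exact h
  have hX3 : X ^ 3 = 1 := ThreeClass.pow_three_eq_one_of_mem hΓ hXΓ
  have ho : orderOf (X : Equiv.Perm GolayPt) = 3 := by
    rw [Subgroup.orderOf_coe]
    exact orderOf_eq_prime hX3 hX1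
  rcases exists_ord3 X.2 ho with ⟨_, -, -, h6, -⟩ | ⟨_, -, -, h0, -⟩
  · -- six fixed points
    have hE : (fixSet (X : Equiv.Perm GolayPt)).card = 6 := h6
    have hno := (orderOf_dvd_of_six X.2 hE fun p hp => mem_fixSet.1 hp).2 ho
    have hst : Nat.card ↥(MulAction.stabilizer ↥M24 (fixSet (X : Equiv.Perm GolayPt))) = 2160 := by
      rw [natCard_six_stab hE, natCard_six_fix_set hE, if_neg hno]
    rw [← hst]
    refine Subgroup.card_le_of_le fun n hn => ?_
    have hn' : n * X * n⁻¹ ∈ Γ := (Subgroup.mem_normalizer_iff.1 hn X).1 hXΓ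
    rw [MulAction.mem_stabilizer_iff]
    refine Finset.eq_of_subset_of_card_le (fun p hp => ?_) (Finset.card_smul_finset _ _).ge
    obtain ⟨q, hq, rfl⟩ := Finset.mem_smul_finset.1 hp
    rw [mem_fixSet] at hq ⊢
    have key : ((n * X * n⁻¹ : ↥M24) : Equiv.Perm GolayPt) ((n : Equiv.Perm GolayPt) q) =
        (n : Equiv.Perm GolayPt) q := by
      simp [hq]
    show (X : Equiv.Perm GolayPt) ((n : Equiv.Perm GolayPt) q) = (n : Equiv.Perm GolayPt) q
    rcases ThreeClass.eq_pow_of_mem hΓ hXΓ hX1 hn' with e | e | e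
    · exact absurd (conj_eq_one_iff.1 e) hX1
    · rwa [e] at key
    · rw [e] at key
      have key' : (X : Equiv.Perm GolayPt) ((X : Equiv.Perm GolayPt) ((n : Equiv.Perm GolayPt) q)) =
          (n : Equiv.Perm GolayPt) q := by simpa [pow_two] using key
      have h3 : ∀ w, (X : Equiv.Perm GolayPt) ((X : Equiv.Perm GolayPt) ((X : Equiv.Perm GolayPt) w)) = w :=
        fun w => by
          have := congrArg (fun g : ↥M24 => (g : Equiv.Perm GolayPt) w) hX3
          simpa [pow_succ] using this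
      conv_lhs => rw [← key']
      exact h3 _
  · -- no fixed point
    exfalso
    obtain ⟨⟨y, hy⟩, hy5⟩ := exists_prime_orderOf_dvd_card'
      (G := ↥(Subgroup.normalizer (Γ : Set ↥M24))) 5 h5
    have hy5' : orderOf y = 5 := (Subgroup.orderOf_mk y hy).symm.trans hy5
    have hc : Commute y X := ThreeClass.commute_of_odd hΓ (by rw [hy5']; decide) hXΓ
      ((Subgroup.mem_normalizer_iff.1 hy X).1 hXΓ)
    set Y : Equiv.Perm GolayPt := (y : Equiv.Perm GolayPt) with hY
    have hY5 : Y ^ 5 = 1 := by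
      rw [hY, ← Subgroup.coe_pow, ← hy5', pow_orderOf_eq_one]; rfl
    have hm : (fixSet Y).card % 5 = 4 := by
      have h := Equiv.Perm.card_fixedPoints_modEq (p := 5) (n := 1) (f := (Y : GolayPt → GolayPt))
        (by
          funext p
          show (Y ^ (5 ^ 1)) p = p
          rw [pow_one, hY5]; rfl)
      rw [show Fintype.card GolayPt = 24 by decide] at h
      have e : Fintype.card (Function.fixedPoints (Y : GolayPt → GolayPt)) = (fixSet Y).card := by
        rw [← Fintype.card_coe]
        exact Fintype.card_congr (Equiv.subtypeEquivRight fun p => mem_fixSet.symm)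
      rw [e] at h
      exact h.symm
    have hcomm : ∀ p, (X : Equiv.Perm GolayPt) (Y p) = Y ((X : Equiv.Perm GolayPt) p) := fun p => by
      have := congrArg (fun g : ↥M24 => (g : Equiv.Perm GolayPt) p) hc.eq
      simpa using this.symm
    let f : Function.End ↥(fixSet Y) := fun p => ⟨(X : Equiv.Perm GolayPt) p, mem_fixSet.2 (by
      rw [← hcomm, mem_fixSet.1 p.2])⟩
    have h3 : (fixSet Y).card % 3 = 0 := by
      have h := Equiv.Perm.card_fixedPoints_modEq (p := 3) (n := 1) (f := f) (by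
        rw [pow_one, pow_succ, pow_succ, pow_one]
        funext p
        refine Subtype.ext ?_
        show (X : Equiv.Perm GolayPt) ((X : Equiv.Perm GolayPt) ((X : Equiv.Perm GolayPt) p)) = p
        have := congrArg (fun g : ↥M24 => (g : Equiv.Perm GolayPt) (p : GolayPt)) hX3
        simpa [f, pow_succ, Function.iterate_succ_apply] using this)
      have e : Fintype.card (Function.fixedPoints f) = 0 := Fintype.card_eq_zero_iff.2
        ⟨fun p => (card_filter_eq_zero_iff _).1 h0 _ (congrArg Subtype.val p.2)⟩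
      rw [e, Fintype.card_coe] at h
      exact h
    obtain ⟨E, hEsub, hE⟩ := Finset.exists_subset_card_eq (s := fixSet Y) (n := 6) (by omega)
    have h := (orderOf_dvd_of_six y.2 hE fun p hp => mem_fixSet.1 (hEsub hp)).1
    rw [Subgroup.orderOf_coe, hy5'] at h
    norm_num at h

/-- the involutions of `M22` are conjugate -/
theorem M22_invol_conj {u v : ↥Cfsg.Spor.M22} (hu : u * u = 1) (hu1 : u ≠ 1) (hv : v * v = 1)
    (hv1 : v ≠ 1) : IsConj u v := by
  haveI : Fact (Nat.Prime 2) := ⟨Nat.prime_two⟩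
  obtain ⟨z, hz⟩ := McLInvol.exists_mCode McLInvol.codes_ok.1
  have hp : IsPGroup 2 McLInvol.sylM := IsPGroup.of_card (n := 7) McLInvol.card_sylM
  have hidx : McLInvol.sylM.index = 3465 := by
    have h1 := McLInvol.sylM.card_mul_index
    rw [McLInvol.card_sylM, natCard_M22] at h1
    omega
  let S : Sylow 2 ↥Cfsg.Spor.M22 := hp.toSylow (by rw [hidx]; norm_num)
  have key : ∀ w : ↥Cfsg.Spor.M22, w * w = 1 → w ≠ 1 → IsConj z w := by
    intro w hw hw1
    have hwp : IsPGroup 2 (Subgroup.zpowers w) :=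
      IsPGroup.of_card (n := 1) (by rw [Nat.card_zpowers,
        orderOf_eq_prime (by rw [pow_two, hw]) hw1, pow_one])
    obtain ⟨U, hU⟩ := hwp.exists_le_sylow
    obtain ⟨g, hg⟩ := MulAction.exists_smul_eq ↥Cfsg.Spor.M22 U S
    have h1 : MulAut.conj g • w ∈ (g • U : Sylow 2 ↥Cfsg.Spor.M22) :=
      Subgroup.smul_mem_pointwise_smul _ _ _ (hU (Subgroup.mem_zpowers _))
    rw [hg] at h1
    have h2 : IsConj z (g * w * g⁻¹) := McLInvol.isConj_of_invol hz h1
      (by calc g * w * g⁻¹ * (g * w * g⁻¹) = g * (w * w) * g⁻¹ := by group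
            _ = 1 := by rw [hw]; group)
      fun e => hw1 (conj_eq_one_iff.1 e)
    exact h2.trans (isConj_iff.2 ⟨g, rfl⟩).symm
  exact (key u hu hu1).symm.trans (key v hv hv1)

/-- elementary abelian two-subgroups of `M22` have order dividing 16 -/
theorem card_dvd_sixteen {A : Subgroup ↥Cfsg.Spor.M22} (hA : ∀ a ∈ A, a * a = 1) :
    Nat.card ↥A ∣ 16 := by
  classical
  haveI : Fact (Nat.Prime 2) := ⟨Nat.prime_two⟩
  haveI := Fintype.ofFinite ↥A
  have hfix : ∀ a : ↥A, a ≠ 1 →
      (Finset.univ.filter fun p : GolayPt => ((a : ↥Cfsg.Spor.M22) : Equiv.Perm GolayPt) p = p).card = 8 := by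
    intro a ha
    have ho : orderOf ((a : ↥Cfsg.Spor.M22) : Equiv.Perm GolayPt) = 2 := by
      rw [Subgroup.orderOf_coe, Subgroup.orderOf_coe]
      exact orderOf_eq_prime (Subtype.ext (by rw [pow_two]; exact hA a a.2)) ha
    have hn : ((a : ↥Cfsg.Spor.M22) : Equiv.Perm GolayPt) none = none := (a : ↥Cfsg.Spor.M22).2.1.2
    rcases exists_invol (a : ↥Cfsg.Spor.M22).2.1.1 ho with ⟨_, -, -, h, -⟩ | ⟨_, -, -, h, -⟩
    · exact h
    · exact absurd hn ((card_filter_eq_zero_iff _).1 h none)
  let act : MulAction ↥A GolayPt :=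
    MulAction.compHom GolayPt (Cfsg.Spor.M22.subtype.comp A.subtype)
  letI := act
  have hb := MulAction.sum_card_fixedBy_eq_card_orbits_mul_card_group ↥A GolayPt
  have h24 : Fintype.card GolayPt = 24 := by decide
  have hterm : ∀ a : ↥A, Fintype.card (MulAction.fixedBy GolayPt a) = if a = 1 then 24 else 8 := by
    intro a
    split_ifs with h
    · subst h
      rw [← h24]
      refine Fintype.card_congr ⟨Subtype.val, fun p => ⟨p, one_smul _ p⟩, fun _ => rfl, fun _ => rfl⟩
    · rw [← hfix a h, ← Fintype.card_coe]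
      refine Fintype.card_congr (Equiv.subtypeEquivRight fun p => ?_)
      simp only [Finset.mem_filter, Finset.mem_univ, true_and]
      rfl
  rw [Finset.sum_congr rfl (fun a _ => hterm a)] at hb
  rw [Finset.sum_ite, Finset.sum_const, Finset.sum_const, Finset.filter_eq' Finset.univ (1 : ↥A),
    if_pos (Finset.mem_univ _), Finset.card_singleton, Finset.filter_ne' Finset.univ (1 : ↥A),
    Finset.card_erase_of_mem (Finset.mem_univ _), Finset.card_univ, smul_eq_mul, smul_eq_mul] at hb
  rw [Nat.card_eq_fintype_card]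
  have h1 : 1 ≤ Fintype.card ↥A := Fintype.card_pos
  generalize Fintype.card ↥A = n at hb h1 ⊢
  generalize Fintype.card (MulAction.orbitRel.Quotient ↥A GolayPt) = q at hb
  refine (Nat.dvd_add_left (dvd_mul_left n 8)).1 (?_ : n ∣ 16 + 8 * n)
  exact ⟨q, by rw [mul_comm n q]; omega⟩

end CfsgLib.Spor.JankoFour.ThreeLocalCert
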