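import Cfsg.Agent.Lib.Spor.JankoFour.ThreeClassCert
import Cfsg.Agent.Lib.Spor.JankoFour.ThreeLocalBase
import Cfsg.Agent.Lib.Spor.Syl3

/-!
A Sylow 3-subgroup of `M24` has exponent three; the normaliser of a Sylow 3-subgroup of `M22` has
order 72.
-/

set_option autoImplicit false
set_option maxRecDepth 100000

namespace CfsgLib.Spor.JankoFour.ThreeSylowCert

open Cfsg CfsgLib.Spor CfsgLib.MathieuOut ThreeClassCert
open scoped Pointwise

theorem syl3_cubes : ((List.range 27).all fun i =>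
    Nat.beq (CfsgLib.Spor.powP (getT 120 syl3Tbl i) 3) CfsgLib.Spor.idP) = true := by decide +kernel

theorem exists_subgroup_M24 : ∃ S : Subgroup ↥M24, Nat.card ↥S = 27 ∧ ∀ s ∈ S, s ^ 3 = 1 := by
  refine ⟨(genGroup syl3Gens).subgroupOf M24, ?_, fun s hs => Subtype.ext ?_⟩
  · rw [Nat.card_congr (Subgroup.subgroupOfEquivOfLe (genGroup_le syl3Gens)).toEquiv,
      natCard_genGroup syl3_listed]
  · obtain ⟨i, hi, hir⟩ := listed_complete syl3_listed (Subgroup.mem_subgroupOf.1 hs)
    have h := List.all_eq_true.1 syl3_cubes i (List.mem_range.2 hi)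
    exact pow_three_of_code hir h

/-- An element of order three of `M22` is inverted in `M22`, so the elements centralising it induce
even permutations on its six fixed points. -/
theorem sign_of_centralizes {X : Equiv.Perm GolayPt} (hX : X ∈ Cfsg.Spor.M22) (ho : orderOf X = 3)
    {u : Equiv.Perm GolayPt} (hu : u ∈ M24) (hc : Commute u X) :
    ∃ h : ∀ p, u p ∈ ThreeLocalCert.fixSet X ↔ p ∈ ThreeLocalCert.fixSet X,
      Equiv.Perm.sign (u.subtypePerm h) = 1 ∧ (ThreeLocalCert.fixSet X).card = 6 ∧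
      ∀ v ∈ M24, (∀ p ∈ ThreeLocalCert.fixSet X, v p = p) → v ^ 3 = 1 ∧ (v = 1 ∨ v = X ∨ v = X ^ 2) := by
  classical
  haveI : Fact (Nat.Prime 3) := ⟨Nat.prime_three⟩
  set E := ThreeLocalCert.fixSet X with hEdef
  have hE : E.card = 6 := by
    rcases exists_ord3 hX.1.1 ho with ⟨_, -, -, h6, -⟩ | ⟨_, -, -, h0, -⟩
    · exact h6
    · exact absurd hX.1.2 ((card_filter_eq_zero_iff _).1 h0 none)
  have hno := (ThreeLocalCert.orderOf_dvd_of_six hX.1.1 hE fun p hp => ThreeLocalCert.mem_fixSet.1 hp).2 ho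
  -- the pointwise stabiliser
  let F : Subgroup (Equiv.Perm GolayPt) :=
    { carrier := {k | k ∈ M24 ∧ ∀ p ∈ E, k p = p}
      one_mem' := ⟨one_mem _, fun _ _ => rfl⟩
      mul_mem' := fun {a b} ha hb => ⟨mul_mem ha.1 hb.1, fun p hp => by
        rw [Equiv.Perm.mul_apply, hb.2 p hp, ha.2 p hp]⟩
      inv_mem' := fun {a} ha => ⟨inv_mem ha.1, fun p hp => by
        rw [Equiv.Perm.inv_eq_iff_eq, ha.2 p hp]⟩ }
  have hF : Nat.card ↥F = 3 := by
    have h : Nat.card ↥F = if (∃ o ∈ octads, E ⊆ o) then 16 else 3 := natCard_six_fix_set hE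
    rwa [if_neg hno] at h
  have hXF : X ∈ F := ⟨hX.1.1, fun p hp => ThreeLocalCert.mem_fixSet.1 hp⟩
  have hX1 : X ≠ 1 := fun e => by rw [e, orderOf_one] at ho; omega
  have hfix : ∀ v ∈ M24, (∀ p ∈ E, v p = p) → v ^ 3 = 1 ∧ (v = 1 ∨ v = X ∨ v = X ^ 2) := fun v hv h =>
    ⟨ThreeClass.pow_three_eq_one_of_mem hF (show v ∈ F from ⟨hv, h⟩),
      ThreeClass.eq_pow_of_mem hF hXF hX1 (show v ∈ F from ⟨hv, h⟩)⟩
  -- the setwise stabiliser
  let St : Subgroup (Equiv.Perm GolayPt) :=
    { carrier := {k | k ∈ M24 ∧ ∀ p, k p ∈ E ↔ p ∈ E}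
      one_mem' := ⟨one_mem _, fun _ => Iff.rfl⟩
      mul_mem' := fun {a b} ha hb => ⟨mul_mem ha.1 hb.1, fun p => by
        rw [Equiv.Perm.mul_apply, ha.2, hb.2]⟩
      inv_mem' := fun {a} ha => ⟨inv_mem ha.1, fun p => by
        conv_rhs => rw [show p = a (a⁻¹ p) by simp]
        rw [ha.2]⟩ }
  let ρ : ↥St →* Equiv.Perm ↥E :=
    { toFun := fun m => (m : Equiv.Perm GolayPt).subtypePerm (p := fun p => p ∈ E) m.2.2
      map_one' := Equiv.ext fun p => Subtype.ext rfl
      map_mul' := fun a b => Equiv.ext fun p => Subtype.ext rfl }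
  have hsur : Function.Surjective ρ := by
    intro σ
    obtain ⟨g, hg, h⟩ := six_induces hE σ
    have hgE : ∀ p, g p ∈ E ↔ p ∈ E := by
      intro p
      constructor
      · intro hp
        obtain ⟨q, hq⟩ := σ.surjective ⟨g p, hp⟩
        have e : g (q : GolayPt) = g p := by rw [h q, hq]
        rw [← g.injective e]
        exact q.2
      · intro hp
        rw [h ⟨p, hp⟩]
        exact (σ ⟨p, hp⟩).2
    exact ⟨⟨g, hg, hgE⟩, Equiv.ext fun p => Subtype.ext (h p)⟩
  have hconj : ∀ m : ↥St, (m : Equiv.Perm GolayPt) * X * (m : Equiv.Perm GolayPt)⁻¹ = X ∨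
      (m : Equiv.Perm GolayPt) * X * (m : Equiv.Perm GolayPt)⁻¹ = X ^ 2 := by
    intro m
    have h1 := (hfix _ (mul_mem (mul_mem m.2.1 hX.1.1) (inv_mem m.2.1)) fun p hp => by
      have hq : (m : Equiv.Perm GolayPt)⁻¹ p ∈ E := by
        rw [← m.2.2]
        simpa using hp
      show (m : Equiv.Perm GolayPt) (X ((m : Equiv.Perm GolayPt)⁻¹ p)) = p
      rw [ThreeLocalCert.mem_fixSet.1 hq]
      simp).2
    rcases h1 with h | h | h
    · exact absurd (conj_eq_one_iff.1 h) hX1
    · exact Or.inl h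
    · exact Or.inr h
  -- an inverting element
  have ho' : orderOf (⟨X, hX⟩ : ↥Cfsg.Spor.M22) = 3 := by rw [Subgroup.orderOf_mk]; exact ho
  obtain ⟨g, hg⟩ := isConj_iff.1 (ThreeClassCert.M22_three_conj ho'
    (show orderOf ((⟨X, hX⟩ : ↥Cfsg.Spor.M22) ^ 2) = 3 by
      rw [Nat.Coprime.orderOf_pow (by rw [ho']; norm_num)]; exact ho'))
  have hg' : (g : Equiv.Perm GolayPt) * X * (g : Equiv.Perm GolayPt)⁻¹ = X ^ 2 := congrArg Subtype.val hg
  have hmov : ∀ (w : Equiv.Perm GolayPt) (k : ℕ), (k = 1 ∨ k = 2) → w * X * w⁻¹ = X ^ k →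
      ∀ p, w p ∈ E ↔ p ∈ E := by
    intro w k hk hw p
    have hX3 : ∀ q, X (X (X q)) = q := fun q => by
      have := congrArg (fun f : Equiv.Perm GolayPt => f q) (ho ▸ pow_orderOf_eq_one X : X ^ 3 = 1)
      simpa [pow_succ] using this
    have e : (X ^ k) (w p) = w (X p) := by rw [← hw]; simp
    rw [ThreeLocalCert.mem_fixSet, ThreeLocalCert.mem_fixSet]
    rcases hk with rfl | rfl
    · rw [pow_one] at e
      rw [e]
      exact w.injective.eq_iff
    · rw [pow_two, Equiv.Perm.mul_apply] at e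
      constructor
      · intro h
        rw [h, h] at e
        exact (w.injective e).symm
      · intro h
        rw [h] at e
        have h2 := congrArg X e
        rw [hX3] at h2
        exact h2.symm
  have hgE := hmov _ 2 (Or.inr rfl) hg'
  have hucX : u * X * u⁻¹ = X ^ 1 := by rw [pow_one, hc.eq, mul_inv_cancel_right]
  have huE := hmov _ 1 (Or.inl rfl) hucX
  -- the centraliser inside the stabiliser has index two
  set C1 : Subgroup ↥St := (Subgroup.centralizer ({X} : Set (Equiv.Perm GolayPt))).subgroupOf St with hC1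
  have hC1mem : ∀ m : ↥St, m ∈ C1 ↔ (m : Equiv.Perm GolayPt) * X * (m : Equiv.Perm GolayPt)⁻¹ = X := by
    intro m
    rw [hC1, Subgroup.mem_subgroupOf, Subgroup.mem_centralizer_singleton_iff, mul_inv_eq_iff_eq_mul]
  have hne : X ^ 2 ≠ X := fun e => hX1 (by rwa [pow_two, mul_eq_left] at e)
  have hidx : C1.index = 2 := by
    refine Subgroup.index_eq_two_iff.2 ⟨⟨g, g.2.1.1, hgE⟩, fun b => ?_⟩
    rw [xor_def, hC1mem, hC1mem]
    rcases hconj b with hb | hb
    · refine Or.inr ⟨hb, fun h => hne ?_⟩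
      simp only [Subgroup.coe_mul, mul_inv_rev] at h
      have : (b : Equiv.Perm GolayPt) * ((g : Equiv.Perm GolayPt) * X * (g : Equiv.Perm GolayPt)⁻¹) *
          (b : Equiv.Perm GolayPt)⁻¹ = X := by simpa [mul_assoc] using h
      rw [hg', ← conj_pow, hb] at this
      exact this
    · refine Or.inl ⟨?_, fun h => hne (hb.symm.trans h)⟩
      simp only [Subgroup.coe_mul, mul_inv_rev]
      calc (b : Equiv.Perm GolayPt) * (g : Equiv.Perm GolayPt) * X *
          ((g : Equiv.Perm GolayPt)⁻¹ * (b : Equiv.Perm GolayPt)⁻¹)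
          = (b : Equiv.Perm GolayPt) * ((g : Equiv.Perm GolayPt) * X * (g : Equiv.Perm GolayPt)⁻¹) *
            (b : Equiv.Perm GolayPt)⁻¹ := by group
        _ = (X ^ 2) ^ 2 := by rw [hg', ← conj_pow, hb]
        _ = X := by
          rw [← pow_mul, show 2 * 2 = 3 + 1 by norm_num, pow_succ, ← ho, pow_orderOf_eq_one, one_mul]
  have hker : ρ.ker ≤ C1 := by
    intro m hm
    rw [hC1mem]
    have h1 := (hfix _ m.2.1 fun p hp =>
      congrArg Subtype.val (Equiv.congr_fun (MonoidHom.mem_ker.1 hm) ⟨p, hp⟩)).2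
    have hcm : Commute (m : Equiv.Perm GolayPt) X := by
      rcases h1 with h | h | h <;> rw [h]
      · exact Commute.one_left X
      · exact (Commute.refl X).pow_left 2
    rw [hcm.eq, mul_inv_cancel_right]
  have halt : C1.map ρ = alternatingGroup ↥E :=
    Equiv.Perm.eq_alternatingGroup_of_index_eq_two
      (by rw [Subgroup.index_map_eq _ hsur hker]; exact hidx)
  refine ⟨huE, ?_, hE, hfix⟩
  have hm : ρ ⟨u, hu, huE⟩ ∈ C1.map ρ := ⟨_, (hC1mem _).2 (hucX.trans (pow_one X)), rfl⟩
  rw [halt] at hm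
  exact Equiv.Perm.mem_alternatingGroup.1 hm

theorem card_normalizer_sylow {T : Subgroup ↥Cfsg.Spor.M22} (hT9 : Nat.card ↥T = 9) :
    Nat.card ↥(Subgroup.normalizer (T : Set ↥Cfsg.Spor.M22)) = 72 := by
  classical
  haveI : Fact (Nat.Prime 3) := ⟨Nat.prime_three⟩
  have h := m22Check_ok
  simp only [m22Check, Bool.and_eq_true, List.all_eq_true, List.mem_range] at h
  obtain ⟨⟨⟨⟨⟨⟨hX, hY⟩, hX3⟩, hY3⟩, hXY⟩, hne⟩, -⟩ := h
  have hprev : ([23, 0].all fun b => Nat.blt b 24) = true := rfl
  obtain ⟨X, hXm, rX⟩ := exists_stab_rep hprev hX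
  obtain ⟨Y, hYm, rY⟩ := exists_stab_rep hprev hY
  rw [stabG_M22] at hXm hYm
  set x : ↥Cfsg.Spor.M22 := ⟨X, hXm⟩ with hxdef
  set y : ↥Cfsg.Spor.M22 := ⟨Y, hYm⟩ with hydef
  have hx3 : x ^ 3 = 1 := Subtype.ext (pow_three_of_code rX hX3)
  have hy3 : y ^ 3 = 1 := Subtype.ext (pow_three_of_code rY hY3)
  have hxy : Commute x y := Subtype.ext (eq_of_codes rX rY rY rX hXY)
  have rep : ∀ i j : ℕ, Rep ((x ^ i * y ^ j : ↥Cfsg.Spor.M22) : Equiv.Perm GolayPt)
      (compP (CfsgLib.Spor.powP eX i) (CfsgLib.Spor.powP eY j)) := fun i j =>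
    (CfsgLib.Spor.Rep.pow rX i).mul (CfsgLib.Spor.Rep.pow rY j)
  have hred : ∀ i j : ℕ, x ^ i * y ^ j = x ^ (i % 3) * y ^ (j % 3) := by
    intro i j
    rw [← pow_eq_pow_mod i hx3, ← pow_eq_pow_mod j hy3]
  have hmul : ∀ i j k l : ℕ, x ^ i * y ^ j * (x ^ k * y ^ l) = x ^ (i + k) * y ^ (j + l) := by
    intro i j k l
    rw [pow_add, pow_add, mul_assoc, ← mul_assoc (y ^ j), ((hxy.pow_pow k j).symm).eq]
    group
  let T0 : Subgroup ↥Cfsg.Spor.M22 :=
    { carrier := {s | ∃ i j : ℕ, s = x ^ i * y ^ j}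
      one_mem' := ⟨0, 0, by simp⟩
      mul_mem' := by
        rintro _ _ ⟨i, j, rfl⟩ ⟨k, l, rfl⟩
        exact ⟨i + k, j + l, hmul i j k l⟩
      inv_mem' := by
        rintro _ ⟨i, j, rfl⟩
        refine ⟨2 * i, 2 * j, inv_eq_of_mul_eq_one_right ?_⟩
        rw [hmul, show i + 2 * i = 3 * i by ring, show j + 2 * j = 3 * j by ring, pow_mul, pow_mul,
          hx3, hy3, one_pow, one_pow, one_mul] }
  have hone : ∀ i < 3, ∀ j < 3, x ^ i * y ^ j = 1 → i = 0 ∧ j = 0 := by
    intro i hi j hj e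
    by_contra hne'
    have h1 := hne i hi j hj
    rw [if_neg (by simpa using hne')] at h1
    refine ne_one_of_code (rep i j) h1 ?_
    rw [e]; rfl
  have hT0 : Nat.card ↥T0 = 9 := by
    let F : Fin 3 × Fin 3 → T0 := fun ij => ⟨x ^ (ij.1 : ℕ) * y ^ (ij.2 : ℕ), _, _, rfl⟩
    have hF : Function.Bijective F := by
      constructor
      · rintro ⟨i, j⟩ ⟨k, l⟩ e
        have e' : x ^ (i : ℕ) * y ^ (j : ℕ) = x ^ (k : ℕ) * y ^ (l : ℕ) := congrArg Subtype.val e
        have h1 : x ^ (((i : ℕ) + 2 * (k : ℕ)) % 3) * y ^ (((j : ℕ) + 2 * (l : ℕ)) % 3) = 1 := by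
          rw [← hred, ← hmul, e', hmul, show (k : ℕ) + 2 * (k : ℕ) = 3 * (k : ℕ) by ring,
            show (l : ℕ) + 2 * (l : ℕ) = 3 * (l : ℕ) by ring, pow_mul, pow_mul, hx3, hy3,
            one_pow, one_pow, one_mul]
        obtain ⟨e1, e2⟩ := hone _ (Nat.mod_lt _ (by norm_num)) _ (Nat.mod_lt _ (by norm_num)) h1
        refine Prod.ext (Fin.ext ?_) (Fin.ext ?_) <;> simp only <;> omega
      · rintro ⟨_, i, j, rfl⟩
        exact ⟨(⟨i % 3, Nat.mod_lt _ (by norm_num)⟩, ⟨j % 3, Nat.mod_lt _ (by norm_num)⟩),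
          Subtype.ext (hred i j).symm⟩
    rw [← Nat.card_eq_of_bijective F hF, Nat.card_prod, Nat.card_fin]
  have hx1 : x ≠ 1 := fun e => by
    have := (hone 1 (by norm_num) 0 (by norm_num) (by rw [pow_one, pow_zero, mul_one, e])).1
    omega
  have hxT : x ∈ T0 := ⟨1, 0, by simp⟩
  have hyT : y ∈ T0 := ⟨0, 1, by simp⟩
  have hab : ∀ a ∈ T0, ∀ b ∈ T0, a * b = b * a := by
    rintro _ ⟨i, j, rfl⟩ _ ⟨k, l, rfl⟩
    rw [hmul, hmul, add_comm i, add_comm j]
  -- fusion inside the normaliser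
  set N := Subgroup.normalizer (T0 : Set ↥Cfsg.Spor.M22) with hN
  have hidx : T0.index = 49280 := by
    have h1 := T0.card_mul_index
    rw [hT0, natCard_M22] at h1
    omega
  have hT0p : IsPGroup 3 ↥T0 := IsPGroup.of_card (n := 2) (by rw [hT0]; norm_num)
  let S : Sylow 3 ↥Cfsg.Spor.M22 := hT0p.toSylow (by rw [hidx]; norm_num)
  have horb : {v : ↥Cfsg.Spor.M22 | ∃ n ∈ N, n * x * n⁻¹ = v} = (T0 : Set _) \ {1} := by
    ext v
    constructor
    · rintro ⟨n, hn, rfl⟩
      exact ⟨(Subgroup.mem_normalizer_iff.1 hn x).1 hxT, fun e => hx1 (conj_eq_one_iff.1 e)⟩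
    · rintro ⟨hv, hv1⟩
      have hv3 : orderOf v = 3 := by
        obtain ⟨i, j, rfl⟩ := (hv : v ∈ T0)
        refine orderOf_eq_prime ?_ hv1
        rw [((hxy.pow_pow i j)).mul_pow, ← pow_mul, ← pow_mul, mul_comm i, mul_comm j, pow_mul, pow_mul,
          hx3, hy3, one_pow, one_pow, one_mul]
      obtain ⟨g, hg⟩ := isConj_iff.1 (ThreeClassCert.M22_three_conj (orderOf_eq_prime hx3 hx1) hv3)
      set C := Subgroup.centralizer ({v} : Set ↥Cfsg.Spor.M22) with hC
      have h1 : T0 ≤ C := fun t ht => Subgroup.mem_centralizer_singleton_iff.2 (hab t ht v hv)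
      have h2 : T0.map (MulAut.conj g).toMonoidHom ≤ C := by
        rintro _ ⟨t, ht, rfl⟩
        refine Subgroup.mem_centralizer_singleton_iff.2 ?_
        show g * t * g⁻¹ * v = v * (g * t * g⁻¹)
        rw [← hg]
        calc g * t * g⁻¹ * (g * x * g⁻¹) = g * (t * x) * g⁻¹ := by group
          _ = _ := by rw [hab t ht x hxT]; group
      have hdvd : ∀ U : Subgroup ↥Cfsg.Spor.M22, U ≤ C → Nat.card ↥U = 9 →
          ¬ 3 ∣ (U.subgroupOf C).index := by
        intro U hU hU9 h3
        have e1 := (U.subgroupOf C).card_mul_index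
        rw [Nat.card_congr (Subgroup.subgroupOfEquivOfLe hU).toEquiv, hU9] at e1
        have e2 := Subgroup.card_subgroup_dvd_card C
        rw [← e1, natCard_M22] at e2
        exact absurd ((mul_dvd_mul_left 9 h3).trans e2) (by norm_num)
      have hgc : Nat.card ↥(T0.map (MulAut.conj g).toMonoidHom) = 9 := by
        rw [Subgroup.card_map_of_injective (MulAut.conj g).injective, hT0]
      let S1 : Sylow 3 ↥C := (IsPGroup.of_card (n := 2) (by
        rw [Nat.card_congr (Subgroup.subgroupOfEquivOfLe h2).toEquiv, hgc]; norm_num)).toSylow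
          (hdvd _ h2 hgc)
      let S2 : Sylow 3 ↥C := (IsPGroup.of_card (n := 2) (by
        rw [Nat.card_congr (Subgroup.subgroupOfEquivOfLe h1).toEquiv, hT0]; norm_num)).toSylow
          (hdvd _ h1 hT0)
      obtain ⟨c, hc⟩ := MulAction.exists_smul_eq ↥C S1 S2
      refine ⟨c * g, ThreeLocal.mem_normalizer_of_map_eq (Subgroup.eq_of_le_of_card_ge ?_
        (by rw [Subgroup.card_map_of_injective (MulAut.conj ((c : ↥Cfsg.Spor.M22) * g)).injective])), ?_⟩
      · rintro _ ⟨t, ht, rfl⟩
        have hm : MulAut.conj c • (⟨g * t * g⁻¹, h2 ⟨t, ht, rfl⟩⟩ : ↥C) ∈ (c • S1 : Sylow 3 ↥C) :=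
          Subgroup.smul_mem_pointwise_smul _ _ _ (show g * t * g⁻¹ ∈ T0.map (MulAut.conj g).toMonoidHom
            from ⟨t, ht, rfl⟩)
        rw [hc] at hm
        have hm' : (c : ↥Cfsg.Spor.M22) * (g * t * g⁻¹) * (c : ↥Cfsg.Spor.M22)⁻¹ ∈ T0 := hm
        show (c : ↥Cfsg.Spor.M22) * g * t * ((c : ↥Cfsg.Spor.M22) * g)⁻¹ ∈ T0
        simpa [mul_assoc] using hm'
      · have := Subgroup.mem_centralizer_singleton_iff.1 c.2
        calc (c : ↥Cfsg.Spor.M22) * g * x * ((c : ↥Cfsg.Spor.M22) * g)⁻¹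
            = (c : ↥Cfsg.Spor.M22) * (g * x * g⁻¹) * (c : ↥Cfsg.Spor.M22)⁻¹ := by group
          _ = v := by rw [hg, this, mul_inv_cancel_right]
  have h8 : ((T0 : Set ↥Cfsg.Spor.M22) \ {1}).ncard = 8 := by
    rw [Set.ncard_diff_singleton_of_mem T0.one_mem, ← Nat.card_coe_set_eq]
    show Nat.card ↥T0 - 1 = 8
    rw [hT0]
  have hcard := ThreeLocal.ncard_conjOrbit_mul N x
  rw [horb, h8] at hcard
  have hlow : T0 ≤ N ⊓ Subgroup.centralizer ({x} : Set ↥Cfsg.Spor.M22) :=
    le_inf Subgroup.le_normalizer fun t ht => Subgroup.mem_centralizer_singleton_iff.2 (hab t ht x hxT)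
  have hup : Nat.card ↥(N ⊓ Subgroup.centralizer ({x} : Set ↥Cfsg.Spor.M22)) ≤ 9 := by
    set A := N ⊓ Subgroup.centralizer ({x} : Set ↥Cfsg.Spor.M22) with hA
    have hxo : orderOf X = 3 := by
      rw [show X = ((x : ↥Cfsg.Spor.M22) : Equiv.Perm GolayPt) from rfl, Subgroup.orderOf_coe]
      exact orderOf_eq_prime hx3 hx1
    set E := ThreeLocalCert.fixSet X with hE
    have hcomm : ∀ a : ↥A, Commute ((a : ↥Cfsg.Spor.M22) : Equiv.Perm GolayPt) X := fun a =>
      congrArg Subtype.val (Subgroup.mem_centralizer_singleton_iff.1 a.2.2)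
    have hdata := fun a : ↥A =>
      sign_of_centralizes hXm hxo (a : ↥Cfsg.Spor.M22).2.1.1 (hcomm a)
    choose hmem hsign hE6 hfix using hdata
    have hpts : (none : GolayPt) ∈ E ∧ (some 0 : GolayPt) ∈ E :=
      ⟨ThreeLocalCert.mem_fixSet.2 hXm.1.2, ThreeLocalCert.mem_fixSet.2 hXm.2⟩
    -- the four remaining fixed points
    set E4 : Finset GolayPt := (E.erase none).erase (some 0) with hE4
    have hE4c : E4.card = 4 := by
      rw [hE4, Finset.card_erase_of_mem (Finset.mem_erase.2 ⟨by simp, hpts.2⟩),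
        Finset.card_erase_of_mem hpts.1, hE6 1]
    have hE4mem : ∀ (a : ↥A) (p : GolayPt),
        ((a : ↥Cfsg.Spor.M22) : Equiv.Perm GolayPt) p ∈ E4 ↔ p ∈ E4 := by
      intro a p
      have hn : ((a : ↥Cfsg.Spor.M22) : Equiv.Perm GolayPt) none = none := (a : ↥Cfsg.Spor.M22).2.1.2
      have h0 : ((a : ↥Cfsg.Spor.M22) : Equiv.Perm GolayPt) (some 0) = some 0 :=
        (a : ↥Cfsg.Spor.M22).2.2
      simp only [hE4, Finset.mem_erase]
      constructor
      · rintro ⟨h1, h2, h3⟩
        exact ⟨fun e => h1 (e ▸ h0), fun e => h2 (e ▸ hn), (hmem a p).1 h3⟩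
      · rintro ⟨h1, h2, h3⟩
        exact ⟨fun e => h1 (Equiv.injective _ (e.trans h0.symm)),
          fun e => h2 (Equiv.injective _ (e.trans hn.symm)), (hmem a p).2 h3⟩
    let π : ↥A →* Equiv.Perm ↥E4 :=
      { toFun := fun a => ((a : ↥Cfsg.Spor.M22) : Equiv.Perm GolayPt).subtypePerm (hE4mem a)
        map_one' := Equiv.ext fun p => Subtype.ext rfl
        map_mul' := fun a b => Equiv.ext fun p => Subtype.ext rfl }
    have hker : ∀ a : ↥A, π a = 1 → ∀ p ∈ E, ((a : ↥Cfsg.Spor.M22) : Equiv.Perm GolayPt) p = p := by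
      intro a ha p hp
      by_cases h1 : p = none
      · subst h1; exact (a : ↥Cfsg.Spor.M22).2.1.2
      by_cases h2 : p = some 0
      · subst h2; exact (a : ↥Cfsg.Spor.M22).2.2
      exact congrArg Subtype.val (Equiv.congr_fun ha ⟨p, Finset.mem_erase.2 ⟨h2, Finset.mem_erase.2 ⟨h1, hp⟩⟩⟩)
    have hkcard : Nat.card ↥π.ker ∣ 3 := by
      have hle : Nat.card ↥π.ker ≤ 3 := by
        refine (Nat.card_le_card_of_injective (α := ↥π.ker) (β := ↥(Subgroup.zpowers x))
          (fun a => ⟨((a : ↥A) : ↥Cfsg.Spor.M22), ?_⟩)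
          fun a b e => Subtype.ext (Subtype.ext (by simpa using congrArg Subtype.val e))).trans ?_
        · rcases (hfix a.1 _ (a.1 : ↥Cfsg.Spor.M22).2.1.1 (hker a.1 a.2)).2 with h | h | h
          · rw [show ((a : ↥A) : ↥Cfsg.Spor.M22) = 1 from Subtype.ext h]; exact one_mem _
          · rw [show ((a : ↥A) : ↥Cfsg.Spor.M22) = x from Subtype.ext h]
            exact Subgroup.mem_zpowers _
          · rw [show ((a : ↥A) : ↥Cfsg.Spor.M22) = x ^ 2 from Subtype.ext h]
            exact pow_mem (Subgroup.mem_zpowers _) _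
        · rw [Nat.card_zpowers, orderOf_eq_prime hx3 hx1]
      have hpos : 3 ∣ Nat.card ↥π.ker := by
        have hxA : x ∈ A := hlow hxT
        have hxk : (⟨x, hxA⟩ : ↥A) ∈ π.ker := MonoidHom.mem_ker.2 (Equiv.ext fun p => Subtype.ext
          (ThreeLocalCert.mem_fixSet.1 (Finset.mem_of_mem_erase (Finset.mem_of_mem_erase p.2))))
        have := Subgroup.orderOf_dvd_natCard π.ker hxk
        rwa [Subgroup.orderOf_mk, orderOf_eq_prime hx3 hx1] at this
      have := Nat.le_of_dvd Nat.card_pos hpos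
      rw [show Nat.card ↥π.ker = 3 by omega]
    -- no involution
    have hodd : ¬ 2 ∣ Nat.card ↥A := by
      intro h2
      haveI : Fact (Nat.Prime 2) := ⟨Nat.prime_two⟩
      obtain ⟨w, hw⟩ := exists_prime_orderOf_dvd_card' 2 h2
      set W : Equiv.Perm GolayPt := ((w : ↥Cfsg.Spor.M22) : Equiv.Perm GolayPt) with hW
      have hw2 : W * W = 1 := by
        have := pow_orderOf_eq_one w
        rw [hw, pow_two] at this
        exact congrArg (fun a : ↥A => ((a : ↥Cfsg.Spor.M22) : Equiv.Perm GolayPt)) this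
      set σ := W.subtypePerm (hmem w) with hσ
      have hσ1 : σ ≠ 1 := by
        intro e
        have h1 := (hfix w W (w : ↥Cfsg.Spor.M22).2.1.1 fun p hp =>
          congrArg Subtype.val (Equiv.congr_fun e ⟨p, hp⟩)).1
        rw [pow_succ, pow_two, hw2, one_mul] at h1
        have hone' : w = 1 := Subtype.ext (Subtype.ext h1)
        rw [hone', orderOf_one] at hw
        omega
      have hσ2 : σ ^ 2 = 1 := by
        rw [pow_two]
        exact Equiv.ext fun p => Subtype.ext
          (congrArg (fun f : Equiv.Perm GolayPt => f (p : GolayPt)) hw2)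
      -- a fixed point of `y` among the four
      have hyA : y ∈ A := hlow hyT
      set yA : ↥A := ⟨y, hyA⟩ with hyA'
      let fy : Function.End ↥E4 := fun p => π yA p
      have hy4 := Equiv.Perm.card_fixedPoints_modEq (p := 3) (n := 1) (f := fy) (by
        rw [pow_one, pow_succ, pow_succ, pow_one]
        funext p
        have h := congrArg π (show yA ^ 3 = 1 from Subtype.ext hy3)
        rw [map_pow, map_one] at h
        have h' := Equiv.congr_fun h p
        show π yA (π yA (π yA p)) = p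
        simpa [pow_succ] using h')
      rw [Fintype.card_coe, hE4c] at hy4
      obtain ⟨⟨q, hq⟩⟩ : Nonempty ↥(Function.fixedPoints fy) := by
        rw [← Fintype.card_pos_iff]
        by_contra h0
        rw [Nat.ModEq] at hy4
        omega
      -- fixed points of `σ`
      have hsupp : σ.support.card = 4 := by
        have hs : σ.support.card ≠ 0 := fun h => hσ1 (Equiv.Perm.support_eq_empty_iff.1 (Finset.card_eq_zero.1 h))
        have hle : σ.support.card ≤ 4 := by
          have hsub : σ.support ⊆ Finset.univ.filter fun p : ↥E => (p : GolayPt) ≠ none ∧ (p : GolayPt) ≠ some 0 := by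
            intro p hp
            rw [Equiv.Perm.mem_support] at hp
            refine Finset.mem_filter.2 ⟨Finset.mem_univ _, fun e => hp (Subtype.ext ?_), fun e => hp (Subtype.ext ?_)⟩
            · show W p = p
              rw [e]; exact (w : ↥Cfsg.Spor.M22).2.1.2
            · show W p = p
              rw [e]; exact (w : ↥Cfsg.Spor.M22).2.2
          refine (Finset.card_le_card hsub).trans (le_of_eq ?_)
          rw [← hE4c]
          refine Finset.card_bij (fun p _ => (p : GolayPt)) ?_ ?_ ?_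
          · intro p hp
            obtain ⟨-, h1, h2⟩ := Finset.mem_filter.1 hp
            exact Finset.mem_erase.2 ⟨h2, Finset.mem_erase.2 ⟨h1, p.2⟩⟩
          · intro p _ p' _ e; exact Subtype.ext e
          · intro p hp
            obtain ⟨h2, hp'⟩ := Finset.mem_erase.1 hp
            obtain ⟨h1, hp''⟩ := Finset.mem_erase.1 hp'
            exact ⟨⟨p, hp''⟩, Finset.mem_filter.2 ⟨Finset.mem_univ _, h1, h2⟩, rfl⟩
        have hev : 2 ∣ σ.support.card := Equiv.Perm.two_dvd_card_support hσ2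
        have hne2 : σ.support.card ≠ 2 := fun h => by
          have := Equiv.Perm.IsSwap.sign_eq (Equiv.Perm.card_support_eq_two.1 h)
          rw [hsign w] at this
          exact absurd this (by decide)
        omega
      have hmoved : ∀ p : ↥E4, W p ≠ p := by
        intro p hp
        have hsub : σ.support ⊆ (Finset.univ.filter fun r : ↥E => (r : GolayPt) ∈ E4 ∧ (r : GolayPt) ≠ p) := by
          intro r hr
          rw [Equiv.Perm.mem_support] at hr
          refine Finset.mem_filter.2 ⟨Finset.mem_univ _, ?_, fun e => hr (Subtype.ext (show W r = r by rw [e]; exact hp))⟩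
          refine Finset.mem_erase.2 ⟨fun e => hr (Subtype.ext (show W r = r by rw [e]; exact (w : ↥Cfsg.Spor.M22).2.2)),
            Finset.mem_erase.2 ⟨fun e => hr (Subtype.ext (show W r = r by rw [e]; exact (w : ↥Cfsg.Spor.M22).2.1.2)), r.2⟩⟩
        have h3 : (Finset.univ.filter fun r : ↥E => (r : GolayPt) ∈ E4 ∧ (r : GolayPt) ≠ p).card ≤ 3 := by
          refine (Finset.card_le_card_of_injOn (fun r : ↥E => (r : GolayPt))
            (t := E4.erase p) (fun r hr => ?_) Subtype.val_injective.injOn).trans ?_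
          · obtain ⟨-, h1, h2⟩ := Finset.mem_filter.1 hr
            exact Finset.mem_erase.2 ⟨h2, h1⟩
          · rw [Finset.card_erase_of_mem p.2, hE4c]
        have := (Finset.card_le_card hsub).trans h3
        omega
      -- the conjugate of `y` fixes the image of `q`
      have hwy : ((w : ↥Cfsg.Spor.M22) * y * (w : ↥Cfsg.Spor.M22)⁻¹) ∈ T0 :=
        (Subgroup.mem_normalizer_iff.1 w.2.1 y).1 hyT
      obtain ⟨i, j, hij⟩ := hwy
      have hq4 : π yA q = q := hq
      have hq' : Y (q : GolayPt) = q := congrArg Subtype.val hq4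
      have hXq : ∀ r ∈ E4, X r = r := fun r hr =>
        ThreeLocalCert.mem_fixSet.1 (Finset.mem_of_mem_erase (Finset.mem_of_mem_erase hr))
      have hWq : W (q : GolayPt) ∈ E4 := (hE4mem w q).2 q.2
      have hyfix : Y (W q) = W q := by
        -- `y` is conjugate to `x ^ i * y ^ j`
        have hyconj : ((w : ↥Cfsg.Spor.M22)⁻¹ * y * (w : ↥Cfsg.Spor.M22)) ∈ T0 := by
          have := (Subgroup.mem_normalizer_iff.1 (inv_mem w.2.1) y).1 hyT
          simpa using this
        obtain ⟨k, l, hkl⟩ := hyconj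
        have hXk : (X ^ k) (q : GolayPt) = q := Function.IsFixedPt.perm_pow (hXq q q.2) k
        have hYl : (Y ^ l) (q : GolayPt) = q := Function.IsFixedPt.perm_pow hq' l
        have e := congrArg (fun v : ↥Cfsg.Spor.M22 => (v : Equiv.Perm GolayPt) (q : GolayPt)) hkl
        simp only [Subgroup.coe_mul, Subgroup.coe_inv, SubmonoidClass.coe_pow, Equiv.Perm.mul_apply] at e
        have e' : (x : Equiv.Perm GolayPt) = X ∧ (y : Equiv.Perm GolayPt) = Y := ⟨rfl, rfl⟩
        rw [e'.1, e'.2, hYl, hXk, Equiv.Perm.inv_eq_iff_eq] at e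
        exact e
      -- so `y` fixes all four points
      have hall : π yA = 1 := by
        by_contra hne'
        have hsq : (π yA) ^ 3 = 1 := by
          rw [← map_pow, show yA ^ 3 = 1 from Subtype.ext hy3, map_one]
        have hcyc : (π yA).support.card = 3 := by
          have h1 : orderOf (π yA) = 3 := orderOf_eq_prime hsq hne'
          have h2 : (π yA).cycleType.sum = (π yA).support.card := Equiv.Perm.sum_cycleType _
          have h3 : ∀ n ∈ (π yA).cycleType, n = 3 := fun n hn => by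
            have hd : n ∣ orderOf (π yA) := Equiv.Perm.dvd_of_mem_cycleType hn
            rw [h1] at hd
            rcases (Nat.dvd_prime Nat.prime_three).1 hd with h | h
            · exact absurd h (Equiv.Perm.one_lt_of_mem_cycleType hn).ne'
            · exact h
          have h4 : (π yA).cycleType.sum = 3 * (π yA).cycleType.card := by
            rw [Multiset.eq_replicate_of_mem h3]; simp [mul_comm]
          have h5 : (π yA).support.card ≤ 4 :=
            (Finset.card_le_univ _).trans (by rw [Fintype.card_coe, hE4c])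
          have h6 : (π yA).cycleType.card ≠ 0 := fun h => hne'
            (Equiv.Perm.cycleType_eq_zero.1 (Multiset.card_eq_zero.1 h))
          omega
        have hsub : (π yA).support ⊆ (Finset.univ.erase q).erase ⟨W q, hWq⟩ := by
          intro r hr
          rw [Equiv.Perm.mem_support] at hr
          exact Finset.mem_erase.2 ⟨fun e => hr (by rw [e]; exact Subtype.ext hyfix),
            Finset.mem_erase.2 ⟨fun e => hr (by rw [e]; exact hq4), Finset.mem_univ _⟩⟩
        have := Finset.card_le_card hsub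
        rw [Finset.card_erase_of_mem, Finset.card_erase_of_mem (Finset.mem_univ _), Finset.card_univ,
          Fintype.card_coe, hE4c, hcyc] at this
        · omega
        · exact Finset.mem_erase.2 ⟨fun e => hmoved q (congrArg Subtype.val e), Finset.mem_univ _⟩
      rcases (hfix yA Y hYm.1.1 (hker yA hall)).2 with h | h | h
      · exact absurd (hone 0 (by norm_num) 1 (by norm_num) (by
          rw [pow_zero, pow_one, one_mul]; exact Subtype.ext h)).2 (by norm_num)
      · have hyx : y = x := Subtype.ext h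
        exact absurd (hone 2 (by norm_num) 1 (by norm_num) (by
          rw [pow_one, hyx, ← pow_succ, hx3])).2 (by norm_num)
      · have hyx : y = x ^ 2 := Subtype.ext h
        exact absurd (hone 1 (by norm_num) 1 (by norm_num) (by
          rw [pow_one, pow_one, hyx, ← pow_succ', hx3])).2 (by norm_num)
    have hcardA := π.ker.card_mul_index
    have hrange := Subgroup.card_subgroup_dvd_card π.range
    rw [Nat.card_perm, show Nat.card ↥E4 = 4 by rw [Nat.card_eq_fintype_card, Fintype.card_coe, hE4c]] at hrange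
    rw [Subgroup.index_ker] at hcardA
    have hA72 : Nat.card ↥A ∣ 8 * 9 := hcardA ▸ (mul_dvd_mul hkcard hrange).trans (by decide)
    exact Nat.le_of_dvd (by norm_num)
      ((Nat.Coprime.dvd_of_dvd_mul_left
        ((Nat.prime_two.coprime_iff_not_dvd.2 hodd).pow_left 3).symm) hA72)
  have h9 : Nat.card ↥(N ⊓ Subgroup.centralizer ({x} : Set ↥Cfsg.Spor.M22)) = 9 :=
    le_antisymm hup (hT0 ▸ Subgroup.card_le_of_le hlow)
  rw [h9] at hcard
  -- any subgroup of order nine
  have hTp : IsPGroup 3 ↥T := IsPGroup.of_card (n := 2) (by rw [hT9]; norm_num)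
  have hTidx : T.index = 49280 := by
    have h1 := T.card_mul_index
    rw [hT9, natCard_M22] at h1
    omega
  let ST : Sylow 3 ↥Cfsg.Spor.M22 := hTp.toSylow (by rw [hTidx]; norm_num)
  obtain ⟨g, hg⟩ := MulAction.exists_smul_eq ↥Cfsg.Spor.M22 S ST
  have e1 : (Subgroup.normalizer (T0 : Set ↥Cfsg.Spor.M22)).map (MulAut.conj g).toMonoidHom =
      Subgroup.normalizer (T : Set ↥Cfsg.Spor.M22) := by
    have hT' : T = T0.map (MulAut.conj g).toMonoidHom := by
      refine (congrArg Sylow.toSubgroup hg).symm.trans ?_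
      ext w
      rw [Sylow.smul_def, Sylow.pointwise_smul_def, Subgroup.mem_pointwise_smul_iff_inv_smul_mem,
        ThreeLocal.mem_map_conj_iff]
      simp [MulAut.smul_def, MulAut.conj_inv_apply, S]
    rw [hT', Subgroup.map_normalizer_eq_of_bijective _ (MulAut.conj g).bijective]
  rw [← e1, Subgroup.card_map_of_injective (MulAut.conj g).injective, ← hcard]

end CfsgLib.Spor.JankoFour.ThreeSylowCert
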